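import Cfsg.Agent.MinSimple.MinParabolic
import Cfsg.Agent.Lib.SylowNormalInf
import Cfsg.Agent.Omega.NoFF.Basic

/-!
# LEMMA T1 (helper162, bb #24923)

`H` acts on the elementary abelian 2-group `M`, `T` is a Sylow 2-subgroup of `H`, `H₁` is normal in `H` with `H = H₁ T`
(i.e. `O²(H) ≤ H₁`), `T₁ = T ∩ H₁`.

* `tr` : the trace `v ↦ ∏ {x v : x T₁ ⊆ P₁}` from `C_M(T₁)` to `C_M(P₁)`;
* `fix_of_trace` : if all `T`-fixed vectors are fixed by `P₁`, `|P₁ : T₁|` is odd and `T` normalises `P₁` and `T₁`, then `P₁`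
  centralises each `T`-invariant subgroup of `C_M(T₁)`;
* **`lemT`** : if every minimal parabolic `P` over `T` which moves a `T`-fixed vector normalises `T₁`, then `T₁` centralises
  `⟨C_M(T)^H⟩`;
* **`lemT_sub`** : the form inside a group: `M, H ≤ G`, `H ≤ N_G(M)`.
-/

set_option autoImplicit false
set_option linter.unusedSectionVars false

namespace Cfsg.Agent.Omega.NOThreeL.RZ.TwoC.LemT

open Subgroup Cfsg
open Cfsg.Agent.MinSimple.MinParabolic (IsMinPar)

/-! ### The trace -/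

section Trace

variable {H : Type*} [Group H] [Finite H] {M : Type*} [CommGroup M] [MulDistribMulAction H M]

/-- the cosets `x T₁` in `P₁` -/
noncomputable def cosets (P₁ T₁ : Subgroup H) : Finset (H ⧸ T₁) :=
  letI := Fintype.ofFinite (H ⧸ T₁)
  letI := Classical.decPred fun c : H ⧸ T₁ => c.out ∈ P₁
  Finset.univ.filter fun c => c.out ∈ P₁

variable {P₁ T₁ T : Subgroup H}

theorem mem_cosets {c : H ⧸ T₁} : c ∈ cosets P₁ T₁ ↔ c.out ∈ P₁ := by
  classical
  simp [cosets]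

theorem mk_mem_cosets (hle : T₁ ≤ P₁) {x : H} : (x : H ⧸ T₁) ∈ cosets P₁ T₁ ↔ x ∈ P₁ := by
  rw [mem_cosets]
  obtain ⟨t, ht⟩ := QuotientGroup.mk_out_eq_mul T₁ x
  rw [ht]
  exact Subgroup.mul_mem_cancel_right _ (hle t.2)

/-- the number of these cosets -/
theorem card_cosets (hle : T₁ ≤ P₁) : (cosets P₁ T₁).card = T₁.relIndex P₁ := by
  classical
  let f : (P₁ ⧸ T₁.subgroupOf P₁) → H ⧸ T₁ := Quotient.lift (fun x : P₁ => ((x : H) : H ⧸ T₁)) (by
    intro a b hab
    exact QuotientGroup.eq.2 (mem_subgroupOf.1 (QuotientGroup.leftRel_apply.1 hab)))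
  have hf : ∀ x : P₁, f (x : P₁ ⧸ T₁.subgroupOf P₁) = ((x : H) : H ⧸ T₁) := fun _ => rfl
  have hinj : Function.Injective f := by
    intro a b
    induction a using QuotientGroup.induction_on
    induction b using QuotientGroup.induction_on
    rw [hf, hf]
    intro h
    exact QuotientGroup.eq.2 (mem_subgroupOf.2 (QuotientGroup.eq.1 h))
  have himg : ((cosets P₁ T₁ : Finset (H ⧸ T₁)) : Set (H ⧸ T₁)) = Set.range f := by
    ext c
    rw [Finset.mem_coe, mem_cosets]
    constructor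
    · intro h
      exact ⟨((⟨c.out, h⟩ : P₁) : P₁ ⧸ T₁.subgroupOf P₁), (hf _).trans (QuotientGroup.out_eq' c)⟩
    · rintro ⟨a, rfl⟩
      induction a using QuotientGroup.induction_on with
      | H x =>
        rw [hf, ← mem_cosets, mk_mem_cosets hle]
        exact x.2
  rw [Subgroup.relIndex, Subgroup.index_eq_card, ← Nat.card_range_of_injective hinj, ← himg]
  simp

/-- the trace -/
noncomputable def tr (P₁ T₁ : Subgroup H) (v : M) : M := ∏ c ∈ cosets P₁ T₁, c.out • v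

theorem tr_mul (v w : M) : tr P₁ T₁ (v * w) = tr P₁ T₁ v * tr P₁ T₁ w := by
  simp [tr, smul_mul', Finset.prod_mul_distrib]

theorem out_smul {v : M} (hv : ∀ t ∈ T₁, t • v = v) (x : H) : ((x : H ⧸ T₁)).out • v = x • v := by
  obtain ⟨t, ht⟩ := QuotientGroup.mk_out_eq_mul T₁ x
  rw [ht, mul_smul, hv t t.2]

/-- the trace is fixed by `P₁` -/
theorem smul_tr (hle : T₁ ≤ P₁) {v : M} (hv : ∀ t ∈ T₁, t • v = v) {p : H} (hp : p ∈ P₁) :
    p • tr P₁ T₁ v = tr P₁ T₁ v := by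
  rw [tr, Finset.smul_prod']
  refine Finset.prod_bij' (fun c _ => p • c) (fun c _ => p⁻¹ • c) ?_ ?_ ?_ ?_ ?_
  · intro c hc
    rw [← QuotientGroup.out_eq' c, MulAction.Quotient.smul_coe, smul_eq_mul, mk_mem_cosets hle]
    exact mul_mem hp (mem_cosets.1 hc)
  · intro c hc
    rw [← QuotientGroup.out_eq' c, MulAction.Quotient.smul_coe, smul_eq_mul, mk_mem_cosets hle]
    exact mul_mem (inv_mem hp) (mem_cosets.1 hc)
  · intro c _
    exact inv_smul_smul p c
  · intro c _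
    exact smul_inv_smul p c
  · intro c _
    conv_rhs => rw [← QuotientGroup.out_eq' c, MulAction.Quotient.smul_coe, smul_eq_mul, out_smul hv, mul_smul]

/-- the trace of a fixed vector -/
theorem tr_of_fix (sq : ∀ m : M, m * m = 1) (hodd : Odd (cosets P₁ T₁).card) {v : M}
    (hv : ∀ p ∈ P₁, p • v = v) : tr P₁ T₁ v = v := by
  rw [tr, Finset.prod_congr rfl (fun c hc => hv _ (mem_cosets.1 hc)), Finset.prod_const]
  obtain ⟨k, hk⟩ := hodd
  rw [hk, pow_add, pow_mul, pow_one, pow_two, sq, one_pow, one_mul]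

/-- the trace commutes with `T` -/
theorem tr_smul (hle : T₁ ≤ P₁) {t : H} (h1 : ∀ x ∈ P₁, t * x * t⁻¹ ∈ P₁) (h1' : ∀ x ∈ P₁, t⁻¹ * x * t ∈ P₁)
    (h2 : ∀ x ∈ T₁, t * x * t⁻¹ ∈ T₁) (h2' : ∀ x ∈ T₁, t⁻¹ * x * t ∈ T₁)
    {v : M} (hv : ∀ x ∈ T₁, x • v = v) : tr P₁ T₁ (t • v) = t • tr P₁ T₁ v := by
  have hv' : ∀ x ∈ T₁, x • t • v = t • v := by
    intro x hx
    have := hv _ (h2' x hx)
    rw [mul_smul, mul_smul, inv_smul_eq_iff] at this
    exact this
  rw [tr, tr, Finset.smul_prod']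
  refine Finset.prod_bij' (fun c _ => ((t⁻¹ * c.out * t : H) : H ⧸ T₁)) (fun c _ => ((t * c.out * t⁻¹ : H) : H ⧸ T₁))
    ?_ ?_ ?_ ?_ ?_
  · intro c hc
    rw [mk_mem_cosets hle]
    exact h1' _ (mem_cosets.1 hc)
  · intro c hc
    rw [mk_mem_cosets hle]
    exact h1 _ (mem_cosets.1 hc)
  · intro c _
    obtain ⟨x, hx⟩ := QuotientGroup.mk_out_eq_mul T₁ (t⁻¹ * c.out * t)
    rw [hx]
    conv_rhs => rw [← QuotientGroup.out_eq' c]
    refine QuotientGroup.eq.2 ?_
    have := h2 _ (inv_mem x.2)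
    have e : (t * (t⁻¹ * c.out * t * (x : H)) * t⁻¹)⁻¹ * c.out = t * (x : H)⁻¹ * t⁻¹ := by group
    rw [e]
    exact this
  · intro c _
    obtain ⟨x, hx⟩ := QuotientGroup.mk_out_eq_mul T₁ (t * c.out * t⁻¹)
    rw [hx]
    conv_rhs => rw [← QuotientGroup.out_eq' c]
    refine QuotientGroup.eq.2 ?_
    have := h2' _ (inv_mem x.2)
    have e : (t⁻¹ * (t * c.out * t⁻¹ * (x : H)) * t)⁻¹ * c.out = t⁻¹ * (x : H)⁻¹ * t := by group
    rw [e]
    exact this
  · intro c _
    rw [out_smul hv, mul_smul, mul_smul, smul_inv_smul]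

end Trace

/-! ### The step -/

section Step

variable {H : Type*} [Group H] [Finite H] {M : Type*} [Group M] [Finite M] [MulDistribMulAction H M]

/-- a 2-group has fixed points on invariant subgroups of `M` -/
theorem exists_fixed (sq : ∀ m : M, m * m = 1) {B : Subgroup H} (hB : IsPGroup 2 B) {W : Subgroup M}
    (hW : W ≠ ⊥) (hWB : ∀ b ∈ B, ∀ x ∈ W, b • x ∈ W) : ∃ w ∈ W, w ≠ 1 ∧ ∀ b ∈ B, b • w = w := by
  let _ : MulAction B W :=
    { smul := fun b x => ⟨(b : H) • (x : M), hWB b b.2 x x.2⟩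
      one_smul := fun x => Subtype.ext (one_smul H (x : M))
      mul_smul := fun b c x => Subtype.ext (mul_smul (b : H) (c : H) (x : M)) }
  have hcard : 2 ∣ Nat.card W := by
    have h1 : IsPGroup 2 W := fun x => ⟨1, by
      rw [pow_one, pow_two]
      exact Subtype.ext (sq x)⟩
    have : Nontrivial W := (Subgroup.nontrivial_iff_ne_bot _).2 hW
    obtain ⟨k, hk⟩ := IsPGroup.iff_card.1 h1
    rw [hk]
    refine dvd_pow_self 2 ?_
    rintro rfl
    have h2 : 1 < Nat.card W := Finite.one_lt_card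
    rw [hk, pow_zero] at h2
    omega
  have : Fact (Nat.Prime 2) := ⟨Nat.prime_two⟩
  obtain ⟨b, hb1, hb2⟩ := hB.exists_fixed_point_of_prime_dvd_card_of_fixed_point (α := W) hcard (a := 1)
    (fun b => Subtype.ext (smul_one (b : H)))
  exact ⟨b, b.2, fun h => hb2 (Subtype.ext h.symm), fun c hc => congrArg Subtype.val (hb1 ⟨c, hc⟩)⟩

/-- **The step.** -/
theorem fix_of_trace (sq : ∀ m : M, m * m = 1) {T T₁ P₁ : Subgroup H} (hT : IsPGroup 2 T) (hle : T₁ ≤ P₁)
    (hodd : ¬ 2 ∣ T₁.relIndex P₁) (hP : T ≤ normalizer (P₁ : Set H)) (h1 : T ≤ normalizer (T₁ : Set H))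
    (hfix : ∀ z : M, (∀ t ∈ T, t • z = z) → ∀ p ∈ P₁, p • z = z) {L : Subgroup M}
    (hL : ∀ t ∈ T, ∀ v ∈ L, t • v ∈ L) (hL1 : ∀ t ∈ T₁, ∀ v ∈ L, t • v = v) :
    ∀ p ∈ P₁, ∀ v ∈ L, p • v = v := by
  have hcomm : ∀ a b : M, a * b = b * a := fun a b => by
    have h3 : ∀ m : M, m⁻¹ = m := fun m => inv_eq_of_mul_eq_one_left (sq m)
    calc a * b = (a * b)⁻¹ := (h3 _).symm
      _ = b⁻¹ * a⁻¹ := mul_inv_rev a b
      _ = b * a := by rw [h3, h3]
  let cg : CommGroup M := { ‹Group M› with mul_comm := hcomm }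
  have hodd' : Odd (cosets P₁ T₁).card := by
    rw [card_cosets hle]
    exact Nat.odd_iff.2 (by omega)
  let θ : M →* M :=
    { toFun := fun v => v * tr P₁ T₁ v
      map_one' := by
        have : tr P₁ T₁ (1 : M) = 1 := by simp [tr]
        rw [this, one_mul]
      map_mul' := fun v w => by
        rw [tr_mul]
        exact mul_mul_mul_comm _ _ _ _ }
  have hθ : ∀ v : M, θ v = v * tr P₁ T₁ v := fun _ => rfl
  have hv1 : ∀ v ∈ L, ∀ t ∈ T₁, t • v = v := fun v hv t ht => hL1 t ht v hv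
  have key : ∀ v ∈ L, θ v = 1 := by
    by_contra hc
    push Not at hc
    obtain ⟨v₀, hv₀, hv₀1⟩ := hc
    have hne : L.map θ ≠ ⊥ := fun h => hv₀1 (by
      have : θ v₀ ∈ L.map θ := mem_map_of_mem θ hv₀
      rwa [h, mem_bot] at this)
    have hinv : ∀ t ∈ T, ∀ x ∈ L.map θ, t • x ∈ L.map θ := by
      rintro t ht _ ⟨v, hv, rfl⟩
      refine ⟨t • v, hL t ht v hv, ?_⟩
      have hn := mem_normalizer_iff.1 (hP ht)
      have hn' := mem_normalizer_iff.1 (hP (inv_mem ht))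
      have hm := mem_normalizer_iff.1 (h1 ht)
      have hm' := mem_normalizer_iff.1 (h1 (inv_mem ht))
      rw [inv_inv] at hn' hm'
      rw [hθ, hθ, smul_mul', tr_smul hle (fun x hx => (hn x).1 hx) (fun x hx => (hn' x).1 hx)
        (fun x hx => (hm x).1 hx) (fun x hx => (hm' x).1 hx) (hv1 v hv)]
    obtain ⟨w, ⟨v, hv, rfl⟩, hw1, hwT⟩ := exists_fixed sq hT hne hinv
    have h2 : tr P₁ T₁ (θ v) = θ v := tr_of_fix sq hodd' (hfix _ hwT)
    have h3 : tr P₁ T₁ (tr P₁ T₁ v) = tr P₁ T₁ v :=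
      tr_of_fix sq hodd' (fun p hp => smul_tr hle (hv1 v hv) hp)
    have h4 : tr P₁ T₁ (θ v) = 1 := by
      rw [hθ, tr_mul, h3]
      exact sq _
    exact hw1 (h2.symm.trans h4)
  intro p hp v hv
  have h5 : v = tr P₁ T₁ v := by
    have := key v hv
    rw [hθ] at this
    have h6 : v⁻¹ = tr P₁ T₁ v := inv_eq_of_mul_eq_one_right this
    rw [← h6]
    exact (inv_eq_of_mul_eq_one_left (sq v)).symm
  rw [h5]
  exact smul_tr hle (hv1 v hv) hp

/-- `[N H : H] = [N : H ∩ N]` for `H ≤ N(N)` -/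
theorem relIndex_sup_of_le {A N : Subgroup H} (h : A ≤ normalizer (N : Set H)) :
    A.relIndex (A ⊔ N) = A.relIndex N := by
  have h1 : (N.subgroupOf (A ⊔ N)).Normal :=
    (Subgroup.normal_subgroupOf_iff_le_normalizer le_sup_right).2 (sup_le h le_normalizer)
  have h2 := Cfsg.Agent.Lib.SylowNormalInf.relIndex_sup_of_normal (A.subgroupOf (A ⊔ N)) (N.subgroupOf (A ⊔ N))
  rw [← Subgroup.subgroupOf_sup le_sup_left le_sup_right, Subgroup.relIndex_subgroupOf le_rfl,
    Subgroup.relIndex_subgroupOf le_sup_right] at h2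
  exact h2

/-- **LEMMA T1.** -/
theorem lemT (sq : ∀ m : M, m * m = 1) {T H₁ : Subgroup H} (hn : H₁.Normal) (hT : IsPGroup 2 T) (hTi : ¬ 2 ∣ T.index)
    (hsup : H₁ ⊔ T = ⊤)
    (hpar : ∀ P : Subgroup H, IsMinPar T P → (∃ z : M, (∀ t ∈ T, t • z = z) ∧ ∃ p ∈ P, p • z ≠ z) →
      P ≤ normalizer ((T ⊓ H₁ : Subgroup H) : Set H)) :
    ∀ z : M, (∀ t ∈ T, t • z = z) → ∀ h t : H, t ∈ T → t ∈ H₁ → t • h • z = h • z := by
  set T₁ : Subgroup H := T ⊓ H₁ with hT₁
  set N : Subgroup H := normalizer (T₁ : Set H) with hN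
  have hTN : normalizer (T : Set H) ≤ N := by
    intro x hx
    rw [mem_normalizer_iff] at hx ⊢
    intro y
    have h3 : y ∈ H₁ ↔ x * y * x⁻¹ ∈ H₁ := by
      constructor
      · intro hy
        exact hn.conj_mem y hy x
      · intro hy
        have := hn.conj_mem _ hy x⁻¹
        have e : x⁻¹ * (x * y * x⁻¹) * x⁻¹⁻¹ = y := by group
        rwa [e] at this
    rw [hT₁, mem_inf, mem_inf, ← hx y, ← h3]
  let Λ : Subgroup M := closure {m | ∃ n ∈ N, ∃ z : M, (∀ t ∈ T, t • z = z) ∧ m = n • z}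
  have hΛN : ∀ n ∈ N, ∀ v ∈ Λ, n • v ∈ Λ := by
    intro n hnN
    have h1 : Λ ≤ Λ.comap (MulDistribMulAction.toMonoidHom M n) := by
      refine (closure_le _).2 ?_
      rintro _ ⟨k, hk, z, hz, rfl⟩
      refine subset_closure ⟨n * k, mul_mem hnN hk, z, hz, ?_⟩
      exact (mul_smul _ _ _).symm
    exact fun v hv => h1 hv
  have hT1 : T ≤ N := le_normalizer.trans hTN
  have hΛT : ∀ t ∈ T₁, ∀ v ∈ Λ, t • v = v := by
    intro t ht
    have h1 : Λ ≤ (MonoidHom.eqLocus (MulDistribMulAction.toMonoidHom M t) (MonoidHom.id M)) := by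
      refine (closure_le _).2 ?_
      rintro _ ⟨k, hk, z, hz, rfl⟩
      change t • k • z = k • z
      have h2 : k⁻¹ * t * k ∈ T₁ := by
        have := (mem_normalizer_iff.1 (inv_mem hk) t).1 ht
        rwa [inv_inv] at this
      have h3 := hz _ h2.1
      rwa [mul_smul, mul_smul, inv_smul_eq_iff] at h3
    exact fun v hv => h1 hv
  let Y : Subgroup H :=
    { carrier := {h | (∀ v ∈ Λ, h • v ∈ Λ) ∧ ∀ v ∈ Λ, h⁻¹ • v ∈ Λ}
      one_mem' := ⟨fun v hv => by rwa [one_smul], fun v hv => by rwa [inv_one, one_smul]⟩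
      mul_mem' := fun {a b} ha hb => ⟨fun v hv => by
          rw [mul_smul]
          exact ha.1 _ (hb.1 v hv), fun v hv => by
          rw [mul_inv_rev, mul_smul]
          exact hb.2 _ (ha.2 v hv)⟩
      inv_mem' := fun {a} ha => ⟨ha.2, fun v hv => by
          rw [inv_inv]
          exact ha.1 v hv⟩ }
  have hNY : N ≤ Y := fun n hn => ⟨hΛN n hn, hΛN _ (inv_mem hn)⟩
  have hY : (⊤ : Subgroup H) ≤ Y := by
    refine Cfsg.Agent.MinSimple.MinParabolic.le_of_forall (S := T) le_top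
      (inf_le_right.trans (hTN.trans hNY)) fun P hP _ => ?_
    by_cases hPm : ∃ z : M, (∀ t ∈ T, t • z = z) ∧ ∃ p ∈ P, p • z ≠ z
    · exact (hpar P hP hPm).trans hNY
    push Not at hPm
    have hdec : ∀ p ∈ P, ∃ h ∈ P ⊓ H₁, ∃ t ∈ T, p = h * t := by
      intro p hp
      have h1 : p ∈ H₁ ⊔ T := hsup ▸ mem_top p
      obtain ⟨h, hh, t, ht, rfl⟩ := Subgroup.mem_sup_of_normal_left.1 h1
      refine ⟨h, ⟨?_, hh⟩, t, ht, rfl⟩
      have := mul_mem hp (inv_mem (hP.le ht))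
      rwa [mul_inv_cancel_right] at this
    have hTP : T ≤ normalizer ((P ⊓ H₁ : Subgroup H) : Set H) := by
      intro t ht
      have h1 : T ≤ normalizer (P : Set H) := hP.le.trans le_normalizer
      have h2 := mem_normalizer_iff.1 (h1 ht)
      rw [mem_normalizer_iff]
      intro y
      have h3 : y ∈ H₁ ↔ t * y * t⁻¹ ∈ H₁ := by
        constructor
        · intro hy
          exact hn.conj_mem y hy t
        · intro hy
          have := hn.conj_mem _ hy t⁻¹
          have e : t⁻¹ * (t * y * t⁻¹) * t⁻¹⁻¹ = y := by group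
          rwa [e] at this
      rw [mem_inf, mem_inf, ← h3, ← h2 y]
    have hle : T₁ ≤ P ⊓ H₁ := le_inf (inf_le_left.trans hP.le) inf_le_right
    have hodd : ¬ 2 ∣ T₁.relIndex (P ⊓ H₁) := by
      have e1 : T₁.relIndex (P ⊓ H₁) = T.relIndex (P ⊓ H₁) := by
        rw [← Subgroup.inf_relIndex_right T₁, ← Subgroup.inf_relIndex_right T]
        congr 1
        apply le_antisymm
        · exact inf_le_inf_right _ inf_le_left
        · exact le_inf (le_inf inf_le_left (inf_le_right.trans inf_le_right)) inf_le_right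
      rw [e1, ← relIndex_sup_of_le hTP]
      exact fun hd => hTi (hd.trans (Subgroup.relIndex_dvd_index_of_le le_sup_left))
    have hfix := fix_of_trace sq hT hle hodd hTP hT1 (fun z hz p hp => hPm z hz p hp.1)
      (fun t ht v hv => hΛN t (hT1 ht) v hv) hΛT
    have hPΛ : ∀ p ∈ P, ∀ v ∈ Λ, p • v ∈ Λ := by
      intro p hp v hv
      obtain ⟨h, hh, t, ht, rfl⟩ := hdec p hp
      rw [mul_smul, hfix h hh _ (hΛN t (hT1 ht) v hv)]
      exact hΛN t (hT1 ht) v hv
    exact fun p hp => ⟨hPΛ p hp, hPΛ _ (inv_mem hp)⟩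
  intro z hz h t ht ht'
  refine hΛT t ⟨ht, ht'⟩ _ ((hY (mem_top h)).1 _ (subset_closure ⟨1, one_mem _, z, hz, (one_smul _ _).symm⟩))

end Step

/-! ### Inside a group -/

section Sub

variable {G : Type*} [Group G]

theorem conj_mem_of_le {A B : Subgroup G} (h : A ≤ normalizer (B : Set G)) {a b : G} (ha : a ∈ A) (hb : b ∈ B) :
    a * b * a⁻¹ ∈ B := (mem_normalizer_iff.1 (h ha) b).1 hb

theorem le_normalizer_of [Finite G] {A B : Subgroup G} (h : ∀ a ∈ A, ∀ b ∈ B, a * b * a⁻¹ ∈ B) :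
    A ≤ normalizer (B : Set G) := by
  intro a ha
  rw [mem_normalizer_iff]
  intro b
  refine ⟨fun hb => h a ha b hb, fun hb => ?_⟩
  have := h _ (inv_mem ha) _ hb
  have e : a⁻¹ * (a * b * a⁻¹) * a⁻¹⁻¹ = b := by group
  rwa [e] at this

theorem minPar_map_subtype [Finite G] {R T : Subgroup G} (hTR : T ≤ R) {P : Subgroup R}
    (h : IsMinPar (T.subgroupOf R) P) : IsMinPar T (P.map R.subtype) := by
  have hT : (T.subgroupOf R).map R.subtype = T := by rw [subgroupOf_map_subtype, inf_eq_left.2 hTR]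
  refine ⟨?_, ?_, ?_⟩
  · rw [← hT]
    exact map_mono h.le
  · intro hP
    refine h.not_le (le_normalizer_of fun p hp x hx => ?_)
    rw [mem_subgroupOf] at hx ⊢
    exact conj_mem_of_le hP ⟨p, hp, rfl⟩ hx
  · obtain ⟨M, hM, hM2⟩ := h.exists_max
    refine ⟨M.map R.subtype, (map_lt_map_iff_of_injective R.subtype_injective).2 hM, fun K hTK hK => ?_⟩
    have hKR : K ≤ R := hK.le.trans (map_subtype_le P)
    have e : (K.subgroupOf R).map R.subtype = K := by rw [subgroupOf_map_subtype, inf_eq_left.2 hKR]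
    rw [← e] at hK ⊢
    refine map_mono (hM2 _ ?_ ((map_lt_map_iff_of_injective R.subtype_injective).1 hK))
    exact fun x hx => hTK hx

/-- **LEMMA T1 inside a group.** -/
theorem lemT_sub [Finite G] {M H H₁ T : Subgroup G} (hM : ∀ m ∈ M, m * m = 1) (hHM : H ≤ normalizer (M : Set G))
    (hTH : T ≤ H) (hT : IsPGroup 2 T) (hTi : ¬ 2 ∣ T.relIndex H) (hH₁ : H₁ ≤ H) (hn : H ≤ normalizer (H₁ : Set G))
    (hsup : H ≤ H₁ ⊔ T)
    (hpar : ∀ P : Subgroup G, P ≤ H → IsMinPar T P →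
      ¬ P ≤ centralizer ((M ⊓ centralizer (T : Set G) : Subgroup G) : Set G) →
      P ≤ normalizer ((T ⊓ H₁ : Subgroup G) : Set G)) :
    T ⊓ H₁ ≤ centralizer ((NoFF.Basic.V (M ⊓ centralizer (T : Set G)) H : Subgroup G) : Set G) := by
  let act : MulDistribMulAction H M :=
    { smul := fun h m => ⟨(h : G) * m * (h : G)⁻¹, conj_mem_of_le hHM h.2 m.2⟩
      one_smul := fun m => Subtype.ext (by
        change (1 : G) * m * (1 : G)⁻¹ = m
        group)
      mul_smul := fun a b m => Subtype.ext (by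
        change ((a : G) * b) * m * ((a : G) * b)⁻¹ = a * (b * m * (b : G)⁻¹) * (a : G)⁻¹
        group)
      smul_one := fun a => Subtype.ext (by
        change (a : G) * 1 * (a : G)⁻¹ = 1
        group)
      smul_mul := fun a m n => Subtype.ext (by
        change (a : G) * (m * n) * (a : G)⁻¹ = a * m * (a : G)⁻¹ * (a * n * (a : G)⁻¹)
        group) }
  have hact : ∀ (h : H) (m : M), ((h • m : M) : G) = h * m * (h : G)⁻¹ := fun _ _ => rfl
  have hT' : (T.subgroupOf H).map H.subtype = T := by rw [subgroupOf_map_subtype, inf_eq_left.2 hTH]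
  have key := lemT (H := H) (M := M) (fun m => Subtype.ext (hM m m.2)) (T := T.subgroupOf H) (H₁ := H₁.subgroupOf H)
    ((Subgroup.normal_subgroupOf_iff_le_normalizer hH₁).2 hn)
    (hT.comap_of_injective H.subtype H.subtype_injective) hTi
    (by
      rw [← Subgroup.subgroupOf_sup hH₁ hTH, Subgroup.subgroupOf_eq_top]
      exact hsup)
    (by
      rintro P hP ⟨z, hz, p, hp, hpz⟩
      have h1 := hpar (P.map H.subtype) (map_subtype_le P) (minPar_map_subtype hTH hP) (fun hc => ?_)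
      · refine le_normalizer_of fun a ha b hb => ?_
        have h2 := conj_mem_of_le h1 (mem_map_of_mem H.subtype ha)
          (show (b : G) ∈ T ⊓ H₁ from ⟨mem_subgroupOf.1 hb.1, mem_subgroupOf.1 hb.2⟩)
        exact ⟨mem_subgroupOf.2 h2.1, mem_subgroupOf.2 h2.2⟩
      · refine hpz (Subtype.ext ?_)
        rw [hact]
        have h2 : (z : G) ∈ M ⊓ centralizer (T : Set G) := by
          refine ⟨z.2, mem_centralizer_iff.2 fun t ht => ?_⟩
          have h3 := congrArg Subtype.val (hz ⟨t, hTH ht⟩ (mem_subgroupOf.2 ht))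
          rw [hact] at h3
          exact mul_inv_eq_iff_eq_mul.1 h3
        have h4 := mem_centralizer_iff.1 (hc (mem_map_of_mem H.subtype hp)) _ h2
        rw [mul_inv_eq_iff_eq_mul]
        exact h4.symm)
  intro t ht
  have hV : NoFF.Basic.V (M ⊓ centralizer (T : Set G)) H ≤ centralizer ({t} : Set G) := by
    refine iSup_le fun h => ?_
    intro y hy
    rw [NoFF.Basic.mem_conj] at hy
    have hy2 : ∀ s ∈ T.subgroupOf H, s • (⟨_, hy.1⟩ : M) = ⟨_, hy.1⟩ := by
      intro s hs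
      refine Subtype.ext ?_
      rw [hact, mul_inv_eq_iff_eq_mul]
      exact mem_centralizer_iff.1 hy.2 _ (mem_subgroupOf.1 hs)
    have h5 := congrArg Subtype.val (key ⟨_, hy.1⟩ hy2 h ⟨t, hTH ht.1⟩ (mem_subgroupOf.2 ht.1) (mem_subgroupOf.2 ht.2))
    rw [hact, hact] at h5
    have e : (h : G) * ((h : G)⁻¹ * y * h) * (h : G)⁻¹ = y := by group
    dsimp only at h5
    rw [e, mul_inv_eq_iff_eq_mul] at h5
    rw [mem_centralizer_singleton_iff]
    exact h5.symm
  rw [mem_centralizer_iff]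
  intro y hy
  exact mem_centralizer_singleton_iff.1 (hV hy)

end Sub

end Cfsg.Agent.Omega.NOThreeL.RZ.TwoC.LemT
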