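import Cfsg.Agent.Omega.NOThreeL.RRed.Blk.Def
import Cfsg.Agent.Omega.NOThreeL.RZ.Fact

/-!
# [R-z]: the block algebra (#25118, #25135, #25243 (1), (4)) over `Blk.Dec`

`S` a 2-group, `Dec S L U N E R₀`: `U = ∏ N b × R₀`.

* `Orbs L N E O` : `O b ⊆ N b ∖ {1}` has odd order, `E b` is transitive on `O b`, `L` permutes the `O b`;
* `PP N R₀ O` : the elements of `∏ N b` with all components in `O b`; their number is odd (`odd_PP`), `⨆ E b` is
  transitive on them (`tr_PP`);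
* **`exists_e`** : `S` centralises some `e ∈ PP`, and `L = C_L(e) ⟨E b⟩` for every such `e`;
* `zc_eq`, `sep`, `disj`, `gen_eq` : `Z = (Z ∩ B)(Z ∩ R₀)`, `R₀ = ⟨(Z ∩ R₀)^L⟩`, `B = ⟨(Z ∩ B)^L⟩`.
-/

set_option autoImplicit false
set_option linter.unusedSectionVars false

namespace Cfsg.Agent.Omega.NOThreeL.RZ.TwoC.DecE

open Subgroup Cfsg
open Cfsg.Agent.ZN (zc zl)
open Cfsg.Agent.MinSimple.VModule (zc_le_zl le_normalizer_zl zl_le mem_zc)
open Cfsg.Agent.Omega.NOThreeL.RRed.Blk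
open scoped Pointwise

universe u v

variable {G : Type u} [Group G] {ι : Type v}

/-- Orbits of odd length, one in each block. -/
structure Orbs (L : Subgroup G) (N E : ι → Subgroup G) (O : ι → Set G) : Prop where
  sub : ∀ b, O b ⊆ N b
  one : ∀ b, (1 : G) ∉ O b
  odd : ∀ b, Odd (Nat.card (O b))
  tr : ∀ b, ∀ x ∈ O b, ∀ y ∈ O b, ∃ e ∈ E b, e * x * e⁻¹ = y
  inv : ∀ g ∈ L, ∀ b c, MulAut.conj g • N b = N c → ∀ x ∈ O b, g * x * g⁻¹ ∈ O c

/-- The elements of `∏ N b` all whose components lie in the `O b`. -/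
def PP (N : ι → Subgroup G) (R₀ : Subgroup G) (O : ι → Set G) : Set G :=
  {z | z ∈ (⨆ b, N b) ∧ ∀ b, ∃ n ∈ O b, IsC N R₀ b z n}

variable {S L U : Subgroup G} {N E : ι → Subgroup G} {R₀ : Subgroup G} {O : ι → Set G}

theorem smul_of_norm {W : Subgroup G} {g : G} (hg : g ∈ normalizer (W : Set G)) : MulAut.conj g • W = W := by
  ext x
  rw [mem_pointwise_smul_iff_inv_smul_mem, ← map_inv, MulAut.smul_def, MulAut.conj_apply]
  have h1 := mem_normalizer_iff.1 (inv_mem hg) x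
  exact h1.symm

section
variable (h : Dec S L U N E R₀)
include h

theorem B_le : (⨆ b, N b) ≤ U := by
  rw [← h.sup]; exact le_sup_left

theorem R_le : R₀ ≤ U := by
  rw [← h.sup]; exact le_sup_right

/-- `⟨E b⟩ ≤ L` centralises `R₀`. -/
theorem E_le : (⨆ b, E b) ≤ L := iSup_le h.EL

theorem E_cent : (⨆ b, E b) ≤ centralizer (R₀ : Set G) := iSup_le h.ER

/-- an element with prescribed components -/
theorem ex_of (s : Finset ι) (f : ι → G) (hf : ∀ b, f b ∈ N b) :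
    ∃ z ∈ ⨆ b, N b, (∀ b ∈ s, IsC N R₀ b z (f b)) ∧ ∀ b ∉ s, IsC N R₀ b z 1 := by
  classical
  induction s using Finset.induction_on with
  | empty => exact ⟨1, one_mem _, by simp, fun b _ => h.comp_one (one_mem _)⟩
  | insert a s ha ih =>
    obtain ⟨z, hz, h1, h2⟩ := ih
    refine ⟨f a * z, mul_mem (le_iSup N a (hf a)) hz, fun b hb => ?_, fun b hb => ?_⟩
    · rcases Finset.mem_insert.1 hb with rfl | hb
      · have h3 := h.comp_mul (h.comp_self (hf b)) (h2 b ha)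
        rwa [mul_one] at h3
      · have hab : a ≠ b := fun e => ha (e ▸ hb)
        have h3 := h.comp_mul (h.comp_ne hab (hf a)) (h1 b hb)
        rwa [one_mul] at h3
    · rw [Finset.mem_insert, not_or] at hb
      have h3 := h.comp_mul (h.comp_ne (Ne.symm hb.1) (hf a)) (h2 b hb.2)
      rwa [one_mul] at h3

/-- conjugation by `e ∈ E b` changes the component `b` only -/
theorem conj_E [DecidableEq ι] {b : ι} {e x : G} (he : e ∈ E b) {c : ι} {n : G} (hn : IsC N R₀ c x n) :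
    IsC N R₀ c (e * x * e⁻¹) (if c = b then e * n * e⁻¹ else n) := by
  have h0 : MulAut.conj e • N c = N c := by
    by_cases hc : c = b
    · subst hc; exact smul_of_norm (h.EN c he)
    · exact smul_of_norm (centralizer_le_normalizer _ (h.EC b c (Ne.symm hc) he))
  have h1 := h.comp_conj (h.EL b he) h0 hn
  split_ifs with hc
  · exact h1
  · rwa [cent (h.EC b c (Ne.symm hc) he) hn.1] at h1

theorem norm_B {g : G} (hg : g ∈ L) {x : G} (hx : x ∈ ⨆ b, N b) : g * x * g⁻¹ ∈ ⨆ b, N b := by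
  have key : MulAut.conj g • (⨆ b, N b) ≤ ⨆ b, N b := by
    rw [show MulAut.conj g • (⨆ b, N b) = ⨆ b, MulAut.conj g • N b from Subgroup.map_iSup _ _]
    refine iSup_le fun b => ?_
    obtain ⟨c, hc, _⟩ := h.perm g hg b
    rw [hc]
    exact le_iSup N c
  exact key ((conj_smul rfl).1 hx)

theorem le_norm_B : L ≤ normalizer ((⨆ b, N b : Subgroup G) : Set G) := by
  intro g hg
  rw [mem_normalizer_iff]
  intro x
  refine ⟨fun hx => norm_B h hg hx, fun hx => ?_⟩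
  have h1 := norm_B h (inv_mem hg) hx
  have e : g⁻¹ * (g * x * g⁻¹) * g⁻¹⁻¹ = x := by group
  rwa [e] at h1

variable (o : Orbs L N E O)
include o

/-- `L` acts on `PP` -/
theorem PP_conj {g : G} (hg : g ∈ L) {z : G} (hz : z ∈ PP N R₀ O) : g * z * g⁻¹ ∈ PP N R₀ O := by
  refine ⟨norm_B h hg hz.1, fun c => ?_⟩
  obtain ⟨b, hb, _⟩ := h.perm g⁻¹ (inv_mem hg) c
  have hb' : MulAut.conj g • N b = N c := by
    rw [← hb, map_inv, smul_inv_smul]
  obtain ⟨n, hn, hc⟩ := hz.2 b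
  exact ⟨_, o.inv g hg b c hb' n hn, h.comp_conj hg hb' hc⟩

theorem ne_one [Nonempty ι] {z : G} (hz : z ∈ PP N R₀ O) : z ≠ 1 := by
  rintro rfl
  obtain ⟨b⟩ := ‹Nonempty ι›
  obtain ⟨n, hn, hc⟩ := hz.2 b
  have h1 := h.uniq hc (h.comp_one (one_mem _))
  exact o.one b (h1 ▸ hn)

/-- the number of elements of `PP` is odd -/
theorem odd_PP [Finite ι] : Odd (Nat.card (PP N R₀ O)) := by
  classical
  have := Fintype.ofFinite ι
  have key : Nat.card (PP N R₀ O) = Nat.card (∀ b, O b) := by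
    refine Nat.card_congr (Equiv.ofBijective
      (fun z : PP N R₀ O => fun b => ⟨(z.2.2 b).choose, (z.2.2 b).choose_spec.1⟩) ⟨?_, ?_⟩)
    · intro z z' e
      refine Subtype.ext (h.ext z.2.1 z'.2.1 fun b => ⟨(z.2.2 b).choose, (z.2.2 b).choose_spec.2, ?_⟩)
      have h1 : (z.2.2 b).choose = (z'.2.2 b).choose := congrArg Subtype.val (congrFun e b)
      rw [h1]
      exact (z'.2.2 b).choose_spec.2
    · intro f
      obtain ⟨z, hz, h1, _⟩ := ex_of h Finset.univ (fun b => ((f b : O b) : G)) fun b => o.sub b (f b).2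
      have hz' : z ∈ PP N R₀ O := ⟨hz, fun b => ⟨f b, (f b).2, h1 b (Finset.mem_univ _)⟩⟩
      refine ⟨⟨z, hz'⟩, funext fun b => Subtype.ext ?_⟩
      exact h.uniq (hz'.2 b).choose_spec.2 (h1 b (Finset.mem_univ _))
  rw [key, Nat.card_pi]
  exact Finset.prod_induction _ Odd (fun _ _ => Odd.mul) odd_one fun b _ => o.odd b

/-- `⟨E b⟩` is transitive on `PP` -/
theorem tr_PP [Finite ι] {z z' : G} (hz : z ∈ PP N R₀ O) (hz' : z' ∈ PP N R₀ O) :
    ∃ e ∈ ⨆ b, E b, e * z * e⁻¹ = z' := by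
  classical
  have := Fintype.ofFinite ι
  choose n hn hc using hz.2
  choose n' hn' hc' using hz'.2
  have key : ∀ s : Finset ι, ∃ e ∈ ⨆ b, E b, ∀ b, IsC N R₀ b (e * z * e⁻¹) (if b ∈ s then n' b else n b) := by
    intro s
    induction s using Finset.induction_on with
    | empty => exact ⟨1, one_mem _, fun b => by simpa using hc b⟩
    | insert a s ha ih =>
      obtain ⟨e, he, h1⟩ := ih
      obtain ⟨x, hx, hxa⟩ := o.tr a (n a) (hn a) (n' a) (hn' a)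
      refine ⟨x * e, mul_mem (le_iSup E a hx) he, fun b => ?_⟩
      have h2 := conj_E h hx (h1 b)
      have e2 : x * (e * z * e⁻¹) * x⁻¹ = x * e * z * (x * e)⁻¹ := by group
      rw [e2] at h2
      by_cases hb : b = a
      · subst hb
        rw [if_pos rfl, if_neg ha, hxa] at h2
        rwa [if_pos (Finset.mem_insert_self _ _)]
      · rw [if_neg hb] at h2
        have e3 : (b ∈ insert a s) ↔ b ∈ s := by rw [Finset.mem_insert]; tauto
        simpa only [e3] using h2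
  obtain ⟨e, he, h1⟩ := key Finset.univ
  refine ⟨e, he, h.ext (norm_B h (E_le h he) hz.1) hz'.1 fun b => ⟨n' b, ?_, hc' b⟩⟩
  simpa using h1 b

/-- **`L = C_L(e) ⟨E b⟩` for `e ∈ PP`** -/
theorem le_of [Finite ι] {e : G} (he : e ∈ PP N R₀ O) :
    L ≤ (L ⊓ centralizer ({e} : Set G)) ⊔ ⨆ b, E b := by
  intro g hg
  obtain ⟨x, hx, hxe⟩ := tr_PP h o he (PP_conj h o hg he)
  have h1 : x⁻¹ * g ∈ L ⊓ centralizer ({e} : Set G) := by
    refine mem_inf.2 ⟨L.mul_mem (L.inv_mem (E_le h hx)) hg, ?_⟩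
    rw [mem_centralizer_iff]
    intro y hy
    rw [Set.mem_singleton_iff.1 hy]
    have h2 : x * e * x⁻¹ = g * e * g⁻¹ := hxe
    calc e * (x⁻¹ * g) = x⁻¹ * (x * e * x⁻¹) * g := by group
      _ = x⁻¹ * (g * e * g⁻¹) * g := by rw [h2]
      _ = x⁻¹ * g * e := by group
  have e2 : g = x * (x⁻¹ * g) := by group
  rw [e2]
  exact mul_mem (mem_sup_right hx) (mem_sup_left h1)

/-- **the vector `e` of full support** -/
theorem exists_e [Finite ι] (hS : IsPGroup 2 S) :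
    ∃ e ∈ PP N R₀ O, S ≤ centralizer ({e} : Set G) := by
  let act : MulAction S (PP N R₀ O) :=
    { smul := fun s z => ⟨s * z * (s : G)⁻¹, PP_conj h o (h.SL s.2) z.2⟩
      one_smul := fun z => Subtype.ext (by
        change ((1 : S) : G) * z * ((1 : S) : G)⁻¹ = z
        simp)
      mul_smul := fun s t z => Subtype.ext (by
        change ((s * t : S) : G) * z * ((s * t : S) : G)⁻¹ = s * (t * z * (t : G)⁻¹) * (s : G)⁻¹
        rw [Subgroup.coe_mul]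
        group) }
  obtain ⟨z, hz⟩ := hS.nonempty_fixed_point_of_prime_not_dvd_card (PP N R₀ O)
    (by have := odd_PP h o; rwa [← Nat.not_even_iff_odd, even_iff_two_dvd] at this)
  refine ⟨z, z.2, fun s hs => ?_⟩
  rw [mem_centralizer_iff]
  intro y hy
  rw [Set.mem_singleton_iff.1 hy]
  have h1 : (s : G) * z * (s : G)⁻¹ = z := congrArg Subtype.val (hz ⟨s, hs⟩)
  calc (z : G) * s = s * z * s⁻¹ * s := by rw [h1]
    _ = s * z := by group

end

/-! ### FACT 1 -/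

section
variable (h : Dec S L U N E R₀)
include h

/-- `B ∩ R₀ = 1` -/
theorem disj [Finite ι] : (⨆ b, N b) ⊓ R₀ = ⊥ := by
  rw [eq_bot_iff]
  intro x hx
  rw [mem_bot]
  exact h.ext hx.1 (one_mem _) fun b => ⟨1, h.comp_one (h.R_le_Co b hx.2), h.comp_one (one_mem _)⟩

theorem ex_mul {x : G} (hx : x ∈ U) : ∃ b ∈ ⨆ b, N b, ∃ r ∈ R₀, x = b * r := by
  rw [← h.sup] at hx
  exact mem_sup_of (h.nor (B_le h) (R_le h)) hx

/-- `b r = b' r'` implies `b = b'`, `r = r'` -/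
theorem uniq_mul [Finite ι] {b b' r r' : G} (hb : b ∈ ⨆ b, N b) (hb' : b' ∈ ⨆ b, N b) (hr : r ∈ R₀) (hr' : r' ∈ R₀)
    (e : b * r = b' * r') : b = b' ∧ r = r' := by
  have h1 : b'⁻¹ * b ∈ (⨆ b, N b) ⊓ R₀ := by
    refine mem_inf.2 ⟨mul_mem (inv_mem hb') hb, ?_⟩
    have e1 : b'⁻¹ * b = r' * r⁻¹ := by
      rw [inv_mul_eq_iff_eq_mul, ← mul_assoc, ← e, mul_assoc, mul_inv_cancel, mul_one]
    rw [e1]
    exact mul_mem hr' (inv_mem hr)
  rw [disj h, mem_bot, inv_mul_eq_one] at h1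
  subst h1
  exact ⟨rfl, mul_left_cancel e⟩

/-- **(\*)** `g ∈ L` fixes `b r` only if it fixes `b` and `r` -/
theorem sep [Finite ι] {g b r : G} (hg : g ∈ L) (hb : b ∈ ⨆ b, N b) (hr : r ∈ R₀)
    (e : g * (b * r) * g⁻¹ = b * r) : g * b * g⁻¹ = b ∧ g * r * g⁻¹ = r := by
  refine uniq_mul h (norm_B h hg hb) hb (conj_of (h.Rnor hg) hr) hr ?_
  rw [← e]; group

/-- **`Z = (Z ∩ B) (Z ∩ R₀)`** -/
theorem zc_eq [Finite ι] (hUS : U ≤ S) (hsq : ∀ v ∈ U, v ^ 2 = 1) (hZ : zc S ≤ U) :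
    zc S = (zc S ⊓ ⨆ b, N b) ⊔ (zc S ⊓ R₀) := by
  apply le_antisymm _ (sup_le inf_le_left inf_le_left)
  intro z hz
  obtain ⟨b, hb, r, hr, e⟩ := ex_mul h (hZ hz)
  have h1 : ∀ s ∈ S, s * b * s⁻¹ = b ∧ s * r * s⁻¹ = r := by
    intro s hs
    refine sep h (h.SL hs) hb hr ?_
    rw [← e, (mem_zc.1 hz).2.1 s hs, mul_inv_cancel_right]
  have h2 : ∀ x ∈ U, (∀ s ∈ S, s * x * s⁻¹ = x) → x ∈ zc S := fun x hx hf =>
    mem_zc.2 ⟨hUS hx, fun s hs => by
      conv_rhs => rw [← hf s hs]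
      group, hsq x hx⟩
  rw [e]
  exact mul_mem (mem_sup_left ⟨h2 b (B_le h hb) fun s hs => (h1 s hs).1, hb⟩)
    (mem_sup_right ⟨h2 r (R_le h hr) fun s hs => (h1 s hs).2, hr⟩)

theorem zl_le_V [Finite ι] (hUS : U ≤ S) (hsq : ∀ v ∈ U, v ^ 2 = 1) (hZ : zc S ≤ U) :
    zl S L ≤ NoFF.Basic.V (zc S ⊓ ⨆ b, N b) L ⊔ NoFF.Basic.V (zc S ⊓ R₀) L := by
  refine zl_le ?_ (Cfsg.Agent.Omega.NO3b.Bang.le_normalizer_sup (Cfsg.Agent.Omega.NOThreeL.RZ.le_norm_V _ _)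
    (Cfsg.Agent.Omega.NOThreeL.RZ.le_norm_V _ _))
  conv_lhs => rw [zc_eq h hUS hsq hZ]
  exact sup_le_sup (RZ.Z_le _ _) (RZ.Z_le _ _)

/-- **`R₀ = ⟨(Z ∩ R₀)^L⟩`, `B = ⟨(Z ∩ B)^L⟩`** -/
theorem gen_eq [Finite ι] (hUS : U ≤ S) (hsq : ∀ v ∈ U, v ^ 2 = 1) (hU : U = zl S L) :
    (⨆ b, N b) = NoFF.Basic.V (zc S ⊓ ⨆ b, N b) L ∧ R₀ = NoFF.Basic.V (zc S ⊓ R₀) L := by
  have hZ : zc S ≤ U := by rw [hU]; exact zc_le_zl _ _
  have hB : NoFF.Basic.V (zc S ⊓ ⨆ b, N b) L ≤ ⨆ b, N b := RZ.V_le_of inf_le_right (le_norm_B h)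
  have hR : NoFF.Basic.V (zc S ⊓ R₀) L ≤ R₀ := RZ.V_le_of inf_le_right h.Rnor
  have key : ∀ x ∈ U, ∃ b ∈ NoFF.Basic.V (zc S ⊓ ⨆ b, N b) L, ∃ r ∈ NoFF.Basic.V (zc S ⊓ R₀) L, x = b * r := by
    intro x hx
    rw [hU] at hx
    exact mem_sup_of (h.nor (hB.trans (B_le h)) (hR.trans (R_le h))) (zl_le_V h hUS hsq hZ hx)
  refine ⟨le_antisymm (fun x hx => ?_) hB, le_antisymm (fun x hx => ?_) hR⟩
  · obtain ⟨b, hb, r, hr, e⟩ := key x (B_le h hx)
    have h1 := (uniq_mul h hx (hB hb) (one_mem _) (hR hr) (by rw [mul_one]; exact e)).1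
    rw [h1]; exact hb
  · obtain ⟨b, hb, r, hr, e⟩ := key x (R_le h hx)
    have h1 := (uniq_mul h (one_mem _) (hB hb) hx (hR hr) (by rw [one_mul]; exact e)).2
    rw [h1]; exact hr

/-- a subgroup normalised by `C(e)` and the `E b` is normalised by `L` -/
theorem le_of_le [Finite ι] (o : Orbs L N E O) {e : G} (he : e ∈ PP N R₀ O) {X : Subgroup G}
    (h1 : L ⊓ centralizer ({e} : Set G) ≤ X) (h2 : ∀ b, E b ≤ X) : L ≤ X :=
  (le_of h o he).trans (sup_le h1 (iSup_le h2))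

end

end Cfsg.Agent.Omega.NOThreeL.RZ.TwoC.DecE
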