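import Cfsg.Agent.Omega.GI.Main

/-!
# [R-z], case (II) (helper513, #24309 (4), (5); referees helper720 #24422, helper855 #24395): the two sides

Pure group theory. `K₁ = ⟨L, C⟩ N(S)`, `K₂ = C_G(Z₀) N(S)`, `O = O₂(C)`, `D = C N(S)`, `E₁ = L`, `E₂` = the block types,
`U₁ = ⟨Z^K₁⟩`, `W₂ = ⟨(Z R)^K₂⟩`, `NR = ⟨(Z R)^C(R)⟩ ≤ W₂` is `E₁`-invariant, `NB = ⟨Z₀^C(B)⟩ ≤ U₁` is
`E₂`-invariant; `⟨K₁, K₂⟩` is nonlocal.

* `TwoD` : this situation;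
* `TwoD.SS` : `{C_A(W₂) W₂ : A ∈ AA(C_O(U₁))}`; `fail₁`, `ss_eq` : (4), it is `K₁`-invariant, `= AA(C_O(U₁)) ∩ AA(C_O(W₂))`;
* `TwoD.half` : (5), `A ∈ AA(C_O(W₂))`: `C_A(U₁) U₁ ∈ SS` contains `⟨W₂^K₁⟩`;
* **`TwoD.main`** : some `C_A(NR)` is exact on `W₂`, `A ∈ AA(C_O(U₁))` (alpha), or some `C_A(NB)` is exact on
  `⟨W₂^K₁⟩ U₁`, `A ∈ AA(C_O(W₂))` (beta).
-/

set_option autoImplicit false
set_option linter.unusedSectionVars false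

namespace Cfsg.Agent.Omega.NOThreeL.RZ.TwoC.Side

open Subgroup Cfsg Cfsg.Agent.ZN Cfsg.Agent.Omega.MinPar
open Cfsg.Agent.Omega.NO3S.EThree Cfsg.Agent.Omega.NO3S.EThree.ExactA
open Cfsg.Agent.ZN.ChoiceBase (AA mm mm_eq mem_AA_iff AA_nonempty card_le_mm cj mem_cj cj_mem_AA cj_inf cj_mono cj_centralizer
  cj_eq_of_mem_normalizer mem_normalizer_of_cj_le card_cj)
open Cfsg.Agent.Omega.NoFF.Basic (comm_symm comm_mono)
open Cfsg.Agent.Omega.EK3.Rank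
open Cfsg.Agent.Omega.GI (Inv cj_sup' exact_cu exact_half)

universe u

variable {G : Type u} [Group G]

/-- **The data of the two sides.** -/
structure TwoD (O D K₁ K₂ E₁ E₂ U₁ W₂ NR NB : Subgroup G) : Prop where
  OD : O ≤ D
  DO : D ≤ normalizer (O : Set G)
  D1 : D ≤ K₁
  D2 : D ≤ K₂
  e1 : E₁ ≤ K₁
  g1 : K₁ ≤ D ⊔ E₁
  e2 : E₂ ≤ K₂
  g2 : K₂ ≤ (K₁ ⊓ K₂) ⊔ E₂
  el1 : IsElementaryAbelian 2 U₁
  el2 : IsElementaryAbelian 2 W₂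
  UO : U₁ ≤ O
  WO : W₂ ≤ O
  KU : K₁ ≤ normalizer (U₁ : Set G)
  KW : K₂ ≤ normalizer (W₂ : Set G)
  q1 : K₁ ≤ normalizer ((O ⊓ centralizer (U₁ : Set G) : Subgroup G) : Set G)
  q2 : K₂ ≤ normalizer ((O ⊓ centralizer (W₂ : Set G) : Subgroup G) : Set G)
  core1 : ∀ R : Subgroup G, R ≤ O → K₁ ≤ normalizer (R : Set G) → R ≤ centralizer (U₁ : Set G)
  no1 : NoOn O U₁
  no2 : NoOn O W₂
  RW : NR ≤ W₂
  ER : E₁ ≤ normalizer (NR : Set G)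
  noR : ∀ A ∈ AA (O ⊓ centralizer (U₁ : Set G)),
    (centralizer (NR : Set G)).relIndex A ≤ (centralizer (A : Set G)).relIndex NR
  BU : NB ≤ U₁
  EB : E₂ ≤ normalizer (NB : Set G)
  noB : ∀ A ∈ AA (O ⊓ centralizer (W₂ : Set G)),
    (centralizer (NB : Set G)).relIndex A ≤ (centralizer (A : Set G)).relIndex NB
  nonloc : ∀ R : Subgroup G, R ≤ O → K₁ ≤ normalizer (R : Set G) → K₂ ≤ normalizer (R : Set G) → R = ⊥
  ne : U₁ ≠ ⊥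

namespace TwoD

variable [Finite G] {O D K₁ K₂ E₁ E₂ U₁ W₂ NR NB : Subgroup G} (h : TwoD O D K₁ K₂ E₁ E₂ U₁ W₂ NR NB)

/-- `SS = {C_A(W₂) W₂ : A ∈ AA(C_O(U₁))}` -/
def SS (O U₁ W₂ : Subgroup G) : Set (Subgroup G) :=
  {X | ∃ A ∈ AA (O ⊓ centralizer (U₁ : Set G)), X = (A ⊓ centralizer (W₂ : Set G)) ⊔ W₂}

include h

theorem aa_cj1 {g : G} (hg : g ∈ K₁) {A : Subgroup G} (hA : A ∈ AA (O ⊓ centralizer (U₁ : Set G))) :
    cj g A ∈ AA (O ⊓ centralizer (U₁ : Set G)) := by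
  have h1 := cj_mem_AA g hA
  rwa [cj_eq_of_mem_normalizer (h.q1 hg)] at h1

theorem aa_cj2 {g : G} (hg : g ∈ K₂) {A : Subgroup G} (hA : A ∈ AA (O ⊓ centralizer (W₂ : Set G))) :
    cj g A ∈ AA (O ⊓ centralizer (W₂ : Set G)) := by
  have h1 := cj_mem_AA g hA
  rwa [cj_eq_of_mem_normalizer (h.q2 hg)] at h1

theorem mem_O1 {A : Subgroup G} (hA : A ∈ AA (O ⊓ centralizer (U₁ : Set G))) : A ∈ AA O :=
  mem_AA_of_inf h.el1 h.UO h.no1 hA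

theorem mem_O2 {A : Subgroup G} (hA : A ∈ AA (O ⊓ centralizer (W₂ : Set G))) : A ∈ AA O :=
  mem_AA_of_inf h.el2 h.WO h.no2 hA

theorem U_le {A : Subgroup G} (hA : A ∈ AA (O ⊓ centralizer (U₁ : Set G))) : U₁ ≤ A :=
  le_of_mem_inf h.el1 h.UO h.no1 hA

theorem W_le {A : Subgroup G} (hA : A ∈ AA (O ⊓ centralizer (W₂ : Set G))) : W₂ ≤ A :=
  le_of_mem_inf h.el2 h.WO h.no2 hA

theorem ss_mem {X : Subgroup G} (hX : X ∈ SS O U₁ W₂) : X ∈ AA (O ⊓ centralizer (W₂ : Set G)) := by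
  obtain ⟨A, hA, rfl⟩ := hX
  exact exch_inf h.el2 h.WO h.no2 (h.mem_O1 hA)

/-- members of a `K₁`-invariant `SS` centralise `U₁` -/
theorem ss_cent (hg : Inv K₁ (SS O U₁ W₂)) {X : Subgroup G} (hX : X ∈ SS O U₁ W₂) :
    X ≤ centralizer (U₁ : Set G) := by
  have h1 : sSup (SS O U₁ W₂) ≤ O := sSup_le fun Z hZ => (h.ss_mem hZ).2.1.trans inf_le_left
  exact (le_sSup hX).trans (h.core1 _ h1 (Inv.le_normalizer hg))

/-- `[U₁, W₂] = 1` -/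
theorem comm (hg : Inv K₁ (SS O U₁ W₂)) : W₂ ≤ centralizer (U₁ : Set G) := by
  obtain ⟨A, hA⟩ := AA_nonempty (O ⊓ centralizer (U₁ : Set G))
  exact le_trans le_sup_right (h.ss_cent hg ⟨A, hA, rfl⟩)

/-- `SS = AA(C_O(U₁)) ∩ AA(C_O(W₂))` -/
theorem ss_eq (hg : Inv K₁ (SS O U₁ W₂)) :
    SS O U₁ W₂ = AA (O ⊓ centralizer (U₁ : Set G)) ∩ AA (O ⊓ centralizer (W₂ : Set G)) := by
  ext X
  constructor
  · intro hX
    have h1 := h.ss_mem hX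
    exact ⟨mem_inf_of_mem_AA h.el1 h.UO h.no1 (h.mem_O2 h1) (h.ss_cent hg hX), h1⟩
  · rintro ⟨hX, hX'⟩
    refine ⟨X, hX, ?_⟩
    rw [inf_eq_left.2 (hX'.2.1.trans inf_le_right)]
    exact (sup_eq_left.2 (h.W_le hX')).symm

/-- **(4)** if no `C_A(NR)`, `A ∈ AA(C_O(U₁))`, moves `W₂`, then `SS` is `K₁`-invariant -/
theorem fail₁ (hf : ∀ A ∈ AA (O ⊓ centralizer (U₁ : Set G)),
    A ⊓ centralizer (NR : Set G) ≤ centralizer (W₂ : Set G)) : Inv K₁ (SS O U₁ W₂) := by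
  have key : ∀ A ∈ AA (O ⊓ centralizer (U₁ : Set G)),
      (A ⊓ centralizer (W₂ : Set G)) ⊔ W₂ = (A ⊓ centralizer (NR : Set G)) ⊔ NR := by
    intro A hA
    have e : A ⊓ centralizer (NR : Set G) = A ⊓ centralizer (W₂ : Set G) :=
      le_antisymm (le_inf inf_le_left (hf A hA)) (inf_le_inf_left _ (centralizer_le h.RW))
    have h1 := (exact_cu h.el2 h.WO h.no2 h.RW (h.mem_O1 hA) (h.noR A hA)).1
    have h2 := (exch h.el2 h.WO h.no2 (h.mem_O1 hA)).2.2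
    rw [e] at h1 ⊢
    refine (Subgroup.eq_of_le_of_card_ge (sup_le_sup_left h.RW _) ?_).symm
    rw [← mm_eq h1, ← mm_eq h2]
  have hD : Inv D (SS O U₁ W₂) := by
    rintro g hg _ ⟨A, hA, rfl⟩
    refine ⟨cj g A, h.aa_cj1 (h.D1 hg) hA, ?_⟩
    rw [cj_sup', cj_inf, cj_centralizer, cj_eq_of_mem_normalizer (h.KW (h.D2 hg))]
  have hE : Inv E₁ (SS O U₁ W₂) := by
    rintro g hg _ ⟨A, hA, rfl⟩
    have hA' := h.aa_cj1 (h.e1 hg) hA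
    refine ⟨cj g A, hA', ?_⟩
    rw [key A hA, key _ hA', cj_sup', cj_inf, cj_centralizer, cj_eq_of_mem_normalizer (h.ER hg)]
  exact (hD.sup hE).mono h.g1

/-- **(5)** -/
theorem half (hg : Inv K₁ (SS O U₁ W₂)) {A : Subgroup G} (hA : A ∈ AA (O ⊓ centralizer (W₂ : Set G))) :
    (A ⊓ centralizer (U₁ : Set G)) ⊔ U₁ ∈ SS O U₁ W₂ ∧
      ∀ g ∈ K₁, cj g W₂ ≤ (A ⊓ centralizer (U₁ : Set G)) ⊔ U₁ := by
  have h1 : (A ⊓ centralizer (U₁ : Set G)) ⊔ U₁ ∈ AA (O ⊓ centralizer (U₁ : Set G)) :=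
    exch_inf h.el1 h.UO h.no1 (h.mem_O2 hA)
  have h2 : (A ⊓ centralizer (U₁ : Set G)) ⊔ U₁ ∈ AA (O ⊓ centralizer (W₂ : Set G)) := by
    refine mem_inf_of_mem_AA h.el2 h.WO h.no2 (h.mem_O1 h1) (sup_le ?_ (comm_symm (h.comm hg)))
    exact inf_le_left.trans (hA.2.1.trans inf_le_right)
  have h3 : (A ⊓ centralizer (U₁ : Set G)) ⊔ U₁ ∈ SS O U₁ W₂ := by
    rw [h.ss_eq hg]
    exact ⟨h1, h2⟩
  refine ⟨h3, fun g hgY => ?_⟩
  have h4 := hg g⁻¹ (K₁.inv_mem hgY) _ h3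
  rw [h.ss_eq hg] at h4
  rw [ChoiceBase.cj_le_iff]
  exact h.W_le h4.2

/-- `X₁ = ⟨W₂^K₁⟩ U₁` -/
theorem X_le (hg : Inv K₁ (SS O U₁ W₂)) {A : Subgroup G} (hA : A ∈ AA (O ⊓ centralizer (W₂ : Set G))) :
    (⨆ k : K₁, cj (k : G) W₂) ⊔ U₁ ≤ (A ⊓ centralizer (U₁ : Set G)) ⊔ U₁ :=
  sup_le (iSup_le fun k => (h.half hg hA).2 k k.2) le_sup_right

/-- **(5)** if moreover no `C_A(NB)`, `A ∈ AA(C_O(W₂))`, moves `U₁`: contradiction -/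
theorem fail₂ (hg : Inv K₁ (SS O U₁ W₂)) (hf : ∀ A ∈ AA (O ⊓ centralizer (W₂ : Set G)),
    A ⊓ centralizer (NB : Set G) ≤ centralizer (U₁ : Set G)) : False := by
  have key : ∀ A ∈ AA (O ⊓ centralizer (W₂ : Set G)),
      (A ⊓ centralizer (U₁ : Set G)) ⊔ U₁ = (A ⊓ centralizer (NB : Set G)) ⊔ NB := by
    intro A hA
    have e : A ⊓ centralizer (NB : Set G) = A ⊓ centralizer (U₁ : Set G) :=
      le_antisymm (le_inf inf_le_left (hf A hA)) (inf_le_inf_left _ (centralizer_le h.BU))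
    have h1 := (exact_cu h.el1 h.UO h.no1 h.BU (h.mem_O2 hA) (h.noB A hA)).1
    have h2 := (exch h.el1 h.UO h.no1 (h.mem_O2 hA)).2.2
    rw [e] at h1 ⊢
    refine (Subgroup.eq_of_le_of_card_ge (sup_le_sup_left h.BU _) ?_).symm
    rw [← mm_eq h1, ← mm_eq h2]
  -- `SS = {C_A(U₁) U₁ : A ∈ AA(C_O(W₂))}`
  have heq : ∀ X ∈ SS O U₁ W₂, X ∈ AA (O ⊓ centralizer (W₂ : Set G)) ∧
      X = (X ⊓ centralizer (U₁ : Set G)) ⊔ U₁ := by
    intro X hX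
    refine ⟨h.ss_mem hX, ?_⟩
    rw [inf_eq_left.2 (h.ss_cent hg hX)]
    rw [h.ss_eq hg] at hX
    exact (sup_eq_left.2 (h.U_le hX.1)).symm
  have hE : Inv E₂ (SS O U₁ W₂) := by
    intro g hgE X hX
    obtain ⟨h1, h2⟩ := heq X hX
    have hA' := h.aa_cj2 (h.e2 hgE) h1
    have h3 : cj g X = (cj g X ⊓ centralizer (U₁ : Set G)) ⊔ U₁ := by
      rw [key _ hA']
      conv_lhs => rw [h2, key X h1]
      rw [cj_sup', cj_inf, cj_centralizer, cj_eq_of_mem_normalizer (h.EB hgE)]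
    rw [h3]
    exact (h.half hg hA').1
  have hK : Inv K₂ (SS O U₁ W₂) := ((hg.mono inf_le_left).sup hE).mono h.g2
  have h0 : sSup (SS O U₁ W₂) = ⊥ :=
    h.nonloc _ (sSup_le fun Z hZ => (h.ss_mem hZ).2.1.trans inf_le_left) (Inv.le_normalizer hg) (Inv.le_normalizer hK)
  obtain ⟨A, hA⟩ := AA_nonempty (O ⊓ centralizer (U₁ : Set G))
  have h1 : (A ⊓ centralizer (W₂ : Set G)) ⊔ W₂ ∈ SS O U₁ W₂ := ⟨A, hA, rfl⟩
  have h2 := le_sSup h1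
  rw [h.ss_eq hg] at h1
  rw [h0] at h2
  exact h.ne (le_bot_iff.1 ((h.U_le h1.1).trans h2))

/-- **(4), (5).** -/
theorem main :
    (∃ A ∈ AA (O ⊓ centralizer (U₁ : Set G)), A ∈ AA O ∧ U₁ ≤ A ∧
      ¬ A ⊓ centralizer (NR : Set G) ≤ centralizer (W₂ : Set G) ∧
      (centralizer (W₂ : Set G)).relIndex (A ⊓ centralizer (NR : Set G) : Subgroup G) =
        (centralizer ((A ⊓ centralizer (NR : Set G) : Subgroup G) : Set G)).relIndex W₂) ∨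
    (∃ X₁ : Subgroup G, X₁ = (⨆ k : K₁, cj (k : G) W₂) ⊔ U₁ ∧ IsElementaryAbelian 2 X₁ ∧
      K₁ ≤ normalizer (X₁ : Set G) ∧ X₁ ≤ O ∧ X₁ ≤ centralizer (U₁ : Set G) ∧ X₁ ≤ centralizer (W₂ : Set G) ∧
      ∃ A ∈ AA (O ⊓ centralizer (W₂ : Set G)), A ∈ AA O ∧ W₂ ≤ A ∧
        A ⊓ centralizer (U₁ : Set G) ≤ centralizer (X₁ : Set G) ∧
        ¬ A ⊓ centralizer (NB : Set G) ≤ centralizer (U₁ : Set G) ∧
        (centralizer (X₁ : Set G)).relIndex (A ⊓ centralizer (NB : Set G) : Subgroup G) =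
          (centralizer ((A ⊓ centralizer (NB : Set G) : Subgroup G) : Set G)).relIndex X₁) := by
  by_cases hf : ∀ A ∈ AA (O ⊓ centralizer (U₁ : Set G)),
      A ⊓ centralizer (NR : Set G) ≤ centralizer (W₂ : Set G)
  · right
    have hg := h.fail₁ hf
    have hf2 : ¬ ∀ A ∈ AA (O ⊓ centralizer (W₂ : Set G)),
        A ⊓ centralizer (NB : Set G) ≤ centralizer (U₁ : Set G) := fun hf2 => h.fail₂ hg hf2
    push Not at hf2
    obtain ⟨A, hA, hmov⟩ := hf2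
    have hAO := h.mem_O2 hA
    have hX := h.X_le hg hA
    have hel : IsElementaryAbelian 2 ((A ⊓ centralizer (U₁ : Set G)) ⊔ U₁ : Subgroup G) :=
      (exch h.el1 h.UO h.no1 hAO).2.2.1
    have hXel := eab_mono hel hX
    have hXab := (eab_iff.1 hel).1
    have hcen : A ⊓ centralizer (U₁ : Set G) ≤ centralizer (((⨆ k : K₁, cj (k : G) W₂) ⊔ U₁ : Subgroup G) : Set G) :=
      (le_sup_left.trans hXab).trans (centralizer_le hX)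
    refine ⟨_, rfl, hXel, ?_, ?_, ?_, ?_, A, hA, hAO, h.W_le hA, hcen, hmov, ?_⟩
    · intro g hgK
      refine mem_normalizer_of_cj_le ?_
      rw [cj_sup', cj_eq_of_mem_normalizer (h.KU hgK)]
      refine sup_le_sup_right ?_ _
      rw [ChoiceBase.cj_le_iff]
      refine iSup_le fun k => ?_
      rw [← ChoiceBase.cj_le_iff, ChoiceBase.cj_cj]
      exact le_iSup (fun k : K₁ => cj (k : G) W₂) ⟨g * k, K₁.mul_mem hgK k.2⟩
    · exact hX.trans (exch h.el1 h.UO h.no1 hAO).2.2.2.1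
    · exact le_sup_right.trans hXab |>.trans (centralizer_le hX) |> comm_symm
    · refine comm_symm ?_
      have h1 : W₂ ≤ (⨆ k : K₁, cj (k : G) W₂) ⊔ U₁ := by
        refine le_trans ?_ le_sup_left
        have h2 := le_iSup (fun k : K₁ => cj (k : G) W₂) ⟨1, K₁.one_mem⟩
        rwa [ChoiceBase.cj_one] at h2
      exact (h1.trans hX |>.trans hXab).trans (centralizer_le hX)
    · have h1 := exact_cu h.el1 h.UO h.no1 h.BU hAO (h.noB A hA)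
      exact (exact_half h.el1 h.UO h.no1 le_sup_right hAO hX inf_le_left h1.2.1).2
  · left
    push Not at hf
    obtain ⟨A, hA, hmov⟩ := hf
    exact ⟨A, hA, h.mem_O1 hA, h.U_le hA, hmov, (exact_cu h.el2 h.WO h.no2 h.RW (h.mem_O1 hA) (h.noR A hA)).2.1⟩

end TwoD

end Cfsg.Agent.Omega.NOThreeL.RZ.TwoC.Side
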