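import Cfsg.Agent.Omega.NOThreeL.RZ.Frame
import Cfsg.Agent.Omega.NOThreeL.RZ.TwoC.Side
import Cfsg.Agent.Omega.ML.GNN

/-!
# [R-z], case (II) (helper513, #24309 (1)-(3), #24705; helper720 #24422): local subgroups `L ≥ S`, `V ∈ NN(S)`

`S` a Sylow 2-subgroup, `Z = Ω₁(Z(S))`, `O = O₂(C_G(Z))`, `L ∈ L(S)` (not necessarily `≥ C_G(Z)`), `U = ⟨Z^L⟩`.

* `gml` : `|A : C_A(U)| ≤ |U : C_U(A)|` for the elementary abelian `A ≤ O`;
* `inf_cent_le` : `O ∩ C(U) ≤ O₂(L)`;
* `cent_zl`, `le_o2L` : `V ∈ NN(S)`, `V ≤ O` centralises `U` and lies in `O₂(L)`;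
* `nn_hul` : `⟨V^L⟩ ∈ NN(O₂(L))`;  **`noOn_hul`** : `Z ≤ V`: `|A : C_A(W)| ≤ |W : C_W(A)|` for `W = ⟨V^L⟩`, `A ≤ O`;
* `norm_inf` : `K ≥ C_G(Z)`, `Z ≤ W`, `K ≤ N(W)` imply `K ≤ N(O ∩ C(W))`.
-/

set_option autoImplicit false
set_option linter.unusedSectionVars false

namespace Cfsg.Agent.Omega.NOThreeL.RZ.TwoC.Loc

open Subgroup Cfsg
open Cfsg.Agent.ZN (o2 zc zl jj)
open Cfsg.Agent.ZN.ChoiceBase hiding mem_zc
open Cfsg.Agent.Omega.ML.Final (MLK)
open Cfsg.Agent.Omega.ML.GMod (hul hul_le hul_le_of le_hul cj_le_hul le_normalizer_hul nc ZD step ri_mono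
  normalizer_le_normalizer_o2)
open Cfsg.Agent.Omega.ML.GNN (card_mul)
open Cfsg.Agent.Omega.FFThm
open Cfsg.Agent.Omega.MinPar Cfsg.Agent.Omega.Frame Cfsg.Agent.Omega.FrameNOFF
open Cfsg.Agent.Omega.NO3b.Bang
open Cfsg.Agent.Omega.NO3S.EThree.ExactA (eab_iff)
open Cfsg.Agent.Omega.EK3.Rank (NoOn)
open Cfsg.Agent.MinSimple.VModule (zc_le_zl le_normalizer_zl zl_le zc_le zc_sq zc_comm mem_zc le_centralizer_zc
  le_normalizer_o2 o2_isPGroup o2_le le_o2)
open Cfsg.Agent.MinSimple.Basic (not_dvd_relIndex)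

universe u

variable {G : Type u} [Group G] [Finite G] {S : Sylow 2 G}

theorem o2C_le : o2 (CZ (S : Subgroup G)) ≤ (S : Subgroup G) := by
  refine le_of_le_normalizer S (o2_isPGroup _) ((le_CZ S).trans (le_normalizer_o2 _))

/-- `O₂(C_G(Z)) ≤ O₂(C_L(Z))` -/
theorem low_inf {L : Subgroup G} (hL : (S : Subgroup G) ≤ L) :
    o2 (CZ (S : Subgroup G)) ≤ o2 (L ⊓ centralizer (zc (S : Subgroup G) : Set G)) :=
  le_o2 (le_inf (o2C_le.trans hL) (o2_le _)) (o2_isPGroup _) (inf_le_right.trans (le_normalizer_o2 _))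

/-- `O₂(C) ∩ C(W) ≤ O₂(L)` for `W ≥ Z` which is normalised by `L` -/
theorem inf_cent_le {L W : Subgroup G} (hL : (S : Subgroup G) ≤ L) (hZ : zc (S : Subgroup G) ≤ W)
    (hn : L ≤ normalizer (W : Set G)) :
    o2 (CZ (S : Subgroup G)) ⊓ centralizer (W : Set G) ≤ o2 L := by
  have hC1 : L ⊓ centralizer (W : Set G) ≤ CZ (S : Subgroup G) := inf_le_right.trans (centralizer_le hZ)
  have hnC : L ≤ normalizer ((L ⊓ centralizer (W : Set G) : Subgroup G) : Set G) :=
    le_trans (le_inf Subgroup.le_normalizer (hn.trans (nc W))) inf_normalizer_le_normalizer_inf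
  have h2 : o2 (CZ (S : Subgroup G)) ⊓ (L ⊓ centralizer (W : Set G)) ≤ o2 (L ⊓ centralizer (W : Set G)) := by
    refine le_o2 inf_le_right ((o2_isPGroup _).to_le inf_le_left) ?_
    exact le_trans (le_inf (hC1.trans (le_normalizer_o2 _)) Subgroup.le_normalizer)
      inf_normalizer_le_normalizer_inf
  have h3 : o2 (L ⊓ centralizer (W : Set G)) ≤ o2 L :=
    le_o2 ((o2_le _).trans inf_le_left) (o2_isPGroup _) (hnC.trans (normalizer_le_normalizer_o2 _))
  refine le_trans (le_inf inf_le_left (le_inf (inf_le_left.trans (o2C_le.trans hL)) inf_le_right)) (h2.trans h3)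

/-- `K ≥ C_G(Z)` normalising `W ≥ Z` normalises `O₂(C_G(Z)) ∩ C(W)` -/
theorem norm_inf {K W : Subgroup G} (hC : CZ (S : Subgroup G) ≤ K) (hZ : zc (S : Subgroup G) ≤ W)
    (hn : K ≤ normalizer (W : Set G)) :
    K ≤ normalizer ((o2 (CZ (S : Subgroup G)) ⊓ centralizer (W : Set G) : Subgroup G) : Set G) := by
  have hWC : centralizer (W : Set G) ≤ CZ (S : Subgroup G) := centralizer_le hZ
  have e : o2 (CZ (S : Subgroup G)) ⊓ centralizer (W : Set G) = o2 (centralizer (W : Set G)) := by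
    apply le_antisymm
    · refine le_o2 inf_le_right ((o2_isPGroup _).to_le inf_le_left) ?_
      exact le_trans (le_inf (hWC.trans (le_normalizer_o2 _)) Subgroup.le_normalizer) inf_normalizer_le_normalizer_inf
    · refine le_inf ?_ (o2_le _)
      refine le_o2 ((o2_le _).trans hWC) (o2_isPGroup _) ?_
      exact (hC.trans (hn.trans (nc W))).trans (normalizer_le_normalizer_o2 _)
  rw [e]
  exact (hn.trans (nc W)).trans (normalizer_le_normalizer_o2 _)

section loc

variable {L : Subgroup G} (hM : MLK.{u, u}) (hG : Ctx G) (hL : IsLoc (S : Subgroup G) L) (hK : IsKGroup L)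
include hM hG hL hK

/-- **LEMMA GML** for `⟨Z^L⟩`, `L` any local subgroup over `S` -/
theorem gml {A : Subgroup G} (hA : A ≤ o2 (CZ (S : Subgroup G))) (hsq : ∀ a ∈ A, a ^ 2 = 1) :
    (centralizer (zl (S : Subgroup G) L : Set G)).relIndex A ≤
      (centralizer (A : Set G)).relIndex (zl (S : Subgroup G) L) := by
  have D : ZD L (zl (S : Subgroup G) L) (zc (S : Subgroup G)) (S : Subgroup G) A :=
    { nV := le_normalizer_zl _ _
      sq := fun v hv => by
        have := zc_sq _ _ (hL.zl_le S hG.char2 hv)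
        rwa [sq] at this
      ZV := zc_le_zl _ _
      gen := fun U hZ hLU => zl_le hZ hLU
      TL := hL.le
      two := S.isPGroup'
      odd := not_dvd_relIndex S hL.le
      TZ := le_centralizer_zc _
      AO := hA.trans (low_inf hL.le)
      Asq := fun a ha => by
        have := hsq a ha
        rw [← sq, this]
        exact one_mem _ }
  exact D.gml hM hK

/-- `V ∈ NN(S)`, `V ≤ O₂(C_G(Z))` centralises `⟨Z^L⟩`. -/
theorem cent_zl {V : Subgroup G} (hV : NN (S : Subgroup G) V) (hVQ : V ≤ o2 (CZ (S : Subgroup G))) :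
    V ≤ centralizer (zl (S : Subgroup G) L : Set G) := by
  by_contra hne
  have h1 := gml hM hG hL hK hVQ hV.sq
  set U : Subgroup G := zl (S : Subgroup G) L with hU
  have hU2 : U ≤ zc (o2 L) := hL.zl_le S hG.char2
  have hUS : U ≤ (S : Subgroup G) := (hU2.trans (zc_le _)).trans (hL.o2_le S)
  refine hV.nff U hUS ⟨⟨?_, ?_⟩, fun hc => hne (cent_symm hc), ?_⟩
  · intro a ha
    rw [zc_sq _ _ (hU2 ha)]
    exact one_mem _
  · intro a ha b hb
    rw [zc_comm _ _ (hU2 ha) _ (hU2 hb), mul_inv_cancel_right, mul_inv_cancel]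
    exact one_mem _
  · have e1 : Nat.card ↥(V ⊓ centralizer (U : Set G)) * (centralizer (U : Set G)).relIndex V = Nat.card V := by
      rw [← inf_relIndex_left]
      exact card_mul inf_le_left
    have e2 : Nat.card ↥(U ⊓ centralizer (V : Set G)) * (centralizer (V : Set G)).relIndex U = Nat.card U := by
      rw [← inf_relIndex_left]
      exact card_mul inf_le_left
    rw [← e1, ← e2]
    calc Nat.card ↥(V ⊓ centralizer (U : Set G)) * (centralizer (U : Set G)).relIndex V *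
          Nat.card ↥(U ⊓ centralizer (V : Set G))
        ≤ Nat.card ↥(V ⊓ centralizer (U : Set G)) * (centralizer (V : Set G)).relIndex U *
          Nat.card ↥(U ⊓ centralizer (V : Set G)) := by
          exact Nat.mul_le_mul_right _ (Nat.mul_le_mul_left _ h1)
      _ = _ := by ring

/-- **`V ∈ NN(S)`, `V ≤ O₂(C_G(Z))` implies `V ≤ O₂(L)`, `L` any local subgroup over `S`.** -/
theorem le_o2L {V : Subgroup G} (hV : NN (S : Subgroup G) V) (hVQ : V ≤ o2 (CZ (S : Subgroup G))) : V ≤ o2 L :=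
  (le_inf hVQ (cent_zl hM hG hL hK hV hVQ)).trans (inf_cent_le hL.le (zc_le_zl _ _) (le_normalizer_zl _ _))

omit hM hG hL hK in
theorem nn_iSup {ι : Type u} [Finite ι] {T : Subgroup G} (f : ι → Subgroup G) (h : ∀ i, NN T (f i)) : NN T (⨆ i, f i) := by
  classical
  have := Fintype.ofFinite ι
  rw [← Finset.sup_univ_eq_iSup]
  exact Finset.sup_induction (NN.bot T) (fun _ h1 _ h2 => h1.sup h2) fun i _ => h i

/-- **`⟨V^L⟩ ∈ NN(O₂(L))`** -/
theorem nn_hul {V : Subgroup G} (hV : NN (S : Subgroup G) V) (hVQ : V ≤ o2 (CZ (S : Subgroup G))) :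
    NN (o2 L) (hul V L) := by
  refine nn_iSup _ fun l => ?_
  have h1 := hV.cj (l : G)
  have h2 : cj (l : G) (o2 L) = o2 L := cj_eq_of_mem_normalizer (le_normalizer_o2 L l.2)
  refine h1.mono ?_ ?_
  · conv_rhs => rw [← h2]
    exact cj_mono _ (le_o2L hM hG hL hK hV hVQ)
  · conv_lhs => rw [← h2]
    exact cj_mono _ (hL.o2_le S)

theorem hul_eab {V : Subgroup G} (hV : NN (S : Subgroup G) V) (hVQ : V ≤ o2 (CZ (S : Subgroup G))) :
    IsElementaryAbelian 2 (hul V L) :=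
  eab_iff.2 ⟨(nn_hul hM hG hL hK hV hVQ).comm, (nn_hul hM hG hL hK hV hVQ).sq⟩

/-- no offender in `T`: `|A : C_A(W)| ≤ |W : C_W(A)|` -/
theorem le_of_nn {T W A : Subgroup G} (hW : NN T W) (hA : A ≤ T) (hel : IsElementaryAbelian 2 A) :
    (centralizer (W : Set G)).relIndex A ≤ (centralizer (A : Set G)).relIndex W := by
  by_cases hc : A ≤ centralizer (W : Set G)
  · have h1 : (centralizer (W : Set G)).relIndex A = 1 := relIndex_eq_one.2 hc
    rw [h1]
    exact Nat.one_le_iff_ne_zero.2 (ML.GMod.ri_ne _ _)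
  by_contra hlt
  push Not at hlt
  refine hW.nff A hA ⟨offM_of_abel (eab_iff.1 hel).1 fun a ha => (eab_iff.1 hel).2 a ha, hc, ?_⟩
  have e1 : Nat.card ↥(A ⊓ centralizer (W : Set G)) * (centralizer (W : Set G)).relIndex A = Nat.card A := by
    rw [← inf_relIndex_left]
    exact card_mul inf_le_left
  have e2 : Nat.card ↥(W ⊓ centralizer (A : Set G)) * (centralizer (A : Set G)).relIndex W = Nat.card W := by
    rw [← inf_relIndex_left]
    exact card_mul inf_le_left
  rw [← e1, ← e2]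
  calc _ ≤ Nat.card ↥(W ⊓ centralizer (A : Set G)) * (centralizer (W : Set G)).relIndex A *
          Nat.card ↥(A ⊓ centralizer (W : Set G)) := by
          exact Nat.mul_le_mul_right _ (Nat.mul_le_mul_left _ hlt.le)
      _ = _ := by ring

/-- **`|A : C_A(W)| ≤ |W : C_W(A)|`, `W = ⟨V^L⟩`, `Z ≤ V ∈ NN(S)`, for the elementary abelian `A ≤ O₂(C_G(Z))`.** -/
theorem noOn_hul {V : Subgroup G} (hV : NN (S : Subgroup G) V) (hVQ : V ≤ o2 (CZ (S : Subgroup G)))
    (hZV : zc (S : Subgroup G) ≤ V) : NoOn (o2 (CZ (S : Subgroup G))) (hul V L) := by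
  intro A hel hA
  have hUW : zl (S : Subgroup G) L ≤ hul V L := zl_le (hZV.trans (le_hul V L)) (le_normalizer_hul V L)
  refine step hUW (gml hM hG hL hK hA (eab_iff.1 hel).2) ?_
  refine le_of_nn hM hG hL hK (nn_hul hM hG hL hK hV hVQ) ?_
    (NO3S.EThree.ExactA.eab_mono hel inf_le_left)
  exact (inf_le_inf_right _ hA).trans (inf_cent_le hL.le (zc_le_zl _ _) (le_normalizer_zl _ _))

end loc

end Cfsg.Agent.Omega.NOThreeL.RZ.TwoC.Loc
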