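import Cfsg.Agent.Omega.NOThreeL.RZ.TwoC.AbP

/-!
# [R-z] (helper133 #25243; helper616's fill-in (f1)): `V* ≤ O₂(C_G(Z))`

`Y = ⟨P*(S)⟩`, `R`, `B` with `V* = ⟨Z^Y⟩ ≤ B R`, `R = ⟨(R ∩ Z)^Y⟩`, `B ≤ ⟨Z^{C_Y(R)}⟩`, `R ∩ Z ≠ 1`, `1 ≠ e ∈ Z`,
`Y = C_Y(R) C_Y(e)`.

* `conj_of_tr` : `e^Y = e^{C_Y(R)}`;
* `lowR` : `R ≤ O₂(C_G(Z))`;  `lowB` : `B ≤ O₂(C_G(Z))`;  **`low_star`** : `V* ≤ O₂(C_G(Z))`.
-/

set_option autoImplicit false
set_option linter.unusedSectionVars false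

namespace Cfsg.Agent.Omega.NOThreeL.RZ.TwoC.LowP

open Subgroup Cfsg
open Cfsg.Agent.ZN (o2 zc zl jj)
open Cfsg.Agent.ZN.ChoiceBase hiding mem_zc
open Cfsg.Agent.Omega.ML.GMod (hul hul_le hul_le_of le_hul cj_le_hul le_normalizer_hul nc)
open Cfsg.Agent.Omega.MinPar Cfsg.Agent.Omega.Frame Cfsg.Agent.Omega.FrameNOFF
open Cfsg.Agent.Omega.NOThreeL.Star (YS le_YS S_le_YS)
open Cfsg.Agent.MinSimple.VModule (zc_le_zl le_normalizer_zl zl_le zc_le mem_zc le_centralizer_zc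
  le_normalizer_o2 o2_isPGroup o2_le le_o2)

universe u

variable {G : Type u} [Group G] [Finite G] {S : Sylow 2 G} {R B : Subgroup G} {e : G}

/-- `e^Y = e^{C_Y(R)}` -/
theorem conj_of_tr {Y : Subgroup G} (nR : Y ≤ normalizer (R : Set G))
    (tr : Y ≤ (Y ⊓ centralizer (R : Set G)) ⊔ (Y ⊓ centralizer ({e} : Set G))) {y : G} (hy : y ∈ Y) :
    ∃ c ∈ Y, c ∈ centralizer (R : Set G) ∧ c * e * c⁻¹ = y * e * y⁻¹ := by
  have hn : Y ⊓ centralizer ({e} : Set G) ≤ normalizer ((Y ⊓ centralizer (R : Set G) : Subgroup G) : Set G) := by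
    intro x hx
    rw [mem_normalizer_iff_cj, cj_inf, cj_centralizer, cj_eq_of_mem_normalizer (le_normalizer hx.1),
      cj_eq_of_mem_normalizer (nR hx.1)]
  have h1 : y ∈ (((Y ⊓ centralizer (R : Set G)) ⊔ (Y ⊓ centralizer ({e} : Set G)) : Subgroup G) : Set G) := tr hy
  rw [coe_mul_of_right_le_normalizer_left _ _ hn, Set.mem_mul] at h1
  obtain ⟨c, hc, x, hx, rfl⟩ := h1
  refine ⟨c, hc.1, hc.2, ?_⟩
  have h2 : x * e = e * x := mem_centralizer_singleton_iff.1 hx.2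
  calc c * e * c⁻¹ = c * (e * x) * x⁻¹ * c⁻¹ := by group
    _ = c * (x * e) * x⁻¹ * c⁻¹ := by rw [h2]
    _ = c * x * e * (c * x)⁻¹ := by group

/-- `R ≤ O₂(C_G(Z))` -/
theorem lowR (hc : IsCharacteristicTwoType G) (nR : YS (S : Subgroup G) ≤ normalizer (R : Set G))
    (gR : R ≤ NoFF.Basic.V (R ⊓ zc (S : Subgroup G)) (YS (S : Subgroup G))) (eZ : e ∈ zc (S : Subgroup G)) (e1 : e ≠ 1)
    (tr : YS (S : Subgroup G) ≤ (YS (S : Subgroup G) ⊓ centralizer (R : Set G)) ⊔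
      (YS (S : Subgroup G) ⊓ centralizer ({e} : Set G))) : R ≤ o2 (CZ (S : Subgroup G)) :=
  LowR.low_of hc nR gR eZ e1 fun _ hy => conj_of_tr nR tr hy

/-- `B ≤ O₂(C_G(Z))` -/
theorem lowB (hc : IsCharacteristicTwoType G) (R2 : IsPGroup 2 R) (ne : R ⊓ zc (S : Subgroup G) ≠ ⊥)
    (gB : B ≤ hul (zc (S : Subgroup G)) (centralizer (R : Set G))) : B ≤ o2 (CZ (S : Subgroup G)) := by
  have hC : CZ (S : Subgroup G) ≤ centralizer ((R ⊓ zc (S : Subgroup G) : Subgroup G) : Set G) :=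
    centralizer_le inf_le_right
  have hL : IsLoc (S : Subgroup G) (centralizer ((R ⊓ zc (S : Subgroup G) : Subgroup G) : Set G)) :=
    isLoc_of_le_normalizer S ((le_CZ S).trans hC) (R2.to_le inf_le_left) ne (centralizer_le_normalizer _)
  have h1 : hul (zc (S : Subgroup G)) (centralizer (R : Set G)) ≤
      zl (S : Subgroup G) (centralizer ((R ⊓ zc (S : Subgroup G) : Subgroup G) : Set G)) :=
    hul_le_of (zc_le_zl _ _) ((centralizer_le inf_le_left).trans (le_normalizer_zl _ _))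
  exact gB.trans (h1.trans (((hL.zl_le S hc).trans (zc_le _)).trans (o2_le_o2 S (le_CZ S) hC)))

/-- **`V* ≤ O₂(C_G(Z))`** -/
theorem low_star (hc : IsCharacteristicTwoType G) (nR : YS (S : Subgroup G) ≤ normalizer (R : Set G))
    (R2 : IsPGroup 2 R) (gR : R ≤ NoFF.Basic.V (R ⊓ zc (S : Subgroup G)) (YS (S : Subgroup G)))
    (ne : R ⊓ zc (S : Subgroup G) ≠ ⊥) (eZ : e ∈ zc (S : Subgroup G)) (e1 : e ≠ 1)
    (tr : YS (S : Subgroup G) ≤ (YS (S : Subgroup G) ⊓ centralizer (R : Set G)) ⊔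
      (YS (S : Subgroup G) ⊓ centralizer ({e} : Set G)))
    (gB : B ≤ hul (zc (S : Subgroup G)) (centralizer (R : Set G)))
    (hV : zl (S : Subgroup G) (YS S) ≤ B ⊔ R) : zl (S : Subgroup G) (YS S) ≤ o2 (CZ (S : Subgroup G)) :=
  hV.trans (sup_le (lowB hc R2 ne gB) (lowR hc nR gR eZ e1 tr))

end Cfsg.Agent.Omega.NOThreeL.RZ.TwoC.LowP
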