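import Cfsg.Agent.Omega.NOThreeL.RZ.Frame
import Cfsg.Agent.Omega.NOThreeL.RZ.TwoC.Side

/-!
# [R-z], case (II): the frame and the pieces (bb #24309, helper513; integrator helper568)

`C = CZ S = C_G(Z)`, `O = O₂(C)`, `L = LL S R`, `K₁ = ⟨L, C⟩ N_G(S)`, `K₂ = C_G(Z₀) N_G(S)`.

* `Fact1 S Z₀ R Bk` : FACT 1, `V* = B × R`, `Z = (Z ∩ B) × Z₀`, `B = ⟨(Z ∩ B)^{C_Y(R)}⟩`;
* `Fr S Z₀ R Bk` : the frame of case (II): `Frm`, `Fact1`, `⟨L, C⟩` local;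
* `D₀`, `K₁`, `K₂`, `BT`, `U₁`, `W₂`, `NR`, `NB` : the groups of #24309;
* `TwoDOf` : (1)-(3), the instance of `Side.TwoD`;  `AlphaOf`, `BetaOf` : (alpha), (beta) lead to a contradiction;
* `Split K` : FACT 1 fails only in known groups;
* **`rbrL_of`** : these give case (II).
-/

set_option autoImplicit false

namespace Cfsg.Agent.Omega.NOThreeL.RZ.TwoC

open Subgroup Cfsg
open Cfsg.Agent.ZN (o2 zc zl jj)
open Cfsg.Agent.ZN.ChoiceBase hiding mem_zc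
open Cfsg.Agent.Omega.MinPar Cfsg.Agent.Omega.Frame Cfsg.Agent.Omega.FrameNOFF
open Cfsg.Agent.Omega.Node.NO3L Cfsg.Agent.Omega.NOThreeL.Basic Cfsg.Agent.Omega.NOThreeL.Main
open Cfsg.Agent.Omega.NO3b.EZero (NotFF)
open Cfsg.Agent.Omega.NO3b.Bang
open Cfsg.Agent.Omega.NOThreeL.Star (YS le_YS S_le_YS zl_mono)
open Cfsg.Agent.Omega.NOThreeL.RTree (RB)
open Cfsg.Agent.Omega.NOThreeL.RZ.TwoC.Side (TwoD)
open scoped Pointwise

universe u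

variable {G : Type u} [Group G]

/-! ### The groups -/

/-- `D = C_G(Z) N_G(S)` -/
def D₀ (S : Subgroup G) : Subgroup G := CZ S ⊔ normalizer (S : Set G)

/-- `K₁ = ⟨L, C_G(Z)⟩ N_G(S)` -/
def K₁ (S R : Subgroup G) : Subgroup G := LL S R ⊔ D₀ S

/-- `K₂ = C_G(Z₀) N_G(S)` -/
def K₂ (S Z₀ : Subgroup G) : Subgroup G := centralizer (Z₀ : Set G) ⊔ normalizer (S : Set G)

/-- the block types: `P ∈ P*(S)`, `C_S(R) ≰ O₂(P)` -/
def BT (S R : Subgroup G) : Subgroup G :=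
  sSup {P | IsParS S P ∧ ¬ S ⊓ centralizer (R : Set G) ≤ o2 P}

/-- `U₁ = ⟨Z^{K₁}⟩` -/
def U₁ (S R : Subgroup G) : Subgroup G := zl S (K₁ S R)

/-- `W₂ = ⟨(Z R)^{K₂}⟩` -/
def W₂ (S Z₀ R : Subgroup G) : Subgroup G := NoFF.Basic.V (zc S ⊔ R) (K₂ S Z₀)

/-- `N_R = ⟨(Z R)^{C_G(R)}⟩` -/
def NR (S R : Subgroup G) : Subgroup G := NoFF.Basic.V (zc S ⊔ R) (centralizer (R : Set G))

/-- `N_B = ⟨Z₀^{C_G(B)}⟩` -/
def NB (Z₀ Bk : Subgroup G) : Subgroup G := NoFF.Basic.V Z₀ (centralizer (Bk : Set G))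

/-! ### The frame -/

/-- **FACT 1.** -/
structure Fact1 [Finite G] (S : Sylow 2 G) (Z₀ R Bk : Subgroup G) : Prop where
  /-- `V* = B R` -/
  sup : zl (S : Subgroup G) (YS (S : Subgroup G)) = Bk ⊔ R
  disj : Bk ⊓ R = ⊥
  ys : YS (S : Subgroup G) ≤ normalizer (Bk : Set G)
  nS : normalizer ((S : Subgroup G) : Set G) ≤ normalizer (Bk : Set G)
  /-- `Z = (Z ∩ B) Z₀` -/
  zc : zc (S : Subgroup G) = (zc (S : Subgroup G) ⊓ Bk) ⊔ Z₀
  /-- `B = ⟨(Z ∩ B)^{C_Y(R)}⟩` -/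
  gen : Bk = NoFF.Basic.V (Cfsg.Agent.ZN.zc (S : Subgroup G) ⊓ Bk)
    (YS (S : Subgroup G) ⊓ centralizer (R : Set G))

/-- **The frame of case (II).** -/
structure Fr [Finite G] (S : Sylow 2 G) (Z₀ R Bk : Subgroup G) : Prop where
  frm : Frm S Z₀ R
  fact : Fact1 S Z₀ R Bk
  loc : IsLoc (S : Subgroup G) (LL (S : Subgroup G) R ⊔ CZ (S : Subgroup G))

/-! ### The sockets -/

section sockets

/-- (1)-(3) of #24309. -/
def TwoDOf : Prop :=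
  ∀ (G : Type u) [Group G] [Finite G] (S : Sylow 2 G) (Z₀ R Bk : Subgroup G), Fr S Z₀ R Bk →
    TwoD (o2 (CZ (S : Subgroup G))) (D₀ (S : Subgroup G)) (K₁ (S : Subgroup G) R) (K₂ (S : Subgroup G) Z₀)
      (LL (S : Subgroup G) R) (BT (S : Subgroup G) R) (U₁ (S : Subgroup G) R) (W₂ (S : Subgroup G) Z₀ R)
      (NR (S : Subgroup G) R) (NB Z₀ Bk)

/-- (alpha) of #24309: `F = C_A(N_R)` is not exact on `W₂`. -/
def AlphaOf : Prop :=
  ∀ (G : Type u) [Group G] [Finite G] (S : Sylow 2 G) (Z₀ R Bk : Subgroup G), Fr S Z₀ R Bk →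
    TwoD (o2 (CZ (S : Subgroup G))) (D₀ (S : Subgroup G)) (K₁ (S : Subgroup G) R) (K₂ (S : Subgroup G) Z₀)
      (LL (S : Subgroup G) R) (BT (S : Subgroup G) R) (U₁ (S : Subgroup G) R) (W₂ (S : Subgroup G) Z₀ R)
      (NR (S : Subgroup G) R) (NB Z₀ Bk) →
    ∀ A ∈ AA (o2 (CZ (S : Subgroup G)) ⊓ centralizer (U₁ (S : Subgroup G) R : Set G)),
      A ∈ AA (o2 (CZ (S : Subgroup G))) → U₁ (S : Subgroup G) R ≤ A →
      ¬ A ⊓ centralizer (NR (S : Subgroup G) R : Set G) ≤ centralizer (W₂ (S : Subgroup G) Z₀ R : Set G) →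
      (centralizer (W₂ (S : Subgroup G) Z₀ R : Set G)).relIndex
          (A ⊓ centralizer (NR (S : Subgroup G) R : Set G) : Subgroup G) =
        (centralizer ((A ⊓ centralizer (NR (S : Subgroup G) R : Set G) : Subgroup G) : Set G)).relIndex
          (W₂ (S : Subgroup G) Z₀ R) → False

/-- (beta) of #24309: `F = C_A(N_B)` is not exact on `X₁ = ⟨W₂^{K₁}⟩ U₁`. -/
def BetaOf : Prop :=
  ∀ (G : Type u) [Group G] [Finite G] (S : Sylow 2 G) (Z₀ R Bk : Subgroup G), Fr S Z₀ R Bk →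
    TwoD (o2 (CZ (S : Subgroup G))) (D₀ (S : Subgroup G)) (K₁ (S : Subgroup G) R) (K₂ (S : Subgroup G) Z₀)
      (LL (S : Subgroup G) R) (BT (S : Subgroup G) R) (U₁ (S : Subgroup G) R) (W₂ (S : Subgroup G) Z₀ R)
      (NR (S : Subgroup G) R) (NB Z₀ Bk) →
    ∀ X₁ : Subgroup G,
      X₁ = (⨆ k : K₁ (S : Subgroup G) R, cj (k : G) (W₂ (S : Subgroup G) Z₀ R)) ⊔ U₁ (S : Subgroup G) R →
      IsElementaryAbelian 2 X₁ → K₁ (S : Subgroup G) R ≤ normalizer (X₁ : Set G) → X₁ ≤ o2 (CZ (S : Subgroup G)) →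
      X₁ ≤ centralizer (U₁ (S : Subgroup G) R : Set G) → X₁ ≤ centralizer (W₂ (S : Subgroup G) Z₀ R : Set G) →
    ∀ A ∈ AA (o2 (CZ (S : Subgroup G)) ⊓ centralizer (W₂ (S : Subgroup G) Z₀ R : Set G)),
      A ∈ AA (o2 (CZ (S : Subgroup G))) → W₂ (S : Subgroup G) Z₀ R ≤ A →
      A ⊓ centralizer (U₁ (S : Subgroup G) R : Set G) ≤ centralizer (X₁ : Set G) →
      ¬ A ⊓ centralizer (NB Z₀ Bk : Set G) ≤ centralizer (U₁ (S : Subgroup G) R : Set G) →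
      (centralizer (X₁ : Set G)).relIndex (A ⊓ centralizer (NB Z₀ Bk : Set G) : Subgroup G) =
        (centralizer ((A ⊓ centralizer (NB Z₀ Bk : Set G) : Subgroup G) : Set G)).relIndex X₁ → False

variable (K : Cls.{u})

/-- FACT 1 fails only in known groups (case (II)). -/
def Split : Prop :=
  ∀ (G : Type u) [Group G] [Finite G], K G → ∀ (S : Sylow 2 G) (Z₀ R : Subgroup G), RB S → Frm S Z₀ R →
    IsLoc (S : Subgroup G) (LL (S : Subgroup G) R ⊔ CZ (S : Subgroup G)) →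
    (¬ ∃ Bk : Subgroup G, Fact1 S Z₀ R Bk) → IsKnownSimple' G

/-- case (II) of [R-z] -/
def RBrII : Prop :=
  ∀ (G : Type u) [Group G] [Finite G], K G → ∀ (S : Sylow 2 G) (Z₀ R : Subgroup G), RB S → Frm S Z₀ R →
    IsLoc (S : Subgroup G) (LL (S : Subgroup G) R ⊔ CZ (S : Subgroup G)) → IsKnownSimple' G

end sockets

/-- **(1)-(6)**: case (II) is impossible if FACT 1 holds. -/
theorem Fr.false_of (hd : TwoDOf.{u}) (ha : AlphaOf.{u}) (hb : BetaOf.{u}) [Finite G] {S : Sylow 2 G}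
    {Z₀ R Bk : Subgroup G} (h : Fr S Z₀ R Bk) : False := by
  have D := hd G S Z₀ R Bk h
  rcases D.main with ⟨A, hA, hAO, hUA, hm, he⟩ | ⟨X₁, e, hel, hn, hO, hU, hW, A, hA, hAO, hWA, hc, hm, he⟩
  · exact ha G S Z₀ R Bk h D A hA hAO hUA hm he
  · exact hb G S Z₀ R Bk h D X₁ e hel hn hO hU hW A hA hAO hWA hc hm he

/-- **Case (II) of [R-z].** -/
theorem rbrII_of {K : Cls.{u}} (hs : Split K) (hd : TwoDOf.{u}) (ha : AlphaOf.{u}) (hb : BetaOf.{u}) : RBrII K := by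
  intro G _ _ hK S Z₀ R hB h hL
  by_cases hf : ∃ Bk : Subgroup G, Fact1 S Z₀ R Bk
  · obtain ⟨Bk, hf⟩ := hf
    exact (Fr.false_of hd ha hb ⟨h, hf, hL⟩).elim
  · exact hs G hK S Z₀ R hB h hL hf

end Cfsg.Agent.Omega.NOThreeL.RZ.TwoC
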