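import Cfsg.Agent.Omega.NOThreeL.RZ.TwoC.Ab

/-!
# [R-z], case (II) (helper513 #24309, #24705; helper885 #24934; helper960 #24850): the two sides, any `K₁`, `K₂`

`S`, `Z`, `C = CZ S`, `O = O₂(C)` as in `Ab.lean`; `K₁, K₂ ≥ C` local, `K₁ ≤ ⟨C, E₁⟩`, `E₁` normalises `NR = ⟨V^{C_G(R₁)}⟩`,
`E₂ ≤ K₂` normalises `Z₀` and `B`, `⟨K₁, E₂⟩` nonlocal: `AbK S K₁ K₂ E₁ E₂ Z₀ B V R₁`. E.g. `K₁ = ⟨L, C⟩` or `⟨L, C⟩ N_G(S)`
or `C_G(e)` (`E₁ = (K₁ ∩ Y) (K₁ ∩ N_G(S))`), `K₂ = C_G(Z₁)` or `C_G(Z₁) N_G(S)`, `E₂ = C_Y(R)` or the block types.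

* **`AbK.twoD`** : `Side.TwoD` (with `⟨C, E₂⟩` in the place of `K₂`), `U₁ = zl S K₁`, `W₂ = ⟨V^{K₂}⟩`, `NB = ⟨Z₀^{C_G(B)}⟩`;
* `AbK.le_o2K1`, `AbK.le_o2K2`, `AbK.le_o2R`, `AbK.le_o2B` : where `A` and `F` lie.
-/

set_option autoImplicit false
set_option linter.unusedSectionVars false

namespace Cfsg.Agent.Omega.NOThreeL.RZ.TwoC

open Subgroup Cfsg
open Cfsg.Agent.ZN (o2 zc zl jj)
open Cfsg.Agent.ZN.ChoiceBase hiding mem_zc
open Cfsg.Agent.Omega.ML.Final (MLK)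
open Cfsg.Agent.Omega.ML.GMod (hul hul_le hul_le_of le_hul cj_le_hul le_normalizer_hul nc ri_mono
  normalizer_le_normalizer_o2)
open Cfsg.Agent.Omega.MinPar Cfsg.Agent.Omega.Frame Cfsg.Agent.Omega.FrameNOFF
open Cfsg.Agent.Omega.NO3b.Bang
open Cfsg.Agent.Omega.NO3S.EThree.ExactA (eab_iff eab_mono)
open Cfsg.Agent.Omega.EK3.Rank (NoOn)
open Cfsg.Agent.Omega.NoFF.Basic (comm_symm)
open Cfsg.Agent.Omega.GI (relIndex_congr relIndex_sup_of_comm)
open Cfsg.Agent.MinSimple.VModule (zc_le_zl le_normalizer_zl zl_le zc_le zc_sq zc_comm mem_zc le_centralizer_zc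
  le_normalizer_o2 o2_isPGroup o2_le le_o2 normalizer_le_normalizer_zc)
open Cfsg.Agent.Omega.NOThreeL.RZ.TwoC.Loc

universe u

variable {G : Type u} [Group G]

/-- **The abstract frame of case (II), `K₁`, `K₂` variables.** -/
structure AbK [Finite G] (S : Sylow 2 G) (K₁ K₂ E₁ E₂ Z₀ B V R₁ : Subgroup G) : Prop where
  ctx : Ctx G
  l1 : IsLoc (S : Subgroup G) K₁
  l2 : IsLoc (S : Subgroup G) K₂
  C1 : CZ (S : Subgroup G) ≤ K₁
  C2 : CZ (S : Subgroup G) ≤ K₂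
  e1 : E₁ ≤ K₁
  g1 : K₁ ≤ CZ (S : Subgroup G) ⊔ E₁
  EN : E₁ ≤ normalizer (hul V (centralizer (R₁ : Set G)) : Set G)
  e2 : E₂ ≤ K₂
  EZ : E₂ ≤ normalizer (Z₀ : Set G)
  EB : E₂ ≤ normalizer (B : Set G)
  nn : NN (S : Subgroup G) V
  ZV : zc (S : Subgroup G) ≤ V
  low : V ≤ o2 (CZ (S : Subgroup G))
  R2 : IsPGroup 2 R₁
  R1 : R₁ ≠ ⊥
  SR : (S : Subgroup G) ≤ normalizer (R₁ : Set G)
  RK : centralizer (R₁ : Set G) ≤ K₂
  B2 : IsPGroup 2 B
  B1 : B ≠ ⊥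
  SB : (S : Subgroup G) ≤ normalizer (B : Set G)
  zB : zc (S : Subgroup G) ≤ (zc (S : Subgroup G) ⊓ B) ⊔ Z₀
  Z0 : Z₀ ≤ zc (S : Subgroup G)
  BW : B ≤ hul V K₂
  BU : hul Z₀ (centralizer (B : Set G)) ≤ zl (S : Subgroup G) K₁
  nl : ∀ U : Subgroup G, IsPGroup 2 U → K₁ ≤ normalizer (U : Set G) → E₂ ≤ normalizer (U : Set G) → U = ⊥

namespace AbK

variable [Finite G] {S : Sylow 2 G} {K₁ K₂ E₁ E₂ Z₀ B V R₁ : Subgroup G} (h : AbK S K₁ K₂ E₁ E₂ Z₀ B V R₁)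
include h

theorem kg {X : Subgroup G} (hL : IsLoc (S : Subgroup G) X) : IsKGroup X :=
  ML.GNN.kgroup_of_isLoc h.ctx h.ctx.not_isPGroup hL

theorem zc_ne : zc (S : Subgroup G) ≠ ⊥ :=
  MinSimple.Basic.zc_ne_bot S.isPGroup' (h.ctx.sylow_ne_bot S)

/-- `C_G(R₁) S` is local -/
theorem locR : IsLoc (S : Subgroup G) (centralizer (R₁ : Set G) ⊔ (S : Subgroup G)) :=
  isLoc_of_le_normalizer S le_sup_right h.R2 h.R1 (sup_le (centralizer_le_normalizer _) h.SR)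

theorem hul_R : hul V (centralizer (R₁ : Set G) ⊔ (S : Subgroup G)) = hul V (centralizer (R₁ : Set G)) := by
  refine le_antisymm (hul_le_of (le_hul _ _) ?_) (hul_mono le_sup_left)
  exact sup_le (le_normalizer_hul _ _) (norm_hul h.nn.norm (h.SR.trans (nc _)))

/-- `C_G(B) S` is local -/
theorem locB : IsLoc (S : Subgroup G) (centralizer (B : Set G) ⊔ (S : Subgroup G)) :=
  isLoc_of_le_normalizer S le_sup_right h.B2 h.B1 (sup_le (centralizer_le_normalizer _) h.SB)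

/-- `⟨Z^{C_G(B) S}⟩ = ⟨Z₀^{C_G(B)}⟩ (Z ∩ B)` -/
theorem zl_B : zl (S : Subgroup G) (centralizer (B : Set G) ⊔ (S : Subgroup G)) =
    hul Z₀ (centralizer (B : Set G)) ⊔ (zc (S : Subgroup G) ⊓ B) := by
  apply le_antisymm
  · refine zl_le ?_ ?_
    · exact h.zB.trans (sup_le le_sup_right ((le_hul _ _).trans le_sup_left))
    · have hSZ0 : (S : Subgroup G) ≤ normalizer (Z₀ : Set G) :=
        ((le_CZ S).trans (centralizer_le h.Z0)).trans (centralizer_le_normalizer _)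
      refine sup_le (le_normalizer_sup (le_normalizer_hul _ _) ?_) (le_normalizer_sup ?_ ?_)
      · exact (centralizer_le inf_le_right).trans (centralizer_le_normalizer _)
      · exact norm_hul hSZ0 (h.SB.trans (nc _))
      · exact ((le_CZ S).trans (centralizer_le inf_le_left)).trans (centralizer_le_normalizer _)
  · refine sup_le ?_ (inf_le_left.trans (zc_le_zl _ _))
    refine hul_le_of (h.Z0.trans (zc_le_zl _ _)) (le_sup_left.trans (le_normalizer_zl _ _))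

theorem hRW : hul V (centralizer (R₁ : Set G)) ≤ hul V K₂ := hul_mono h.RK

/-! ### Where `A` and `F` lie -/

/-- `A ∈ AA(C_O(U₁))`: `A ≤ O₂(K₁)` -/
theorem le_o2K1 : o2 (CZ (S : Subgroup G)) ⊓ centralizer (zl (S : Subgroup G) K₁ : Set G) ≤ o2 K₁ :=
  inf_cent_le h.l1.le (zc_le_zl _ _) (le_normalizer_zl _ _)

/-- `A ∈ AA(C_O(W₂))`: `A ≤ O₂(K₂)` -/
theorem le_o2K2 : o2 (CZ (S : Subgroup G)) ⊓ centralizer (hul V K₂ : Set G) ≤ o2 K₂ :=
  inf_cent_le h.l2.le (h.ZV.trans (le_hul _ _)) (le_normalizer_hul _ _)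

/-- `F = C_A(NR) ≤ O₂(C_G(R₁) S)` -/
theorem le_o2R : o2 (CZ (S : Subgroup G)) ⊓ centralizer (hul V (centralizer (R₁ : Set G)) : Set G) ≤
    o2 (centralizer (R₁ : Set G) ⊔ (S : Subgroup G)) := by
  rw [← h.hul_R]
  exact inf_cent_le le_sup_right (h.ZV.trans (le_hul _ _)) (le_normalizer_hul _ _)

/-- `F = C_A(NB) ≤ O₂(C_G(B) S)` if `F` centralises `B` -/
theorem le_o2B {F : Subgroup G} (hF : F ≤ o2 (CZ (S : Subgroup G)))
    (hFN : F ≤ centralizer (hul Z₀ (centralizer (B : Set G)) : Set G)) (hFB : F ≤ centralizer (B : Set G)) :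
    F ≤ o2 (centralizer (B : Set G) ⊔ (S : Subgroup G)) := by
  refine le_trans (le_inf hF ?_) (inf_cent_le (W := zl (S : Subgroup G) (centralizer (B : Set G) ⊔ (S : Subgroup G)))
    le_sup_right (zc_le_zl _ _) (le_normalizer_zl _ _))
  rw [h.zl_B]
  exact comm_symm (sup_le (comm_symm hFN) (inf_le_right.trans (comm_symm hFB)))

variable (hM : MLK.{u, u})
include hM

/-- `(NO)` on `⟨V^{C_G(R₁)}⟩` -/
theorem noOnR : NoOn (o2 (CZ (S : Subgroup G))) (hul V (centralizer (R₁ : Set G))) := by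
  rw [← h.hul_R]
  exact noOn_hul hM h.ctx h.locR (h.kg h.locR) h.nn h.low h.ZV

/-- `(NO)` on `⟨Z₀^{C_G(B)}⟩` for the elementary abelian `A ≤ O` centralising `B` -/
theorem noB {A : Subgroup G} (hel : IsElementaryAbelian 2 A) (hA : A ≤ o2 (CZ (S : Subgroup G)))
    (hAB : A ≤ centralizer (B : Set G)) :
    (centralizer (hul Z₀ (centralizer (B : Set G)) : Set G)).relIndex A ≤
      (centralizer (A : Set G)).relIndex (hul Z₀ (centralizer (B : Set G))) := by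
  have hX := h.locB
  have h1 := gml hM h.ctx hX (h.kg hX) hA (eab_iff.1 hel).2
  have hzc := hX.zl_le S h.ctx.char2
  rw [h.zl_B] at h1 hzc
  set NB : Subgroup G := hul Z₀ (centralizer (B : Set G)) with hNB
  have hAZ : A ≤ centralizer ((zc (S : Subgroup G) ⊓ B : Subgroup G) : Set G) := hAB.trans (centralizer_le inf_le_right)
  have e1 : (centralizer ((NB ⊔ (zc (S : Subgroup G) ⊓ B) : Subgroup G) : Set G)).relIndex A =
      (centralizer (NB : Set G)).relIndex A := by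
    refine relIndex_congr (le_antisymm (inf_le_inf_left _ (centralizer_le (SetLike.coe_subset_coe.2 le_sup_left))) ?_)
    refine le_inf inf_le_left (comm_symm (sup_le (comm_symm inf_le_right) (comm_symm (inf_le_left.trans hAZ))))
  have e2 : (centralizer (A : Set G)).relIndex (NB ⊔ (zc (S : Subgroup G) ⊓ B)) = (centralizer (A : Set G)).relIndex NB := by
    refine relIndex_sup_of_comm (comm_symm hAZ) ?_
    intro x hx
    rw [mem_centralizer_iff]
    intro y hy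
    exact zc_comm _ _ (hzc (le_sup_right (a := NB) hy)) _ (hzc (le_sup_left (b := zc (S : Subgroup G) ⊓ B) hx))
  rwa [e1, e2] at h1

/-- **The two sides.** -/
theorem twoD :
    Side.TwoD (o2 (CZ (S : Subgroup G))) (CZ (S : Subgroup G)) K₁ (CZ (S : Subgroup G) ⊔ E₂) E₁ E₂
      (zl (S : Subgroup G) K₁) (hul V K₂) (hul V (centralizer (R₁ : Set G))) (hul Z₀ (centralizer (B : Set G))) := by
  have l1 := h.l1
  have l2 := h.l2
  have hnn := nn_hul hM h.ctx l2 (h.kg l2) h.nn h.low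
  have hO1 : o2 K₁ ≤ o2 (CZ (S : Subgroup G)) := o2_le_o2 S (le_CZ S) h.C1
  have hO2 : o2 K₂ ≤ o2 (CZ (S : Subgroup G)) := o2_le_o2 S (le_CZ S) h.C2
  have hz1 := l1.zl_le S h.ctx.char2
  have hK2 : CZ (S : Subgroup G) ⊔ E₂ ≤ K₂ := sup_le h.C2 h.e2
  exact
  { OD := o2_le _
    DO := le_normalizer_o2 _
    D1 := h.C1
    D2 := le_sup_left
    e1 := h.e1
    g1 := h.g1
    e2 := le_sup_right
    g2 := sup_le ((le_inf h.C1 le_sup_left).trans le_sup_left) le_sup_right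
    el1 := eab_iff.2 ⟨fun x hx => mem_centralizer_iff.2 fun y hy => zc_comm _ _ (hz1 hy) _ (hz1 hx),
      fun x hx => zc_sq _ _ (hz1 hx)⟩
    el2 := hul_eab hM h.ctx l2 (h.kg l2) h.nn h.low
    UO := (hz1.trans (zc_le _)).trans hO1
    WO := hnn.le.trans hO2
    KU := le_normalizer_zl _ _
    KW := hK2.trans (le_normalizer_hul _ _)
    q1 := norm_inf h.C1 (zc_le_zl _ _) (le_normalizer_zl _ _)
    q2 := hK2.trans (norm_inf h.C2 (h.ZV.trans (le_hul _ _)) (le_normalizer_hul _ _))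
    core1 := by
      intro X hX hn
      have h1 : X ≤ o2 K₁ := le_o2 (hX.trans ((o2_le _).trans h.C1)) ((o2_isPGroup _).to_le hX) hn
      intro x hx
      rw [mem_centralizer_iff]
      intro y hy
      exact ((mem_zc.1 (hz1 hy)).2.1 _ (h1 hx)).symm
    no1 := fun A hel hA => gml hM h.ctx l1 (h.kg l1) hA (eab_iff.1 hel).2
    no2 := noOn_hul hM h.ctx l2 (h.kg l2) h.nn h.low h.ZV
    RW := h.hRW
    ER := h.EN
    noR := fun A hA => h.noOnR hM A hA.1 (hA.2.1.trans inf_le_left)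
    BU := h.BU
    EB := norm_hul h.EZ (h.EB.trans (nc _))
    noB := fun A hA => h.noB hM hA.1 (hA.2.1.trans inf_le_left)
      ((hA.2.1.trans inf_le_right).trans (centralizer_le h.BW))
    nonloc := fun X hX h1 h2 => h.nl X ((o2_isPGroup _).to_le hX) h1 (le_sup_right.trans h2)
    ne := fun e => h.zc_ne (le_bot_iff.1 (e ▸ zc_le_zl _ _)) }

end AbK

end Cfsg.Agent.Omega.NOThreeL.RZ.TwoC
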