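import Cfsg.Agent.Omega.NOThreeL.RZ.TwoC.Ab
import Cfsg.Agent.Omega.KL.StarX.Grp

/-!
# [R-z], case (II) (helper513, #24309 (4)): (alpha) is impossible

Over the abstract frame `Ab` of helper652, with `R₁ ≤ V`, `C_{R₁}(S) ≤ Z₁`, `N_G(S) ≤ N_G(R₁)`, `E ≤ C_G(R₁) S`:
no `A ∈ AA(C_O(U₁))` has `F = C_A(NR)` exact on `W₂` and `[F, W₂] ≠ 1`.

* `cent_of_nn` : `W ∈ NN(T)`, `A ≤ T`, `|W : C_W(A)| ≤ |A : C_A(W)|` imply `[A, W] = 1`;
* `ker_of_exact` : `F` exact on `W`, `|F : C_F(U)| ≤ |U : C_U(F)|`, `U ≤ W ∈ NN(T)`, `C_F(U) ≤ T` imply `[C_F(U), W] = 1`;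
* **`Ab.alpha`** : (alpha) is impossible, from `MLK`, `Ext` (`KL/StarX`: the L-types in `C_G(Z₁)` may move `Z` and `R₁`).
-/

set_option autoImplicit false
set_option linter.unusedSectionVars false

namespace Cfsg.Agent.Omega.NOThreeL.RZ.TwoC.Alpha

open Subgroup Cfsg
open Cfsg.Agent.ZN (o2 zc zl jj)
open Cfsg.Agent.ZN.ChoiceBase hiding mem_zc
open Cfsg.Agent.Omega.ML.Final (MLK)
open Cfsg.Agent.Omega.ML.GMod (hul hul_le hul_le_of le_hul cj_le_hul le_normalizer_hul nc ri_mono
  normalizer_le_normalizer_o2)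
open Cfsg.Agent.Omega.ML.GNN (card_mul)
open Cfsg.Agent.Omega.FFThm
open Cfsg.Agent.Omega.MinPar Cfsg.Agent.Omega.Frame Cfsg.Agent.Omega.FrameNOFF
open Cfsg.Agent.Omega.NO3b.Bang
open Cfsg.Agent.Omega.NO3S.EThree.ExactA (eab_iff eab_mono)
open Cfsg.Agent.Omega.EK3.Rank (NoOn)
open Cfsg.Agent.Omega.NoFF.Basic (comm_symm Z_le_V V_le)
open Cfsg.Agent.MinSimple.VModule (zc_le_zl le_normalizer_zl zl_le zc_le zc_sq zc_comm mem_zc le_centralizer_zc
  le_normalizer_o2 o2_isPGroup o2_le le_o2 normalizer_le_normalizer_zc)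
open Cfsg.Agent.MinSimple.Basic (not_dvd_relIndex)
open Cfsg.Agent.MinSimple.MinParabolic (IsMinPar)
open Cfsg.Agent.Omega.NOThreeL.RZ.TwoC.Loc
open Cfsg.Agent.Omega.KL.StarX (GInX)
open scoped Pointwise

universe u

variable {G : Type u} [Group G] [Finite G]

/-- no offender in `T` -/
theorem cent_of_nn {T W A : Subgroup G} (hW : NN T W) (hA : A ≤ T) (hel : IsElementaryAbelian 2 A)
    (hle : (centralizer (A : Set G)).relIndex W ≤ (centralizer (W : Set G)).relIndex A) :
    A ≤ centralizer (W : Set G) := by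
  by_contra hc
  refine hW.nff A hA ⟨offM_of_abel (eab_iff.1 hel).1 fun a ha => (eab_iff.1 hel).2 a ha, hc, ?_⟩
  have e1 : Nat.card ↥(A ⊓ centralizer (W : Set G)) * (centralizer (W : Set G)).relIndex A = Nat.card A := by
    rw [← inf_relIndex_left]
    exact card_mul inf_le_left
  have e2 : Nat.card ↥(W ⊓ centralizer (A : Set G)) * (centralizer (A : Set G)).relIndex W = Nat.card W := by
    rw [← inf_relIndex_left]
    exact card_mul inf_le_left
  rw [← e1, ← e2]
  calc _ ≤ Nat.card ↥(W ⊓ centralizer (A : Set G)) * (centralizer (W : Set G)).relIndex A *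
          Nat.card ↥(A ⊓ centralizer (W : Set G)) := by
          exact Nat.mul_le_mul_right _ (Nat.mul_le_mul_left _ hle)
      _ = _ := by ring

/-- `C_F(U)` is trivial on `W` if `F` is exact on `W` -/
theorem ker_of_exact {T W U F : Subgroup G} (hW : NN T W) (hUW : U ≤ W) (hel : IsElementaryAbelian 2 F)
    (hF : F ⊓ centralizer (U : Set G) ≤ T)
    (he : (centralizer (W : Set G)).relIndex F = (centralizer (F : Set G)).relIndex W)
    (hno : (centralizer (U : Set G)).relIndex F ≤ (centralizer (F : Set G)).relIndex U) :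
    F ⊓ centralizer (U : Set G) ≤ centralizer (W : Set G) := by
  set F₀ : Subgroup G := F ⊓ centralizer (U : Set G) with hF₀
  refine cent_of_nn hW hF (eab_mono hel inf_le_left) ?_
  have hWU : centralizer (W : Set G) ≤ centralizer (U : Set G) := centralizer_le hUW
  have hFF : centralizer (F : Set G) ≤ centralizer (F₀ : Set G) := centralizer_le inf_le_left
  -- `|F : C_F(W)| = |F₀ : C(W)| |F : F₀|`
  have h1 : (centralizer (W : Set G)).relIndex F₀ * (centralizer (U : Set G)).relIndex F =
      (centralizer (W : Set G)).relIndex F := by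
    have h2 := relIndex_inf_mul_relIndex (centralizer (W : Set G)) (centralizer (U : Set G)) F
    rw [inf_eq_left.2 hWU, inf_comm] at h2
    exact h2
  -- `|W : C_W(F)| = |W : C_W(F₀)| |C_W(F₀) : C_W(F)|`
  have h3 : (centralizer (F : Set G)).relIndex (centralizer (F₀ : Set G) ⊓ W) *
      (centralizer (F₀ : Set G)).relIndex W = (centralizer (F : Set G)).relIndex W := by
    have h2 := relIndex_inf_mul_relIndex (centralizer (F : Set G)) (centralizer (F₀ : Set G)) W
    rw [inf_eq_left.2 hFF] at h2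
    exact h2
  have h4 : (centralizer (F : Set G)).relIndex U ≤
      (centralizer (F : Set G)).relIndex (centralizer (F₀ : Set G) ⊓ W) :=
    KL.TwoS.relIndex_mono (le_inf (comm_symm inf_le_right) hUW)
  have h5 : 0 < (centralizer (F : Set G)).relIndex U := Nat.pos_of_ne_zero (ML.GMod.ri_ne _ _)
  have h6 : (centralizer (F₀ : Set G)).relIndex W * (centralizer (F : Set G)).relIndex U ≤
      (centralizer (W : Set G)).relIndex F₀ * (centralizer (F : Set G)).relIndex U := by
    calc (centralizer (F₀ : Set G)).relIndex W * (centralizer (F : Set G)).relIndex U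
        ≤ (centralizer (F : Set G)).relIndex (centralizer (F₀ : Set G) ⊓ W) *
          (centralizer (F₀ : Set G)).relIndex W := by
          rw [mul_comm]
          exact Nat.mul_le_mul_right _ h4
      _ = (centralizer (W : Set G)).relIndex F₀ * (centralizer (U : Set G)).relIndex F := by rw [h3, ← he, h1]
      _ ≤ _ := Nat.mul_le_mul_left _ hno
  exact Nat.le_of_mul_le_mul_right h6 h5

/-- `⟨Z^L⟩` in the two notations -/
theorem zl_eq (S L : Subgroup G) : NoFF.Basic.V (zc S) L = zl S L := by
  apply le_antisymm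
  · refine V_le fun g hg => ?_
    have h1 : cj g (zl S L) = zl S L := cj_eq_of_mem_normalizer (le_normalizer_zl S L hg)
    calc MulAut.conj g • zc S = cj g (zc S) := rfl
      _ ≤ cj g (zl S L) := cj_mono g (zc_le_zl S L)
      _ = _ := h1
  · exact iSup_le fun g => Z_le_V g.2

variable {S : Sylow 2 G} {L E Z₀ B V Z₁ R₁ : Subgroup G}

/-- **(alpha) is impossible.** -/
theorem _root_.Cfsg.Agent.Omega.NOThreeL.RZ.TwoC.Ab.alpha (h : Ab S L E Z₀ B V Z₁ R₁) (hM : MLK.{u, u})
    (hX : ML.Ex.Two.Ext.{u, u}) (RV : R₁ ≤ V)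
    (nR : normalizer ((S : Subgroup G) : Set G) ≤ normalizer (R₁ : Set G))
    (cR : R₁ ⊓ centralizer ((S : Subgroup G) : Set G) ≤ Z₁) (hE : E ≤ centralizer (R₁ : Set G) ⊔ (S : Subgroup G))
    {A : Subgroup G}
    (hA : A ∈ AA (o2 (CZ (S : Subgroup G)) ⊓ centralizer (zl (S : Subgroup G) (K1 (S : Subgroup G) L) : Set G)))
    (hm : ¬ A ⊓ centralizer (hul V (centralizer (R₁ : Set G)) : Set G) ≤
      centralizer (hul V (K2 (S : Subgroup G) Z₁) : Set G))
    (he : (centralizer (hul V (K2 (S : Subgroup G) Z₁) : Set G)).relIndex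
        (A ⊓ centralizer (hul V (centralizer (R₁ : Set G)) : Set G) : Subgroup G) =
      (centralizer ((A ⊓ centralizer (hul V (centralizer (R₁ : Set G)) : Set G) : Subgroup G) : Set G)).relIndex
        (hul V (K2 (S : Subgroup G) Z₁))) : False := by
  set F : Subgroup G := A ⊓ centralizer (hul V (centralizer (R₁ : Set G)) : Set G) with hF
  set W : Subgroup G := hul V (K2 (S : Subgroup G) Z₁) with hW
  set H : Subgroup G := centralizer (Z₁ : Set G) with hH
  have l2 := h.locK2
  have hSH : (S : Subgroup G) ≤ H := (le_CZ S).trans (centralizer_le h.Z1_le)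
  have hHK : H ≤ K2 (S : Subgroup G) Z₁ := le_sup_left
  have lH : IsLoc (S : Subgroup G) H :=
    isLoc_of_le_normalizer S hSH (S.isPGroup'.to_le (h.Z1_le.trans (zc_le _))) h.ne1 (centralizer_le_normalizer _)
  have hAO : A ≤ o2 (CZ (S : Subgroup G)) := hA.2.1.trans inf_le_left
  have hFA : F ≤ A := inf_le_left
  have hFO : F ≤ o2 (CZ (S : Subgroup G)) := hFA.trans hAO
  have hFS : F ≤ (S : Subgroup G) := hFO.trans o2C_le
  have helF : IsElementaryAbelian 2 F := eab_mono hA.1 hFA
  have hnn := nn_hul hM h.ctx l2 (h.kg l2) h.nn h.low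
  have hnW : K2 (S : Subgroup G) Z₁ ≤ normalizer (W : Set G) := le_normalizer_hul _ _
  have hZW : zc (S : Subgroup G) ≤ W := h.ZV.trans (le_hul _ _)
  have hUW : zl (S : Subgroup G) H ≤ W := zl_le hZW (hHK.trans hnW)
  have hgml : ∀ B : Subgroup G, B ≤ F → (centralizer (zl (S : Subgroup G) H : Set G)).relIndex B ≤
      (centralizer (B : Set G)).relIndex (zl (S : Subgroup G) H) := fun B hB =>
    gml hM h.ctx lH (h.kg lH) (hB.trans hFO) (eab_iff.1 (eab_mono helF hB)).2
  -- `O ∩ C(⟨Z^H⟩) ≤ O₂(K₂)`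
  have hnU : K2 (S : Subgroup G) Z₁ ≤ normalizer (zl (S : Subgroup G) H : Set G) := by
    have e : zl (S : Subgroup G) H = hul (zc (S : Subgroup G)) H :=
      le_antisymm (zl_le (le_hul _ _) (le_normalizer_hul _ _)) (hul_le_of (zc_le_zl _ _) (le_normalizer_zl _ _))
    rw [e]
    refine sup_le (le_normalizer_hul _ _) ?_
    exact norm_hul (normalizer_le_normalizer_zc _) (h.n1.trans (nc _))
  have hker : F ⊓ centralizer (zl (S : Subgroup G) H : Set G) ≤ centralizer (W : Set G) := by
    refine ker_of_exact hnn hUW helF ?_ he (hgml F le_rfl)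
    exact (inf_le_inf_right _ hFO).trans (inf_cent_le l2.le (zc_le_zl _ _) hnU)
  have hmv : ¬ F ≤ centralizer (zl (S : Subgroup G) H : Set G) := fun hc => hm ((le_inf le_rfl hc).trans hker)
  have hRH : centralizer (R₁ : Set G) ≤ H := centralizer_le h.ZR
  have hEH : E ≤ H := h.EZ.trans (centralizer_le h.le1)
  refine (GInX.false_of hM hX (C := H) (T := (S : Subgroup G)) (A := F) (M := W) (D := K1 (S : Subgroup G) L)
    (Z := zc (S : Subgroup G)) (Y := R₁) ?_)
  rw [← zl_eq] at hmv hker hgml
  exact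
  { CM := hHK.trans hnW
    sqM := hnn.sq
    TC := hSH
    two := S.isPGroup'
    syl := not_dvd_relIndex S hSH
    ZM := hZW
    TZ := le_centralizer_zc _
    YM := RV.trans (le_hul _ _)
    NY := inf_le_right.trans nR
    cY := centralizer_le cR
    ND := inf_le_right.trans le_sup_right
    AD := by
      refine le_trans (le_inf ((le_inf hFO ?_).trans h.le_o2K1) (le_inf (hFS.trans hSH) (hFS.trans h.S_le_K1))) ?_
      · exact hFA.trans (hA.2.1.trans inf_le_right)
      · rw [inf_comm]
        refine le_o2 inf_le_left ((o2_isPGroup _).to_le inf_le_right) ?_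
        exact le_trans (le_inf Subgroup.le_normalizer (inf_le_right.trans (le_normalizer_o2 _)))
          inf_normalizer_le_normalizer_inf
    par := by
      intro P hP0 hPH
      have hP := lH.isPar S hP0 hPH
      by_cases hz : P ≤ normalizer (zc (S : Subgroup G) : Set G)
      · have h1 := Nz.le_centralizer_of hP hz
        exact Or.inr ⟨h1.trans h.C_le_K1, Or.inl h1⟩
      rcases h.dich P ⟨hP, hz⟩ with h1 | h1
      · exact Or.inr ⟨h1.trans h.L_le_K1, Or.inr (h1.trans h.LR)⟩
      · refine Or.inl ⟨fun hc => hz (hc.trans (centralizer_le_normalizer _)), fun g hg hgo => ?_⟩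
        -- odd elements of `C(R₁) S`
        have h2 : g ∈ centralizer (R₁ : Set G) ⊔ (S : Subgroup G) := hE (h1 hg)
        set X : Subgroup G := centralizer (R₁ : Set G) ⊔ (S : Subgroup G) with hXd
        have hSR : X ≤ normalizer (centralizer (R₁ : Set G) : Set G) :=
          sup_le Subgroup.le_normalizer ((Subgroup.le_normalizer.trans nR).trans (nc _))
        have h3 : ((centralizer (R₁ : Set G)).subgroupOf X).Normal := normal_subgroupOf_of_le_normalizer hSR
        have h4 : (centralizer (R₁ : Set G)).subgroupOf X ⊔ (S : Subgroup G).subgroupOf X = ⊤ := by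
          rw [← subgroupOf_sup le_sup_left le_sup_right, subgroupOf_self]
        have h5 := KL.Star.Core.mem_of_odd (K := (centralizer (R₁ : Set G)).subgroupOf X)
          (T := (S : Subgroup G).subgroupOf X) S.isPGroup'.comap_subtype h4 (g := ⟨g, h2⟩) (by rwa [orderOf_mk])
        exact h5
    low := by
      have e : H ⊓ centralizer (R₁ : Set G) = centralizer (R₁ : Set G) := inf_eq_right.2 hRH
      rw [e]
      exact (le_inf hFO inf_le_right).trans h.le_o2R
    AT := hFS
    sqA := (eab_iff.1 helF).2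
    mv := hmv
    ker := hker
    le := by
      have h1 := relIndex_inf_mul_relIndex (centralizer (W : Set G))
        (centralizer (NoFF.Basic.V (zc (S : Subgroup G)) H : Set G)) F
      have h2 : centralizer (W : Set G) ≤ centralizer (NoFF.Basic.V (zc (S : Subgroup G)) H : Set G) := by
        rw [zl_eq]
        exact centralizer_le hUW
      rw [inf_eq_left.2 h2, inf_comm] at h1
      have h3 : (centralizer (W : Set G)).relIndex
          (F ⊓ centralizer (NoFF.Basic.V (zc (S : Subgroup G)) H : Set G) : Subgroup G) = 1 := relIndex_eq_one.2 hker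
      rw [h3, one_mul] at h1
      rw [h1]
      exact he.ge
    no := hgml
    K := h.kg lH }

end Cfsg.Agent.Omega.NOThreeL.RZ.TwoC.Alpha
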