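import Cfsg.Agent.Omega.NOThreeL.RZ.TwoC.AbX
import Cfsg.Agent.Omega.NOThreeL.RZ.TwoC.Alpha
import Cfsg.Agent.Omega.KL.StarR.GrpR
import Cfsg.Agent.Omega.KL.StarR.Main

/-!
# (alpha) over the frame `FrX` (THEOREM REL: helper849 #25853, helper863 #25809; helper820 #26172)

`K₂ = C_G(X)`, `U₂ = ⟨Z^{K₂}⟩`, `W₂ = ⟨V*^{K₂}⟩`.

* `FrX.nk`, `FrX.no` : a subgroup `F` of a member of `AA(O)`: `C_F(U₂)` centralises `W₂`, `(NO)` on `W₂`;
* `FrX.altB` : `P ∈ P*(S)`: `C_S(B) ≤ O₂(P)` or `P ≤ C_G(B ∩ Z)`;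
* **`FrX.gInR_two`** : helper127's `GInR` for `K₂`, `S`, `F`, `J`, `Q`, `W₂`, `B ∩ Z`, `Z`, `R`;
* **`FrX.false_alpha`** : (alpha) is impossible.
-/

set_option autoImplicit false
set_option linter.unusedSectionVars false

namespace Cfsg.Agent.Omega.NOThreeL.RZ.TwoC

open Subgroup Cfsg
open Cfsg.Agent.ZN (o2 zc zl jj)
open Cfsg.Agent.ZN.ChoiceBase hiding mem_zc
open Cfsg.Agent.Omega.ML.Final (MLK)
open Cfsg.Agent.Omega.ML.GMod (hul hul_le hul_le_of le_hul cj_le_hul le_normalizer_hul nc ri_mono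
  normalizer_le_normalizer_o2)
open Cfsg.Agent.Omega.MinPar Cfsg.Agent.Omega.Frame Cfsg.Agent.Omega.FrameNOFF
open Cfsg.Agent.Omega.NOThreeL.Star (YS le_YS S_le_YS zl_mono)
open Cfsg.Agent.Omega.NO3S.EThree.ExactA (eab_iff eab_mono)
open Cfsg.Agent.Omega.NoFF.Basic (comm_symm)
open Cfsg.Agent.Omega.GI (relIndex_congr)
open Cfsg.Agent.MinSimple.VModule (zc_le_zl le_normalizer_zl zl_le zc_le zc_sq zc_comm mem_zc le_centralizer_zc
  le_normalizer_o2 o2_isPGroup o2_le le_o2)
open Cfsg.Agent.MinSimple.Basic (not_dvd_relIndex)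
open Cfsg.Agent.MinSimple.MinParabolic (IsMinPar)
open Cfsg.Agent.Omega.NOThreeL.RZ.TwoC.Loc (gml o2C_le inf_cent_le norm_inf)
open Cfsg.Agent.Omega.KL.StarR (GInR)
open Cfsg.Agent.Omega.NO3b.EndX (RedP)

universe u

variable {G : Type u} [Group G]

namespace FrX

variable [Finite G] {S : Sylow 2 G} {R B X : Subgroup G} {e : G} (h : FrX S R B X e)
include h

/-- `U₂ ≤ W₂` -/
theorem U2_le : zl (S : Subgroup G) (centralizer (X : Set G)) ≤
    hul (zl (S : Subgroup G) (YS S)) (centralizer (X : Set G)) :=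
  zl_le ((zc_le_zl _ _).trans (le_hul _ _)) (le_normalizer_hul _ _)

theorem elU2 : IsElementaryAbelian 2 (zl (S : Subgroup G) (centralizer (X : Set G))) := by
  have hU := h.lK2.zl_le S h.ctx.char2
  exact eab_iff.2 ⟨fun x hx => mem_centralizer_iff.2 fun y hy => zc_comm _ _ (hU hy) _ (hU hx),
    fun x hx => zc_sq _ _ (hU hx)⟩

theorem U2O : zl (S : Subgroup G) (centralizer (X : Set G)) ≤ o2 (CZ (S : Subgroup G)) :=
  ((h.lK2.zl_le S h.ctx.char2).trans (zc_le _)).trans (o2_le_o2 S (le_CZ S) h.C2)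

/-- `C_A(U₂)` centralises `W₂` for `A ∈ AA(O)` -/
theorem nk (hM : MLK.{u, u}) {A : Subgroup G} (hA : A ∈ AA (o2 (CZ (S : Subgroup G)))) :
    A ⊓ centralizer (zl (S : Subgroup G) (centralizer (X : Set G)) : Set G) ≤
      centralizer (hul (zl (S : Subgroup G) (YS S)) (centralizer (X : Set G)) : Set G) := by
  have h1 := SideP.exch_inf h.elU2 h.U2O
    (fun A hA => gml hM h.ctx h.lK2 (h.kg h.lK2) hA.2.1 (eab_iff.1 hA.1).2) hA
  have h2 := (h.W2 hM).1 _ h1
  exact le_sup_left.trans (((eab_iff.1 h1.1).1).trans (centralizer_le h2))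

/-- `(NO)` on `W₂` for the subgroups of a member of `AA(O)` -/
theorem no (hM : MLK.{u, u}) {A : Subgroup G} (hA : A ∈ AA (o2 (CZ (S : Subgroup G)))) {F : Subgroup G} (hF : F ≤ A) :
    (centralizer (hul (zl (S : Subgroup G) (YS S)) (centralizer (X : Set G)) : Set G)).relIndex F ≤
      (centralizer (F : Set G)).relIndex (hul (zl (S : Subgroup G) (YS S)) (centralizer (X : Set G))) := by
  have h1 : (centralizer (hul (zl (S : Subgroup G) (YS S)) (centralizer (X : Set G)) : Set G)).relIndex F =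
      (centralizer (zl (S : Subgroup G) (centralizer (X : Set G)) : Set G)).relIndex F := by
    refine relIndex_congr (le_antisymm (inf_le_inf_left _ (centralizer_le h.U2_le)) (le_inf inf_le_left ?_))
    exact (inf_le_inf_right _ hF).trans (h.nk hM hA)
  rw [h1]
  exact (gml hM h.ctx h.lK2 (h.kg h.lK2) (hF.trans hA.2.1) fun a ha => (eab_iff.1 hA.1).2 a (hF ha)).trans
    (ri_mono _ h.U2_le)

/-- `P ∈ P*(S)`: `C_S(B) ≤ O₂(P)` or `P ≤ C_G(B ∩ Z)` -/
theorem altB {P : Subgroup G} (hP : IsParS (S : Subgroup G) P) :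
    (S : Subgroup G) ⊓ centralizer (B : Set G) ≤ o2 P ∨
      P ≤ centralizer ((B ⊓ zc (S : Subgroup G) : Subgroup G) : Set G) := by
  have hPB : P ≤ normalizer (B : Set G) := (le_YS hP).trans h.nB
  have hn : P ≤ normalizer ((P ⊓ centralizer (B : Set G) : Subgroup G) : Set G) := by
    intro p hp
    rw [mem_normalizer_iff_cj, cj_inf, cj_centralizer, cj_eq_of_mem_normalizer (le_normalizer hp),
      cj_eq_of_mem_normalizer (hPB hp)]
  rcases hP.toIsPar.sup_eq_or_inf_le S inf_le_left hn with h1 | h1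
  · right
    rw [← h1]
    exact sup_le (inf_le_right.trans (centralizer_le inf_le_left)) ((le_CZ S).trans (centralizer_le inf_le_right))
  · exact Or.inl ((le_inf inf_le_left (le_inf (inf_le_left.trans hP.le) inf_le_right)).trans h1)

/-- `P ∈ P*(S)` with `C_S(B) ≤ O₂(P)` normalises `C_S(B)` -/
theorem nJB {P : Subgroup G} (hP : IsParS (S : Subgroup G) P)
    (h1 : (S : Subgroup G) ⊓ centralizer (B : Set G) ≤ o2 P) :
    P ≤ normalizer (((S : Subgroup G) ⊓ centralizer (B : Set G) : Subgroup G) : Set G) := by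
  have e : (S : Subgroup G) ⊓ centralizer (B : Set G) = o2 P ⊓ centralizer (B : Set G) :=
    le_antisymm (le_inf h1 inf_le_right) (inf_le_inf_right _ (hP.isLoc.o2_le S))
  rw [e]
  intro p hp
  rw [mem_normalizer_iff_cj, cj_inf, cj_centralizer, cj_eq_of_mem_normalizer (le_normalizer_o2 P hp),
    cj_eq_of_mem_normalizer (h.nB (le_YS hP hp))]

/-- `n ∈ N_G(S)` normalises `C_S(B)` if it normalises `B` -/
theorem nJB_of {n : G} (hn : n ∈ normalizer ((S : Subgroup G) : Set G)) (hB : n ∈ normalizer (B : Set G)) :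
    n ∈ normalizer (((S : Subgroup G) ⊓ centralizer (B : Set G) : Subgroup G) : Set G) := by
  rw [mem_normalizer_iff_cj, cj_inf, cj_centralizer, cj_eq_of_mem_normalizer hn, cj_eq_of_mem_normalizer hB]

/-- **The input of KL\*, side 2.** -/
theorem gInR_two (spl : B ⊓ R = ⊥) (hM : MLK.{u, u}) {J Q : Subgroup G}
    (JS : J ≤ (S : Subgroup G))
    (QR : centralizer (X : Set G) ⊓ Q ≤ normalizer (R : Set G))
    (QB : centralizer (X : Set G) ⊓ Q ≤ normalizer (B : Set G))
    (QJ : centralizer (X : Set G) ⊓ Q ≤ normalizer (J : Set G))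
    (SQ : centralizer (X : Set G) ⊓ normalizer ((S : Subgroup G) : Set G) ≤ Q)
    (PQ : ∀ P, IsParS (S : Subgroup G) P → J ≤ o2 P → P ≤ centralizer (X : Set G) → P ≤ Q)
    (PJ : ∀ P, IsParS (S : Subgroup G) P → P ≤ centralizer (X : Set G) →
      J ≤ o2 P ∨ P ≤ centralizer ((B ⊓ zc (S : Subgroup G) : Subgroup G) : Set G))
    (hb : (∀ d ∈ centralizer (X : Set G), d ∈ Q → Odd (orderOf d) →
      (∀ j ∈ J, ∀ w ∈ R, (j * d * j⁻¹ * d⁻¹) * (d * w * d⁻¹ * w⁻¹) = (d * w * d⁻¹ * w⁻¹) * (j * d * j⁻¹ * d⁻¹)) →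
      d ∈ centralizer (R : Set G)) ∨
      R ⊓ centralizer ((S : Subgroup G) : Set G) ≤ centralizer (centralizer (X : Set G) : Set G))
    {A : Subgroup G} (hA : A ∈ AA (o2 (CZ (S : Subgroup G)))) (hA1 : A ≤ o2 (centralizer ({e} : Set G)))
    {F : Subgroup G} (hFA : F ≤ A) (hFR : F ≤ o2 (centralizer (R : Set G)))
    (hm : ¬ F ≤ centralizer (hul (zl (S : Subgroup G) (YS S)) (centralizer (X : Set G)) : Set G))
    (he : (centralizer (hul (zl (S : Subgroup G) (YS S)) (centralizer (X : Set G)) : Set G)).relIndex F =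
      (centralizer (F : Set G)).relIndex (hul (zl (S : Subgroup G) (YS S)) (centralizer (X : Set G)))) :
    GInR (centralizer (X : Set G)) (S : Subgroup G) F J Q
      (hul (zl (S : Subgroup G) (YS S)) (centralizer (X : Set G))) (B ⊓ zc (S : Subgroup G))
      (zc (S : Subgroup G)) R := by
  have hSK : (S : Subgroup G) ≤ centralizer (X : Set G) := (le_CZ S).trans h.C2
  obtain ⟨_, w1, w2, _⟩ := h.W2 hM
  have hVW : zl (S : Subgroup G) (YS S) ≤
      hul (zl (S : Subgroup G) (YS S)) (centralizer (X : Set G)) := le_hul _ _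
  have hZW : zc (S : Subgroup G) ≤ hul (zl (S : Subgroup G) (YS S)) (centralizer (X : Set G)) :=
    (zc_le_zl _ _).trans hVW
  have hFO : F ≤ o2 (CZ (S : Subgroup G)) := hFA.trans hA.2.1
  have hFS : F ≤ (S : Subgroup G) := hFO.trans o2C_le
  have hSZ : (S : Subgroup G) ≤ centralizer (zc (S : Subgroup G) : Set G) := le_CZ S
  exact
  { CM := le_normalizer_hul _ _
    sqM := (eab_iff.1 w1).2
    TC := hSK
    two := S.isPGroup'
    syl := not_dvd_relIndex S hSK
    ZM := inf_le_right.trans hZW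
    ZM' := hZW
    YM := h.RV.trans hVW
    TZ := hSZ.trans (centralizer_le inf_le_right)
    TZ' := hSZ
    NZ := by
      intro n hn
      have h1 := (h.sZ hn).2
      have h2 : n ∈ normalizer (zc (S : Subgroup G) : Set G) :=
        MinSimple.VModule.normalizer_le_normalizer_zc _ hn.2
      rw [mem_normalizer_iff_cj, cj_inf, cj_eq_of_mem_normalizer h1, cj_eq_of_mem_normalizer h2]
    NQ := SQ
    QY := QR
    QJ := QJ
    JT := JS
    AT := hFS
    par := by
      intro P hP hPK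
      have hP' : IsPar (S : Subgroup G) P := h.lK2.isPar S hP hPK
      rcases h.le_of_par hP' with h1 | ⟨h1, _⟩
      · exact Or.inl (h1.trans (centralizer_le inf_le_right))
      · rcases PJ P h1 hPK with h2 | h2
        · exact Or.inr (Or.inr ⟨h.le_o2_two hFO hFR hP', h2, PQ P h1 h2 hPK⟩)
        · exact Or.inl h2
    sep := by
      intro g hg hgQ _ z hz y hy hc
      have hzy : z * y = y * z := by
        have h1 : y ∈ zl (S : Subgroup G) (YS S) := h.RV hy
        have h2 : z ∈ zl (S : Subgroup G) (YS S) := h.BV hz.1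
        exact mem_centralizer_iff.1 (h.vc h1) z h2
      rw [hzy] at hc
      exact (FrX.sep spl (QR ⟨hg, hgQ⟩) (QB ⟨hg, hgQ⟩) hy hz.1 hc).2
    hb := hb
    sqA := fun a ha => (eab_iff.1 hA.1).2 a (hFA ha)
    AZ := by
      have h1 : centralizer (X : Set G) ⊓ centralizer ((B ⊓ zc (S : Subgroup G) : Subgroup G) : Set G) ≤
          centralizer ({e} : Set G) :=
        inf_le_right.trans (centralizer_le (Set.singleton_subset_iff.2 ⟨h.eB, h.eZ⟩))
      have h2 : F ≤ centralizer ((B ⊓ zc (S : Subgroup G) : Subgroup G) : Set G) :=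
        hFS.trans (hSZ.trans (centralizer_le inf_le_right))
      have h3 : F ≤ o2 (centralizer ({e} : Set G)) ⊓
          (centralizer (X : Set G) ⊓ centralizer ((B ⊓ zc (S : Subgroup G) : Subgroup G) : Set G)) :=
        le_inf (hFA.trans hA1) (le_inf (hFS.trans hSK) h2)
      refine h3.trans (le_o2 inf_le_right ((o2_isPGroup _).to_le inf_le_left) ?_)
      exact le_trans (le_inf (h1.trans (le_normalizer_o2 _)) Subgroup.le_normalizer) inf_normalizer_le_normalizer_inf
    AY := by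
      rw [inf_eq_right.2 h.RK]
      exact hFR.trans (le_o2 ((o2_le _).trans le_sup_left) (o2_isPGroup _) (sup_le (le_normalizer_o2 _) h.nQR))
    nk := by
      rw [Alpha.zl_eq]
      exact (inf_le_inf_right _ hFA).trans (h.nk hM hA)
    mv := hm
    no := fun F' hF' => h.no hM hA (hF'.trans hFA)
    le := he.ge
    K := h.kg h.lK2 }

/-- **(alpha) is impossible.** -/
theorem false_alpha (spl : B ⊓ R = ⊥) (hM : MLK.{u, u}) (hR : RedP.{u, u}) (hE : ML.Ex.Two.Ext.{u, u})
    (b2 : R ⊓ zc (S : Subgroup G) ≤ X ∨ ∀ d ∈ centralizer (X : Set G) ⊓ ((YS (S : Subgroup G) ⊔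
        normalizer ((S : Subgroup G) : Set G)) ⊓ normalizer (R : Set G) ⊓ normalizer (B : Set G) ⊓
        normalizer (((S : Subgroup G) ⊓ centralizer (B : Set G) : Subgroup G) : Set G)), Odd (orderOf d) →
      (∀ j ∈ (S : Subgroup G) ⊓ centralizer (B : Set G), ∀ w ∈ R,
        (j * d * j⁻¹ * d⁻¹) * (d * w * d⁻¹ * w⁻¹) = (d * w * d⁻¹ * w⁻¹) * (j * d * j⁻¹ * d⁻¹)) →
      d ∈ centralizer (R : Set G))
    (ha : ∃ A ∈ AA (o2 (CZ (S : Subgroup G))), zl (S : Subgroup G) (centralizer ({e} : Set G)) ≤ A ∧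
      A ≤ o2 (centralizer ({e} : Set G)) ∧ ∃ F : Subgroup G, F ≤ A ∧ F ≤ o2 (centralizer (R : Set G)) ∧
      ¬ F ≤ centralizer (hul (zl (S : Subgroup G) (YS S)) (centralizer (X : Set G)) : Set G) ∧
      (centralizer (hul (zl (S : Subgroup G) (YS S)) (centralizer (X : Set G)) : Set G)).relIndex F =
        (centralizer (F : Set G)).relIndex (hul (zl (S : Subgroup G) (YS S)) (centralizer (X : Set G)))) : False := by
  obtain ⟨A, hA, _, hA1, F, hFA, hFR, hm, he⟩ := ha
  rcases b2 with h0 | h0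
  · have g := h.gInR_two spl hM (J := ⊥) (Q := normalizer (R : Set G) ⊓ normalizer (B : Set G)) bot_le
      (inf_le_right.trans inf_le_left) (inf_le_right.trans inf_le_right)
      (fun x _ => by
        rw [mem_normalizer_iff_cj, cj]
        exact Subgroup.map_bot _)
      h.sZ (fun P hP _ _ => (le_YS hP).trans (le_inf h.nR h.nB)) (fun P _ _ => Or.inl bot_le)
      (Or.inr (by
        intro v hv
        have h1 : v ∈ X := h0 (h.fixR hv.1 fun s hs => mem_centralizer_iff.1 hv.2 s hs)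
        exact mem_centralizer_iff.2 fun g hg => (mem_centralizer_iff.1 hg v h1).symm)) hA hA1 hFA hFR hm he
    obtain ⟨_, _, _, _, _, _, _, _, _, _, _, _, _, hi⟩ := g.inpR
    exact hi.false_of hM hR hE
  · have g := h.gInR_two spl hM (J := (S : Subgroup G) ⊓ centralizer (B : Set G))
      (Q := (YS (S : Subgroup G) ⊔ normalizer ((S : Subgroup G) : Set G)) ⊓ normalizer (R : Set G) ⊓
        normalizer (B : Set G) ⊓ normalizer (((S : Subgroup G) ⊓ centralizer (B : Set G) : Subgroup G) : Set G))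
      inf_le_left (inf_le_right.trans (inf_le_left.trans (inf_le_left.trans inf_le_right)))
      (inf_le_right.trans (inf_le_left.trans inf_le_right)) (inf_le_right.trans inf_le_right)
      (fun n hn => ⟨⟨⟨le_sup_right (a := YS (S : Subgroup G)) hn.2, (h.sZ hn).1⟩, (h.sZ hn).2⟩,
        h.nJB_of hn.2 (h.sZ hn).2⟩)
      (fun P hP h1 _ => le_inf (le_inf (le_inf ((le_YS hP).trans le_sup_left) ((le_YS hP).trans h.nR))
        ((le_YS hP).trans h.nB)) (h.nJB hP h1))
      (fun P hP _ => h.altB hP)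
      (Or.inl fun d hd hdQ hdo hc => h0 d ⟨hd, hdQ⟩ hdo hc) hA hA1 hFA hFR hm he
    obtain ⟨_, _, _, _, _, _, _, _, _, _, _, _, _, hi⟩ := g.inpR
    exact hi.false_of hM hR hE

end FrX

end Cfsg.Agent.Omega.NOThreeL.RZ.TwoC
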