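import Cfsg.Agent.Omega.NOThreeL.RZ.TwoC.AbP
import Cfsg.Agent.Omega.HOne.TvHSide

/-!
# [R-z], the nonsplit case: the lift of `bad` from `B/C_B(E)` to `B` (helper878, bb #27009)

`E ≤ Y = ⟨P*(S)⟩` normal, `B ≤ V*` normal in `Y`, `[V*, E] ≤ B ≤ [B, E]`.

* `kerD` : the elements of `E` which centralise `B/C_B(E)`;  **`kerD_le`** : they centralise `V*` (`V*` is 2-reduced);
* **`lift`** : an element which normalises `B`, `E` and centralises `B/C_B(E)` centralises `B`.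
-/

set_option autoImplicit false

namespace Cfsg.Agent.Omega.NOThreeL.RZ.TwoC.BadN

open Subgroup Cfsg
open Cfsg.Agent.ZN (o2 zc zl)
open Cfsg.Agent.Omega.MinPar Cfsg.Agent.Omega.Frame Cfsg.Agent.Omega.FrameNOFF
open Cfsg.Agent.Omega.NOThreeL.Star (YS le_YS S_le_YS)
open Cfsg.Agent.MinSimple.VModule (zc_le_zl le_normalizer_zl zl_le zc_le mem_zc)

open scoped commutatorElement

universe u

variable {G : Type u} [Group G]

/-- the elements of `E` which centralise `B/C_B(E)` -/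
def kerD (E B : Subgroup G) (h : E ≤ normalizer (B : Set G)) : Subgroup G where
  carrier := {k | k ∈ E ∧ ∀ w ∈ B, k * w * k⁻¹ * w⁻¹ ∈ centralizer (E : Set G)}
  one_mem' := ⟨E.one_mem, fun w _ => by simp [one_mem]⟩
  mul_mem' := by
    rintro k l ⟨hk, hk'⟩ ⟨hl, hl'⟩
    refine ⟨E.mul_mem hk hl, fun w hw => ?_⟩
    have h1 := mem_centralizer_iff.1 (hl' w hw) k hk
    have e1 : k * l * w * (k * l)⁻¹ * w⁻¹ = k * (l * w * l⁻¹ * w⁻¹) * k⁻¹ * (k * w * k⁻¹ * w⁻¹) := by group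
    rw [e1, h1, mul_inv_cancel_right]
    exact mul_mem (hl' w hw) (hk' w hw)
  inv_mem' := by
    rintro k ⟨hk, hk'⟩
    refine ⟨E.inv_mem hk, fun w hw => ?_⟩
    have h1 := hk' (k⁻¹ * w * k⁻¹⁻¹) ((mem_normalizer_iff.1 (h (E.inv_mem hk)) w).1 hw)
    have e1 : k⁻¹ * w * k⁻¹⁻¹ * w⁻¹ = (k * (k⁻¹ * w * k⁻¹⁻¹) * k⁻¹ * (k⁻¹ * w * k⁻¹⁻¹)⁻¹)⁻¹ := by group
    rw [e1]
    exact inv_mem h1

theorem mem_kerD {E B : Subgroup G} {h : E ≤ normalizer (B : Set G)} {k : G} :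
    k ∈ kerD E B h ↔ k ∈ E ∧ ∀ w ∈ B, k * w * k⁻¹ * w⁻¹ ∈ centralizer (E : Set G) := Iff.rfl

/-- **`C_E(B/C_B(E))` centralises `V*`** -/
theorem kerD_le [Finite G] {S : Sylow 2 G} {Y E B : Subgroup G} (SY : (S : Subgroup G) ≤ Y)
    (nE : Y ≤ normalizer (E : Set G)) (EY : E ≤ Y)
    (nB : Y ≤ normalizer (B : Set G)) (BV : B ≤ zl (S : Subgroup G) Y)
    (VE : ⁅zl (S : Subgroup G) Y, E⁆ ≤ B)
    (vc : zl (S : Subgroup G) Y ≤ centralizer (zl (S : Subgroup G) Y : Set G))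
    (vs : ∀ v ∈ zl (S : Subgroup G) Y, v ^ 2 = 1) :
    kerD E B (EY.trans nB) ≤ centralizer (zl (S : Subgroup G) Y : Set G) := by
  have hcom : ∀ a ∈ zl (S : Subgroup G) Y, ∀ b ∈ zl (S : Subgroup G) Y, a * b = b * a := fun a ha b hb =>
    mem_centralizer_iff.1 (vc hb) a ha
  refine HOne.TvHSide.red_of (Z₀ := (zc (S : Subgroup G) : Set G)) (S := (S : Subgroup G)) (H := Y) SY S.isPGroup'
    (MinSimple.Basic.not_dvd_relIndex S SY)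
    (fun x hx z hz => (mem_zc.1 hz).2.1 x hx) (le_normalizer_zl _ _) (zc_le_zl _ _) ?_ _ (fun k hk => EY hk.1) ?_ ?_
  · refine zl_le ?_ ?_
    · intro z hz
      exact subset_closure ⟨1, Y.one_mem, z, hz, by simp⟩
    · intro y hy
      have key : ∀ y ∈ Y, ∀ x ∈ closure {x : G | ∃ g ∈ Y, ∃ z ∈ (zc (S : Subgroup G) : Set G), g * z * g⁻¹ = x},
          y * x * y⁻¹ ∈ closure {x : G | ∃ g ∈ Y, ∃ z ∈ (zc (S : Subgroup G) : Set G), g * z * g⁻¹ = x} := by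
        intro y hy x hx
        have h1 : closure {x : G | ∃ g ∈ Y, ∃ z ∈ (zc (S : Subgroup G) : Set G), g * z * g⁻¹ = x} ≤
            (closure {x : G | ∃ g ∈ Y, ∃ z ∈ (zc (S : Subgroup G) : Set G), g * z * g⁻¹ = x}).comap
              (MulAut.conj y).toMonoidHom := by
          rw [closure_le]
          rintro _ ⟨g, hg, z, hz, rfl⟩
          exact subset_closure ⟨y * g, Y.mul_mem hy hg, z, hz, by
            change y * g * z * (y * g)⁻¹ = y * (g * z * g⁻¹) * y⁻¹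
            group⟩
        exact h1 hx
      rw [mem_normalizer_iff]
      intro x
      refine ⟨key y hy x, fun hx => ?_⟩
      have h1 := key y⁻¹ (Y.inv_mem hy) _ hx
      have e1 : y⁻¹ * (y * x * y⁻¹) * y⁻¹⁻¹ = x := by group
      rwa [e1] at h1
  · have key : ∀ y ∈ Y, ∀ k ∈ kerD E B (EY.trans nB), y * k * y⁻¹ ∈ kerD E B (EY.trans nB) := by
      intro y hy k hk
      refine ⟨(mem_normalizer_iff.1 (nE hy) k).1 hk.1, fun w hw => ?_⟩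
      have hw' : y⁻¹ * w * y⁻¹⁻¹ ∈ B := (mem_normalizer_iff.1 (nB (Y.inv_mem hy)) w).1 hw
      have h1 := hk.2 _ hw'
      have e1 : y * k * y⁻¹ * w * (y * k * y⁻¹)⁻¹ * w⁻¹ =
          y * (k * (y⁻¹ * w * y⁻¹⁻¹) * k⁻¹ * (y⁻¹ * w * y⁻¹⁻¹)⁻¹) * y⁻¹ := by group
      rw [e1]
      have h2 := ML.GMod.nc _ (nE hy)
      exact (mem_normalizer_iff.1 h2 _).1 h1
    intro y hy
    rw [mem_normalizer_iff]
    intro k
    refine ⟨key y hy k, fun hx => ?_⟩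
    have h1 := key y⁻¹ (Y.inv_mem hy) _ hx
    have e1 : y⁻¹ * (y * k * y⁻¹) * y⁻¹⁻¹ = k := by group
    rwa [e1] at h1
  · rintro x ⟨hxE, hx⟩
    refine ⟨2, mem_centralizer_iff.2 fun v hv => ?_⟩
    -- `x v x⁻¹ = v b`, `x b x⁻¹ = b c`, `x c x⁻¹ = c`
    obtain ⟨b, hb, hb'⟩ : ∃ b ∈ B, x * v * x⁻¹ = v * b := by
      refine ⟨v⁻¹ * (x * v * x⁻¹), ?_, by group⟩
      have h1 : ⁅v⁻¹, x⁆ ∈ B := VE (commutator_mem_commutator (inv_mem hv) hxE)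
      have e1 : ⁅v⁻¹, x⁆ = v⁻¹ * (x * v * x⁻¹) := by rw [commutatorElement_def]; group
      rwa [e1] at h1
    obtain ⟨c, hc, hcE, hc'⟩ : ∃ c ∈ B, c ∈ centralizer (E : Set G) ∧ x * b * x⁻¹ = b * c := by
      have h1 := hx b hb
      have h2 : x * b * x⁻¹ ∈ B := (mem_normalizer_iff.1 (nB (EY hxE)) b).1 hb
      have h3 : b⁻¹ * (x * b * x⁻¹) = x * b * x⁻¹ * b⁻¹ := hcom _ (BV (B.inv_mem hb)) _ (BV h2)
      exact ⟨b⁻¹ * (x * b * x⁻¹), B.mul_mem (B.inv_mem hb) h2, by rw [h3]; exact h1, by group⟩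
    have hcx : x * c * x⁻¹ = c := by
      rw [mem_centralizer_iff.1 hcE x hxE, mul_inv_cancel_right]
    have hbb : b * b = 1 := by have := vs b (BV hb); rwa [pow_two] at this
    have hcc : c * c = 1 := by have := vs c (BV hc); rwa [pow_two] at this
    have h2 : x ^ 2 * v * (x ^ 2)⁻¹ = v * c := by
      have e1 : x ^ 2 * v * (x ^ 2)⁻¹ = x * (x * v * x⁻¹) * x⁻¹ := by rw [pow_two]; group
      have e2 : x * (v * b) * x⁻¹ = x * v * x⁻¹ * (x * b * x⁻¹) := by group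
      rw [e1, hb', e2, hb', hc', ← mul_assoc, mul_assoc v b b, hbb, mul_one]
    have h4 : x ^ 2 ^ 2 * v * (x ^ 2 ^ 2)⁻¹ = v := by
      have e0 : x ^ 2 ^ 2 = x ^ 2 * x ^ 2 := pow_add x 2 2
      have e1 : x ^ 2 ^ 2 * v * (x ^ 2 ^ 2)⁻¹ = x ^ 2 * (x ^ 2 * v * (x ^ 2)⁻¹) * (x ^ 2)⁻¹ := by rw [e0]; group
      have e2 : x ^ 2 * (v * c) * (x ^ 2)⁻¹ = x ^ 2 * v * (x ^ 2)⁻¹ * (x * (x * c * x⁻¹) * x⁻¹) := by
        rw [pow_two]; group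
      rw [e1, h2, e2, h2, hcx, hcx, mul_assoc, hcc, mul_one]
    exact (mul_inv_eq_iff_eq_mul.1 h4).symm

/-- **the lift** -/
theorem lift [Finite G] {S : Sylow 2 G} {Y E B : Subgroup G} (SY : (S : Subgroup G) ≤ Y)
    (nE : Y ≤ normalizer (E : Set G)) (EY : E ≤ Y)
    (nB : Y ≤ normalizer (B : Set G)) (BV : B ≤ zl (S : Subgroup G) Y)
    (VE : ⁅zl (S : Subgroup G) Y, E⁆ ≤ B) (BE : B ≤ ⁅B, E⁆)
    (vc : zl (S : Subgroup G) Y ≤ centralizer (zl (S : Subgroup G) Y : Set G))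
    (vs : ∀ v ∈ zl (S : Subgroup G) Y, v ^ 2 = 1)
    {d : G} (dB : d ∈ normalizer (B : Set G)) (dE : d ∈ normalizer (E : Set G))
    (hd : ∀ w ∈ B, d * w * d⁻¹ * w⁻¹ ∈ centralizer (E : Set G)) : d ∈ centralizer (B : Set G) := by
  have hcom : ∀ a ∈ B, ∀ b ∈ B, a * b = b * a := fun a ha b hb =>
    mem_centralizer_iff.1 (vc (BV hb)) a (BV ha)
  have hEB : E ≤ normalizer (B : Set G) := EY.trans nB
  -- `d w d⁻¹ = w δ`
  have hdd : ∀ w ∈ B, ∃ δ ∈ B, δ ∈ centralizer (E : Set G) ∧ d * w * d⁻¹ = w * δ := by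
    intro w hw
    have h1 := hd w hw
    have h2 : d * w * d⁻¹ ∈ B := (mem_normalizer_iff.1 dB w).1 hw
    have h3 : w⁻¹ * (d * w * d⁻¹) = d * w * d⁻¹ * w⁻¹ := hcom _ (B.inv_mem hw) _ h2
    exact ⟨w⁻¹ * (d * w * d⁻¹), B.mul_mem (B.inv_mem hw) h2, by rw [h3]; exact h1, by group⟩
  have dCE : d ∈ normalizer ((centralizer (E : Set G) : Subgroup G) : Set G) := ML.GMod.nc _ dE
  -- `[d, g]` centralises `B`
  have hK : ∀ g ∈ E, d * g * d⁻¹ * g⁻¹ ∈ centralizer (B : Set G) := by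
    intro g hg
    have hgE : d * g * d⁻¹ * g⁻¹ ∈ E := E.mul_mem ((mem_normalizer_iff.1 dE g).1 hg) (E.inv_mem hg)
    have hk : d * g * d⁻¹ * g⁻¹ ∈ kerD E B hEB := by
      refine ⟨hgE, fun w hw => ?_⟩
      -- `w₁ = g⁻¹ w g`
      have hw1 : g⁻¹ * w * g⁻¹⁻¹ ∈ B := (mem_normalizer_iff.1 (hEB (E.inv_mem hg)) w).1 hw
      rw [inv_inv] at hw1
      have hw2 : d⁻¹ * (g⁻¹ * w * g) * d⁻¹⁻¹ ∈ B := (mem_normalizer_iff.1 (inv_mem dB) _).1 hw1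
      rw [inv_inv] at hw2
      obtain ⟨δ, hδB, hδ, hδ'⟩ := hdd _ hw2
      -- `g⁻¹ w g = w₂ δ`, `w₂ = d⁻¹ w₁ d`
      have h1 : g⁻¹ * w * g = d⁻¹ * (g⁻¹ * w * g) * d * δ := by
        rw [← hδ']; group
      obtain ⟨ε, hεB, hε, hε'⟩ := hdd _ hw
      -- `(d g d⁻¹ g⁻¹) w (..)⁻¹ = d g w₂ g⁻¹ d⁻¹ = d (w δ⁻¹) d⁻¹ = w ε (d δ⁻¹ d⁻¹)`
      have h2 : g * (d⁻¹ * (g⁻¹ * w * g) * d) * g⁻¹ = w * δ⁻¹ := by
        have h3 : d⁻¹ * (g⁻¹ * w * g) * d = g⁻¹ * w * g * δ⁻¹ := by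
          rw [eq_mul_inv_iff_mul_eq]; exact h1.symm
        rw [h3]
        have h4 : g * δ⁻¹ = δ⁻¹ * g := mem_centralizer_iff.1 (inv_mem hδ) g hg
        calc g * (g⁻¹ * w * g * δ⁻¹) * g⁻¹ = w * (g * δ⁻¹) * g⁻¹ := by group
          _ = w * (δ⁻¹ * g) * g⁻¹ := by rw [h4]
          _ = w * δ⁻¹ := by group
      have h3 : d * g * d⁻¹ * g⁻¹ * w * (d * g * d⁻¹ * g⁻¹)⁻¹ * w⁻¹ =
          w * (ε * (d * δ⁻¹ * d⁻¹)) * w⁻¹ := by
        calc d * g * d⁻¹ * g⁻¹ * w * (d * g * d⁻¹ * g⁻¹)⁻¹ * w⁻¹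
            = d * (g * (d⁻¹ * (g⁻¹ * w * g) * d) * g⁻¹) * d⁻¹ * w⁻¹ := by group
          _ = d * (w * δ⁻¹) * d⁻¹ * w⁻¹ := by rw [h2]
          _ = (d * w * d⁻¹) * (d * δ⁻¹ * d⁻¹) * w⁻¹ := by group
          _ = w * ε * (d * δ⁻¹ * d⁻¹) * w⁻¹ := by rw [hε']
          _ = _ := by group
      have h5 : d * δ⁻¹ * d⁻¹ ∈ centralizer (E : Set G) := (mem_normalizer_iff.1 dCE _).1 (inv_mem hδ)
      have h6 : d * δ⁻¹ * d⁻¹ ∈ B := (mem_normalizer_iff.1 dB _).1 (B.inv_mem hδB)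
      have h7 : w * (ε * (d * δ⁻¹ * d⁻¹)) * w⁻¹ = ε * (d * δ⁻¹ * d⁻¹) := by
        rw [hcom w hw _ (B.mul_mem hεB h6), mul_inv_cancel_right]
      rw [h3, h7]
      exact mul_mem hε h5
    exact centralizer_le BV (kerD_le SY nE EY nB BV VE vc vs hk)
  -- `d` centralises `[B, E]`
  have h1 : ⁅B, E⁆ ≤ centralizer ({d} : Set G) := by
    rw [commutator_le]
    intro w hw g hg
    rw [mem_centralizer_singleton_iff]
    obtain ⟨δ, hδB, hδ, hδ'⟩ := hdd w hw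
    have hk := hK g hg
    have h2 : d * ⁅w, g⁆ * d⁻¹ = ⁅w, g⁆ := by
      have hwB : g * (w * δ)⁻¹ * g⁻¹ ∈ B :=
        (mem_normalizer_iff.1 (hEB hg) _).1 (B.inv_mem (B.mul_mem hw hδB))
      have h3 : (d * g * d⁻¹ * g⁻¹) * (g * (w * δ)⁻¹ * g⁻¹) * (d * g * d⁻¹ * g⁻¹)⁻¹ = g * (w * δ)⁻¹ * g⁻¹ := by
        rw [← mem_centralizer_iff.1 hk _ hwB, mul_inv_cancel_right]
      have h4 : g * δ⁻¹ = δ⁻¹ * g := mem_centralizer_iff.1 (inv_mem hδ) g hg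
      calc d * ⁅w, g⁆ * d⁻¹ = (d * w * d⁻¹) * (d * g * d⁻¹ * g⁻¹) * (g * (d * w * d⁻¹)⁻¹ * g⁻¹) *
            (d * g * d⁻¹ * g⁻¹)⁻¹ := by rw [commutatorElement_def]; group
        _ = (w * δ) * ((d * g * d⁻¹ * g⁻¹) * (g * (w * δ)⁻¹ * g⁻¹) * (d * g * d⁻¹ * g⁻¹)⁻¹) := by
            rw [hδ']; group
        _ = (w * δ) * (g * (w * δ)⁻¹ * g⁻¹) := by rw [h3]
        _ = w * δ * (g * δ⁻¹) * w⁻¹ * g⁻¹ := by group
        _ = w * δ * (δ⁻¹ * g) * w⁻¹ * g⁻¹ := by rw [h4]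
        _ = ⁅w, g⁆ := by rw [commutatorElement_def]; group
    have h3 := mul_inv_eq_iff_eq_mul.1 h2
    exact h3.symm
  rw [mem_centralizer_iff]
  intro w hw
  exact mem_centralizer_singleton_iff.1 (h1 (BE hw))

end Cfsg.Agent.Omega.NOThreeL.RZ.TwoC.BadN
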