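import Cfsg.Agent.Omega.NOThreeL.RRed.Blk.BadFam
import Cfsg.Agent.Omega.NOThreeL.RRed.Blk.AsmCore
import Cfsg.Agent.Omega.NOThreeL.RZ.TwoC.BadE

/-!
# [R-z], the nonsplit case: the field `bad`, group level (helper878, bb #27357)

`Q : Nrm H U`, `FamN (im Q S) (im Q '' EE S U) FF N C L Z` (the root groups of one class of blocks with radicals),
`B ≤ U` the product of the blocks, `e ∈ U` with all `L`-components `≠ 1`, the atoms `A ≤ S` centralise `R`.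

* **`bad_grp`** : `d` of odd order, `d ∈ N(H) ∩ N(U) ∩ N(B) ∩ N(C_S(R)) ∩ C(e)`, `[[B, d], [C_S(R), d]] = 1` ⟹ `d ∈ C(B)`;
* **`bad_of`**, **`bad_un`** : the hypothesis `bad` of `FrN.false_of` for `H = Y`, `H = N_G(Y)`.
-/

set_option autoImplicit false
set_option linter.unusedSectionVars false

namespace Cfsg.Agent.Omega.NOThreeL.RZ.TwoC.BadN

open Subgroup Cfsg
open Cfsg.Agent.ZN (o2 zc zl)
open Cfsg.Agent.Omega.NOThreeL.Star (YS S_le_YS)
open Cfsg.Agent.Omega.NOThreeL.RSplit (Nrm)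
open Cfsg.Agent.Omega.NOThreeL.RRed (Mx)
open Cfsg.Agent.Omega.NOThreeL.RRed.NS (conj_eq_cj smul_eq_iff un val_mem_un)
open Cfsg.Agent.Omega.NOThreeL.RRed.Blk.TypesNat (XH ph ph_smul XH_faith tau val_tau sig sig_ph tau_sig map_sig cjH)
open Cfsg.Agent.Omega.NOThreeL.RRed.Blk.AsmCore (EE im)
open Cfsg.Agent.Omega.NOThreeL.RRed.Blk.AsmN (FamN)
open Cfsg.Agent.Omega.NOThreeL.RRed.Blk.BadFam (AutN)
open scoped Pointwise

universe u

variable {G : Type u} [Group G]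

/-- conjugates of the atoms under `N(U) ∩ N(C_S(R))` -/
theorem EE_conj [Finite G] {S U R : Subgroup G} (hR : ∀ A ∈ EE S U, A ≤ centralizer (R : Set G)) {d : G}
    (hdU : d ∈ normalizer (U : Set G)) (hdJ : d ∈ normalizer ((S ⊓ centralizer (R : Set G) : Subgroup G) : Set G))
    {A : Subgroup G} (hA : A ∈ EE S U) : MulAut.conj d • A ∈ EE S U := by
  rw [conj_eq_cj]
  refine ⟨?_, NOThreeL.RRed.CI.mx_conj hA.2 hdU⟩
  intro x hx
  rw [ZN.ChoiceBase.mem_cj] at hx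
  have h1 : d⁻¹ * x * d ∈ S ⊓ centralizer (R : Set G) := ⟨hA.1 hx, hR A hA hx⟩
  have h2 := (mem_normalizer_iff.1 hdJ _).1 h1
  have e : d * (d⁻¹ * x * d) * d⁻¹ = x := by group
  rw [e] at h2
  exact h2.1

/-- **`bad`, group level** -/
theorem bad_grp [Finite G] {S H U R B : Subgroup G} (Q : Nrm H U) (hU2 : ∀ x ∈ U, x ^ 2 = 1) (hSH : S ≤ H)
    {FF : Set (Subgroup (XH Q))} {N C L Z : Subgroup (XH Q) → AddSubgroup Q.Mod}
    (h : FamN (im Q S) (im Q '' EE S U) FF N C L Z) (hB : B ≤ U) (hBN : Q.ad B = ⨆ D ∈ FF, N D)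
    (hR : ∀ A ∈ EE S U, A ≤ centralizer (R : Set G)) {e : G} (heU : e ∈ U)
    (hc : ∀ D ∈ FF, ∃ x ∈ L D, x ≠ 0 ∧ Q.of e heU - x ∈ C D) {d : G}
    (hdH : d ∈ normalizer (H : Set G)) (hdU : d ∈ normalizer (U : Set G)) (hde : d * e = e * d)
    (hdB : d ∈ normalizer (B : Set G))
    (hdJ : d ∈ normalizer ((S ⊓ centralizer (R : Set G) : Subgroup G) : Set G)) (hd : Odd (orderOf d))
    (hcom : ∀ j ∈ S ⊓ centralizer (R : Set G), ∀ w ∈ B,
      (j * d * j⁻¹ * d⁻¹) * (d * w * d⁻¹ * w⁻¹) = (d * w * d⁻¹ * w⁻¹) * (j * d * j⁻¹ * d⁻¹)) :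
    d ∈ centralizer (B : Set G) := by
  have h2 : ∀ v : Q.Mod, v + v = 0 := fun v => Nrm.ext (by
    rw [Nrm.val_add, Nrm.val_zero]
    have := hU2 _ (Q.val_mem v)
    rwa [pow_two] at this)
  have hAH : ∀ A ∈ EE S U, A ≤ H := fun A hA => hA.1.trans hSH
  have ha : AutN (im Q '' EE S U) (⨆ D ∈ FF, N D) (tau Q hdU) (sig Q hdU hdH) :=
    { smul := tau_sig Q hdU hdH
      E := by
        rintro _ ⟨A, hA, rfl⟩
        exact ⟨_, EE_conj hR hdU hdJ hA, (map_sig Q hdU hdH A (hAH A hA)).symm⟩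
      E' := by
        rintro _ ⟨A, hA, rfl⟩
        have hA' := EE_conj hR (inv_mem hdU) (inv_mem hdJ) hA
        refine ⟨_, ⟨_, hA', rfl⟩, ?_⟩
        rw [im, im, map_sig Q hdU hdH _ (hAH _ hA'), smul_smul, ← map_mul, mul_inv_cancel, map_one, one_smul]
      nB := by
        intro m hm
        rw [← hBN] at hm ⊢
        exact (mem_normalizer_iff.1 hdB _).1 hm
      com := by
        rintro _ ⟨A, hA, rfl⟩ _ ⟨a, ha, rfl⟩ m hm
        rw [← hBN] at hm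
        have hj : (a : G) ∈ S ⊓ centralizer (R : Set G) := ⟨hA.1 ha, hR A hA ha⟩
        rw [sig_ph, ← map_inv, ← map_mul, ph_smul, smul_eq_iff, Nrm.val_sub, val_tau]
        have h1 := hcom a hj (Q.val m) hm
        have e1 : ((a * (cjH hdH a)⁻¹ : H) : G) = a * d * (a : G)⁻¹ * d⁻¹ := by
          change (a : G) * (d * a * d⁻¹)⁻¹ = _
          group
        rw [e1, h1, mul_inv_cancel_right] }
  have hα : ∀ v : Q.Mod, (⇑(tau Q hdU))^[orderOf d] v = v := by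
    have h1 : ∀ (k : ℕ) (v : Q.Mod), Q.val ((⇑(tau Q hdU))^[k] v) = d ^ k * Q.val v * (d ^ k)⁻¹ := by
      intro k v
      induction k with
      | zero => simp
      | succ k ih =>
        rw [Function.iterate_succ_apply', val_tau, ih, pow_succ']
        group
    intro v
    refine Nrm.ext ?_
    rw [h1, pow_orderOf_eq_one]
    simp
  have he : tau Q hdU (Q.of e heU) = Q.of e heU := Nrm.ext (by
    rw [val_tau, Nrm.val_of, hde, mul_inv_cancel_right])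
  have key := RRed.Blk.BadFam.bad h2 (XH_faith Q) h ha hd hα he hc
  rw [mem_centralizer_iff]
  intro w hw
  have h1 : Q.of w (hB hw) ∈ (⨆ D ∈ FF, N D : AddSubgroup Q.Mod) := by
    rw [← hBN]
    exact hw
  have h3 := congrArg Q.val (key _ h1)
  rw [val_tau, Nrm.val_of] at h3
  exact (mul_inv_eq_iff_eq_mul.1 h3).symm

/-- **the hypothesis `bad` of `FrN.false_of`** -/
theorem bad_of [Finite G] {S : Sylow 2 G} {R B : Subgroup G} (hSY : (S : Subgroup G) ≤ YS (S : Subgroup G))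
    (Q : Nrm (YS (S : Subgroup G)) (zl (S : Subgroup G) (YS S)))
    (hU2 : ∀ x ∈ zl (S : Subgroup G) (YS S), x ^ 2 = 1)
    {FF : Set (Subgroup (XH Q))} {N C L Z : Subgroup (XH Q) → AddSubgroup Q.Mod}
    (h : FamN (im Q S) (im Q '' EE (S : Subgroup G) (zl (S : Subgroup G) (YS S))) FF N C L Z)
    (hB : B ≤ zl (S : Subgroup G) (YS S)) (hBN : Q.ad B = ⨆ D ∈ FF, N D)
    (hR : ∀ A ∈ EE (S : Subgroup G) (zl (S : Subgroup G) (YS S)), A ≤ centralizer (R : Set G)) {e : G}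
    (heU : e ∈ zl (S : Subgroup G) (YS S)) (hc : ∀ D ∈ FF, ∃ x ∈ L D, x ≠ 0 ∧ Q.of e heU - x ∈ C D) :
    ∀ d ∈ centralizer ({e} : Set G), d ∈ normalizer (R : Set G) → d ∈ normalizer (B : Set G) →
      d ∈ normalizer (((S : Subgroup G) ⊓ centralizer (R : Set G) : Subgroup G) : Set G) →
      d ∈ normalizer (YS (S : Subgroup G) : Set G) → Odd (orderOf d) →
      (∀ j ∈ (S : Subgroup G) ⊓ centralizer (R : Set G), ∀ w ∈ B,
        (j * d * j⁻¹ * d⁻¹) * (d * w * d⁻¹ * w⁻¹) = (d * w * d⁻¹ * w⁻¹) * (j * d * j⁻¹ * d⁻¹)) →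
      d ∈ centralizer (B : Set G) := by
  intro d hde _ hdB hdJ hdY hd hcom
  exact bad_grp Q hU2 hSY h hB hBN hR heU hc hdY (BadE.norm_zl hSY hdY) (mem_centralizer_singleton_iff.1 hde) hdB hdJ
    hd hcom

/-- **the hypothesis `bad` of `FrN.false_of`**, with `H := N_G(Y)` and `B := un Q (⨆ N)` -/
theorem bad_un [Finite G] {S : Sylow 2 G} {R : Subgroup G} (hSY : (S : Subgroup G) ≤ YS (S : Subgroup G))
    (Q : Nrm (normalizer (YS (S : Subgroup G) : Set G)) (zl (S : Subgroup G) (YS S)))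
    (hU2 : ∀ x ∈ zl (S : Subgroup G) (YS S), x ^ 2 = 1)
    {FF : Set (Subgroup (XH Q))} {N C L Z : Subgroup (XH Q) → AddSubgroup Q.Mod}
    (h : FamN (im Q S) (im Q '' EE (S : Subgroup G) (zl (S : Subgroup G) (YS S))) FF N C L Z)
    (hR : ∀ A ∈ EE (S : Subgroup G) (zl (S : Subgroup G) (YS S)), A ≤ centralizer (R : Set G)) {v : Q.Mod}
    (hc : ∀ D ∈ FF, ∃ x ∈ L D, x ≠ 0 ∧ v - x ∈ C D) :
    ∀ d ∈ centralizer ({Q.val v} : Set G), d ∈ normalizer (R : Set G) →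
      d ∈ normalizer ((un Q (⨆ D ∈ FF, N D) : Subgroup G) : Set G) →
      d ∈ normalizer (((S : Subgroup G) ⊓ centralizer (R : Set G) : Subgroup G) : Set G) →
      d ∈ normalizer (YS (S : Subgroup G) : Set G) → Odd (orderOf d) →
      (∀ j ∈ (S : Subgroup G) ⊓ centralizer (R : Set G), ∀ w ∈ un Q (⨆ D ∈ FF, N D),
        (j * d * j⁻¹ * d⁻¹) * (d * w * d⁻¹ * w⁻¹) = (d * w * d⁻¹ * w⁻¹) * (j * d * j⁻¹ * d⁻¹)) →
      d ∈ centralizer ((un Q (⨆ D ∈ FF, N D) : Subgroup G) : Set G) := by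
  intro d hde _ hdB hdJ hdY hd hcom
  refine bad_grp Q hU2 (hSY.trans le_normalizer) h ?_ ?_ hR (Q.val_mem v) hc (le_normalizer hdY)
    (BadE.norm_zl hSY hdY) (mem_centralizer_singleton_iff.1 hde) hdB hdJ hd hcom
  · rintro _ ⟨m, _, rfl⟩
    exact Q.val_mem m
  · exact AddSubgroup.ext fun m => val_mem_un Q

end Cfsg.Agent.Omega.NOThreeL.RZ.TwoC.BadN
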