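import Cfsg.Agent.Omega.NOThreeL.RZ.TwoC.AbX
import Cfsg.Agent.Omega.NOThreeL.RZ.TwoC.Alpha
import Cfsg.Agent.Omega.KL.StarR.GrpR
import Cfsg.Agent.Omega.KL.StarR.Main

/-!
# (beta) over the frame `FrX` (side 1 of THEOREM REL; #24309 (6), #24934, #25079, #25809)

* `QQ S R B J`, `BadG Q J Y` : helper820's literals (#26172);
* **`FrX.beta`** : the exit (beta) of `FrX.main` is impossible: helper127's `GInR` with `C = C_G(e)`, `T = S`, `A = F`,
  `J = C_S(R)`, `M = X₁`, `Z = R ∩ Z(S)`, `Y = B`, and helper345's `InpR.false_of`.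
-/

set_option autoImplicit false
set_option linter.unusedSectionVars false

namespace Cfsg.Agent.Omega.NOThreeL.RZ.TwoC.BetaX

open Subgroup Cfsg
open Cfsg.Agent.ZN (o2 zc zl jj)
open Cfsg.Agent.ZN.ChoiceBase hiding mem_zc
open Cfsg.Agent.Omega.ML.Final (MLK)
open Cfsg.Agent.Omega.ML.GMod (hul hul_le hul_le_of le_hul cj_le_hul le_normalizer_hul nc ri_mono
  normalizer_le_normalizer_o2)
open Cfsg.Agent.Omega.MinPar Cfsg.Agent.Omega.Frame Cfsg.Agent.Omega.FrameNOFF
open Cfsg.Agent.Omega.NOThreeL.Star (YS le_YS S_le_YS zl_mono)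
open Cfsg.Agent.Omega.NO3S.EThree.ExactA (eab_iff eab_mono)
open Cfsg.Agent.MinSimple.VModule (zc_le_zl le_normalizer_zl zl_le zc_le zc_sq zc_comm mem_zc le_centralizer_zc
  le_normalizer_o2 o2_isPGroup o2_le le_o2 normalizer_le_normalizer_zc)
open Cfsg.Agent.MinSimple.Basic (not_dvd_relIndex)
open Cfsg.Agent.MinSimple.MinParabolic (IsMinPar)
open Cfsg.Agent.Omega.NOThreeL.RZ.TwoC.Loc
open Cfsg.Agent.Omega.NOThreeL.RZ.TwoC.Alpha (zl_eq)
open Cfsg.Agent.Omega.KL.StarR (GInR)

universe u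

variable {G : Type u} [Group G]

/-- the odd elements to be tested: they permute the blocks and normalise `R`, `B`, `J` -/
def QQ (S R B J : Subgroup G) : Subgroup G :=
  (YS S ⊔ normalizer (S : Set G)) ⊓ normalizer (R : Set G) ⊓ normalizer (B : Set G) ⊓ normalizer (J : Set G)

/-- `d ∈ Q` of odd order with `[[Y, d], [J, d]] = 1` centralises `Y` -/
def BadG (Q J Y : Subgroup G) : Prop :=
  ∀ d ∈ Q, Odd (orderOf d) → (∀ j ∈ J, ∀ w ∈ Y,
    (j * d * j⁻¹ * d⁻¹) * (d * w * d⁻¹ * w⁻¹) = (d * w * d⁻¹ * w⁻¹) * (j * d * j⁻¹ * d⁻¹)) → d ∈ centralizer (Y : Set G)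

variable [Finite G] {S : Sylow 2 G} {R B X : Subgroup G} {e : G}

/-- `N_{K}(S) ≤ QQ` if `N_K(S)` normalises `R`, `B` -/
theorem nS_QQ {K C : Subgroup G} (hK : K ⊓ normalizer ((S : Subgroup G) : Set G) ≤ normalizer (R : Set G) ⊓
    normalizer (B : Set G)) (hC : C = R ∨ C = B) :
    K ⊓ normalizer ((S : Subgroup G) : Set G) ≤ QQ (S : Subgroup G) R B ((S : Subgroup G) ⊓ centralizer (C : Set G)) := by
  intro n hn
  have h1 := hK hn
  have hCn : n ∈ normalizer (C : Set G) := by
    rcases hC with rfl | rfl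
    · exact h1.1
    · exact h1.2
  refine ⟨⟨⟨(le_sup_right : normalizer ((S : Subgroup G) : Set G) ≤ _) hn.2, h1.1⟩, h1.2⟩, ?_⟩
  change n ∈ normalizer (((S : Subgroup G) ⊓ centralizer (C : Set G) : Subgroup G) : Set G)
  rw [mem_normalizer_iff_cj, cj_inf, cj_centralizer, cj_eq_of_mem_normalizer hn.2, cj_eq_of_mem_normalizer hCn]

/-- **(beta) is impossible.** -/
theorem _root_.Cfsg.Agent.Omega.NOThreeL.RZ.TwoC.FrX.beta (h : FrX S R B X e) (spl : B ⊓ R = ⊥) (hM : MLK.{u, u})
    (hRp : NO3b.EndX.RedP.{u, u}) (hE : ML.Ex.Two.Ext.{u, u})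
    (b1 : BadG (centralizer ({e} : Set G) ⊓ QQ (S : Subgroup G) R B ((S : Subgroup G) ⊓ centralizer (R : Set G)))
      ((S : Subgroup G) ⊓ centralizer (R : Set G)) B)
    {X₁ F : Subgroup G} (hel : IsElementaryAbelian 2 X₁) (hn : centralizer ({e} : Set G) ≤ normalizer (X₁ : Set G))
    (hV : zl (S : Subgroup G) (YS S) ≤ X₁) (hU : zl (S : Subgroup G) (centralizer ({e} : Set G)) ≤ X₁)
    (hFO : F ∈ AA (o2 (CZ (S : Subgroup G)))) (hFX : F ≤ o2 (centralizer (X : Set G)))
    (hFR : F ≤ centralizer (R : Set G)) (hFB : F ≤ o2 (centralizer (B : Set G)))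
    (hm : ¬ F ≤ centralizer (zl (S : Subgroup G) (centralizer ({e} : Set G)) : Set G))
    (hc : F ⊓ centralizer (zl (S : Subgroup G) (centralizer ({e} : Set G)) : Set G) ≤ centralizer (X₁ : Set G))
    (he : (centralizer (X₁ : Set G)).relIndex F = (centralizer (F : Set G)).relIndex X₁) : False := by
  have hSK : (S : Subgroup G) ≤ centralizer ({e} : Set G) := h.lK1.le
  have hFO' : F ≤ o2 (CZ (S : Subgroup G)) := hFO.2.1
  have helF : IsElementaryAbelian 2 F := hFO.1
  have hFS : F ≤ (S : Subgroup G) := hFO'.trans o2C_le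
  have hzV : zc (S : Subgroup G) ≤ zl (S : Subgroup G) (YS S) := zc_le_zl _ _
  have hSB : (S : Subgroup G) ≤ normalizer (B : Set G) := h.S_le_ys.trans h.nB
  have hPar : ∀ P : Subgroup G, IsMinPar (S : Subgroup G) P → P ≤ centralizer ({e} : Set G) →
      P ≤ centralizer ((R ⊓ zc (S : Subgroup G) : Subgroup G) : Set G) ∨
        (∀ g ∈ P, Odd (orderOf g) → g ∈ centralizer (B : Set G)) ∨
        (F ≤ o2 P ∧ (S : Subgroup G) ⊓ centralizer (R : Set G) ≤ o2 P ∧
          P ≤ QQ (S : Subgroup G) R B ((S : Subgroup G) ⊓ centralizer (R : Set G))) := by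
    intro P hP0 hPH
    have hP := h.lK1.isPar S hP0 hPH
    rcases h.le_of_par hP with h1 | ⟨h1, h2⟩
    · exact Or.inl (h1.trans (centralizer_le inf_le_right))
    rcases h.alt h1 with h3 | h3
    · refine Or.inr (Or.inr ⟨h.le_o2_one hFO' hFR hFX hP, h3, ?_⟩)
      exact le_inf (le_inf (le_inf (h2.trans le_sup_left) (h2.trans h.nR)) (h2.trans h.nB)) (h.nJ h1 h3)
    · left
      rw [← h3]
      refine sup_le (inf_le_right.trans (centralizer_le inf_le_left)) ?_
      exact (le_CZ S).trans (centralizer_le inf_le_right)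
  have hno : ∀ D : Subgroup G, D ≤ F →
      (centralizer (X₁ : Set G)).relIndex D ≤ (centralizer (D : Set G)).relIndex X₁ := by
    intro D hD
    have h1 := gml hM h.ctx h.lK1 (h.kg h.lK1) (hD.trans hFO') (eab_iff.1 (eab_mono helF hD)).2
    have h2 : (centralizer (X₁ : Set G)).relIndex D =
        (centralizer (zl (S : Subgroup G) (centralizer ({e} : Set G)) : Set G)).relIndex D := by
      rw [← inf_relIndex_left (H := D) (K := centralizer (X₁ : Set G)), ← inf_relIndex_left (H := D)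
        (K := centralizer (zl (S : Subgroup G) (centralizer ({e} : Set G)) : Set G))]
      congr 1
      refine le_antisymm (inf_le_inf_left _ (centralizer_le hU)) (le_inf inf_le_left ?_)
      exact (inf_le_inf_right _ hD).trans hc
    rw [h2]
    exact h1.trans (ri_mono _ hU)
  have hg : GInR (centralizer ({e} : Set G)) (S : Subgroup G) F ((S : Subgroup G) ⊓ centralizer (R : Set G))
      (QQ (S : Subgroup G) R B ((S : Subgroup G) ⊓ centralizer (R : Set G))) X₁ (R ⊓ zc (S : Subgroup G))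
      (zc (S : Subgroup G)) B :=
    { CM := hn
      sqM := (eab_iff.1 hel).2
      TC := hSK
      two := S.isPGroup'
      syl := not_dvd_relIndex S hSK
      ZM := inf_le_right.trans (hzV.trans hV)
      ZM' := hzV.trans hV
      YM := h.BV.trans hV
      TZ := (le_CZ S).trans (centralizer_le inf_le_right)
      TZ' := le_CZ S
      NZ := by
        intro n hn'
        rw [mem_normalizer_iff_cj, cj_inf, cj_eq_of_mem_normalizer (h.sE hn').1,
          cj_eq_of_mem_normalizer (normalizer_le_normalizer_zc _ hn'.2)]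
      NQ := nS_QQ h.sE (Or.inl rfl)
      QY := fun q hq => hq.2.1.2
      QJ := fun q hq => hq.2.2
      JT := inf_le_left
      AT := hFS
      par := hPar
      sep := fun g _ hg _ z hz y hy hgz => (FrX.sep spl hg.1.1.2 hg.1.2 hz.1 hy hgz).1
      hb := Or.inl fun d hd hQ ho hj => b1 d ⟨hd, hQ⟩ ho hj
      sqA := (eab_iff.1 helF).2
      AZ := by
        exact hFX.trans (o2_le_o2 S (le_inf hSK ((le_CZ S).trans (centralizer_le inf_le_right)))
          (inf_le_right.trans (centralizer_le (le_inf h.XR h.XZ))))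
      AY := by
        have e1 : centralizer ({e} : Set G) ⊓ centralizer (B : Set G) = centralizer (B : Set G) := inf_eq_right.2 h.BK
        rw [e1]
        refine hFB.trans (le_o2 ((o2_le _).trans le_sup_left) (o2_isPGroup _) ?_)
        exact sup_le (le_normalizer_o2 _) ((hSB.trans (nc _)).trans (normalizer_le_normalizer_o2 _))
      nk := by
        rw [zl_eq]
        exact hc
      mv := fun hcon => hm (hcon.trans (centralizer_le hU))
      no := hno
      le := he.ge
      K := h.kg h.lK1 }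
  obtain ⟨_, _, _, _, _, _, _, _, _, _, _, _, _, hI⟩ := hg.inpR
  exact hI.false_of hM hRp hE

end Cfsg.Agent.Omega.NOThreeL.RZ.TwoC.BetaX
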