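import Cfsg.Agent.Omega.NOThreeL.RZ.TwoC.AbY
import Cfsg.Agent.Omega.NOThreeL.RZ.TwoC.EndV

/-!
# Both sides of the frame `FrY` (variable `Y`) are impossible (bb #27002, #25865, #25243)

* `QY S Y R B J` = `⟨Y, N(S)⟩ ∩ N(R) ∩ N(B) ∩ N(J)`;
* **`FrY.alpha`** (side 2), **`FrY.beta`** (side 1), **`FrY.false_of`**.
-/

set_option autoImplicit false
set_option linter.unusedSectionVars false

namespace Cfsg.Agent.Omega.NOThreeL.RZ.TwoC

open Subgroup Cfsg
open Cfsg.Agent.ZN (o2 zc zl jj)
open Cfsg.Agent.ZN.ChoiceBase hiding mem_zc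
open Cfsg.Agent.Omega.ML.Final (MLK)
open Cfsg.Agent.Omega.ML.GMod (hul hul_le hul_le_of le_hul cj_le_hul le_normalizer_hul nc ri_mono
  normalizer_le_normalizer_o2)
open Cfsg.Agent.Omega.MinPar Cfsg.Agent.Omega.Frame Cfsg.Agent.Omega.FrameNOFF
open Cfsg.Agent.Omega.NO3b.Bang (le_normalizer_sup cent_symm)
open Cfsg.Agent.Omega.NOThreeL.Star (YS le_YS S_le_YS zl_mono)
open Cfsg.Agent.Omega.NO3S.EThree.ExactA (eab_iff eab_mono)
open Cfsg.Agent.Omega.NoFF.Basic (comm_symm V V_le Z_le_V mem_conj)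
open Cfsg.Agent.Omega.GI (relIndex_congr relIndex_sup_of_comm)
open Cfsg.Agent.MinSimple.VModule (zc_le_zl le_normalizer_zl zl_le zc_le zc_sq zc_comm mem_zc le_centralizer_zc
  le_normalizer_o2 o2_isPGroup o2_le le_o2 normalizer_le_normalizer_zc)
open Cfsg.Agent.MinSimple.Basic (not_dvd_relIndex)
open Cfsg.Agent.MinSimple.MinParabolic (IsMinPar)
open Cfsg.Agent.Omega.NOThreeL.RZ.TwoC.Loc (gml o2C_le inf_cent_le norm_inf)
open Cfsg.Agent.Omega.NOThreeL.RZ.TwoC.SideP (NoA TwoP exch_inf)
open Cfsg.Agent.Omega.NO3b.EndX (RedP)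
open Cfsg.Agent.Omega.KL.StarR (GInR)
open scoped Pointwise

universe u

variable {G : Type u} [Group G]

/-- the elements of `⟨Y, N(S)⟩` which normalise `R`, `B` and `J` -/
def QY (S Y R B J : Subgroup G) : Subgroup G :=
  (Y ⊔ normalizer (S : Set G)) ⊓ normalizer (R : Set G) ⊓ normalizer (B : Set G) ⊓ normalizer (J : Set G)

namespace FrY

variable [Finite G] {S : Sylow 2 G} {Y R B Z₀ : Subgroup G} {e : G} (h : FrY S Y R B Z₀ e)
include h

/-- `C ∩ Q` for the two sides -/
theorem nS_QQ {X J K : Subgroup G} (hX : K ⊓ normalizer ((S : Subgroup G) : Set G) ≤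
    normalizer (R : Set G) ⊓ normalizer (B : Set G) ⊓ normalizer (Y : Set G)) (hJ : J = (S : Subgroup G) ⊓ centralizer (X : Set G))
    (hN : normalizer (R : Set G) ⊓ normalizer (B : Set G) ≤ normalizer (X : Set G)) :
    K ⊓ normalizer ((S : Subgroup G) : Set G) ≤ QY (S : Subgroup G) Y R B J := by
  intro g hg
  have h1 := (hX hg).1
  have h2 : g ∈ normalizer (((S : Subgroup G) ⊓ centralizer (X : Set G) : Subgroup G) : Set G) := by
    rw [mem_normalizer_iff_cj, cj_inf, cj_centralizer, cj_eq_of_mem_normalizer hg.2,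
      cj_eq_of_mem_normalizer (hN h1)]
  exact ⟨⟨⟨le_sup_right (a := Y) hg.2, h1.1⟩, h1.2⟩, hJ ▸ h2⟩

theorem par_QQ {X P : Subgroup G} (nX : Y ≤ normalizer (X : Set G))
    (hP : IsParS (S : Subgroup G) P) (hPY : P ≤ Y) (h1 : (S : Subgroup G) ⊓ centralizer (X : Set G) ≤ o2 P) :
    P ≤ QY (S : Subgroup G) Y R B ((S : Subgroup G) ⊓ centralizer (X : Set G)) :=
  le_inf (le_inf (le_inf (hPY.trans le_sup_left) (hPY.trans h.nR)) (hPY.trans h.nB))
    (h.nJ nX hP hPY h1)

/-- `O₂(C_G(X)) ≤ O₂(C_G(X) S)` -/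
theorem o2_sup {X K : Subgroup G} (nX : Y ≤ normalizer (X : Set G))
    (hK : centralizer (X : Set G) ≤ K) :
    o2 (centralizer (X : Set G)) ≤ o2 (K ⊓ centralizer (X : Set G) ⊔ (S : Subgroup G)) := by
  rw [inf_eq_right.2 hK]
  refine le_o2 ((o2_le _).trans le_sup_left) (o2_isPGroup _) (sup_le (le_normalizer_o2 _) ?_)
  exact ((h.S_le_ys.trans nX).trans (nc _)).trans (normalizer_le_normalizer_o2 _)

variable (hM : MLK.{u, u}) (hR : RedP.{u, u}) (hE : ML.Ex.Two.Ext.{u, u})
include hM hR hE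

/-- **side 2** -/
theorem alpha
    (b2 : R ⊓ zc (S : Subgroup G) ≤ Z₀ ∨
      BadG (centralizer (Z₀ : Set G) ⊓ QY (S : Subgroup G) Y R B ((S : Subgroup G) ⊓ centralizer (B : Set G)))
        ((S : Subgroup G) ⊓ centralizer (B : Set G)) R)
    {A F : Subgroup G} (hA : A ∈ AA (o2 (CZ (S : Subgroup G)))) (hAK : A ≤ o2 (centralizer ({e} : Set G)))
    (hFA : F ≤ A) (hFR : F ≤ o2 (centralizer (R : Set G)))
    (hm : ¬ F ≤ centralizer (hul (zl (S : Subgroup G) Y) (centralizer (Z₀ : Set G)) : Set G))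
    (he : (centralizer (hul (zl (S : Subgroup G) Y) (centralizer (Z₀ : Set G)) : Set G)).relIndex F =
      (centralizer (F : Set G)).relIndex (hul (zl (S : Subgroup G) Y) (centralizer (Z₀ : Set G)))) : False := by
  set W : Subgroup G := hul (zl (S : Subgroup G) Y) (centralizer (Z₀ : Set G)) with hW
  obtain ⟨w0, w1, w2, -⟩ := h.W2 hM
  rw [← hW] at w0 w1 w2
  have hFO : F ≤ o2 (CZ (S : Subgroup G)) := hFA.trans hA.2.1
  have hFS : F ≤ (S : Subgroup G) := hFO.trans o2C_le
  have hSK : (S : Subgroup G) ≤ centralizer (Z₀ : Set G) := (le_CZ S).trans h.C2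
  have hZB : (S : Subgroup G) ≤ centralizer ((B ⊓ zc (S : Subgroup G) : Subgroup G) : Set G) :=
    (le_CZ S).trans (centralizer_le inf_le_right)
  have hVW : zl (S : Subgroup G) Y ≤ W := le_hul _ _
  have hU := h.lK2.zl_le S h.ctx.char2
  have hUO : zl (S : Subgroup G) (centralizer (Z₀ : Set G)) ≤ o2 (CZ (S : Subgroup G)) :=
    (hU.trans (zc_le _)).trans (o2_le_o2 S (le_CZ S) h.C2)
  have hUel : IsElementaryAbelian 2 (zl (S : Subgroup G) (centralizer (Z₀ : Set G))) :=
    eab_iff.2 ⟨fun x hx => mem_centralizer_iff.2 fun y hy => zc_comm _ _ (hU hy) _ (hU hx), fun x hx => zc_sq _ _ (hU hx)⟩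
  have hno : NoA (o2 (CZ (S : Subgroup G))) (zl (S : Subgroup G) (centralizer (Z₀ : Set G))) :=
    fun A' hA' => gml hM h.ctx h.lK2 (h.kg h.lK2) hA'.2.1 (eab_iff.1 hA'.1).2
  have hUW : zl (S : Subgroup G) (centralizer (Z₀ : Set G)) ≤ W := zl_le ((zc_le_zl _ _).trans hVW) (le_normalizer_hul _ _)
  -- `C_A(U₂)` centralises `W₂`
  have hker : A ⊓ centralizer (zl (S : Subgroup G) (centralizer (Z₀ : Set G)) : Set G) ≤ centralizer (W : Set G) := by
    have h1 := exch_inf hUel hUO hno hA
    exact le_sup_left.trans (((eab_iff.1 h1.1).1).trans (centralizer_le (w0 _ h1)))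
  have hgml : ∀ C : Subgroup G, C ≤ F → (centralizer (W : Set G)).relIndex C ≤ (centralizer (C : Set G)).relIndex W := by
    intro C hC
    have e1 : (centralizer (W : Set G)).relIndex C =
        (centralizer (zl (S : Subgroup G) (centralizer (Z₀ : Set G)) : Set G)).relIndex C :=
      relIndex_congr (le_antisymm (inf_le_inf_left _ (centralizer_le hUW))
        (le_inf inf_le_left ((inf_le_inf_right _ (hC.trans hFA)).trans hker)))
    rw [e1]
    exact (gml hM h.ctx h.lK2 (h.kg h.lK2) (hC.trans hFO) (eab_iff.1 (eab_mono hA.1 (hC.trans hFA))).2).trans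
      (ri_mono _ hUW)
  have hEN : normalizer (R : Set G) ⊓ normalizer (B : Set G) ≤ normalizer (B : Set G) := inf_le_right
  have hG : GInR (centralizer (Z₀ : Set G)) (S : Subgroup G) F ((S : Subgroup G) ⊓ centralizer (B : Set G))
      (QY (S : Subgroup G) Y R B ((S : Subgroup G) ⊓ centralizer (B : Set G))) W (B ⊓ zc (S : Subgroup G))
      (zc (S : Subgroup G)) R :=
    { CM := le_normalizer_hul _ _
      sqM := (eab_iff.1 w1).2
      TC := hSK
      two := S.isPGroup'
      syl := not_dvd_relIndex S hSK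
      ZM := inf_le_left.trans (h.BV.trans hVW)
      ZM' := (zc_le_zl _ _).trans hVW
      YM := h.RV.trans hVW
      TZ := hZB
      TZ' := le_centralizer_zc _
      NZ := by
        intro g hg
        have h1 := (h.sZ hg).1
        rw [mem_normalizer_iff_cj, cj_inf, cj_eq_of_mem_normalizer h1.2,
          cj_eq_of_mem_normalizer (normalizer_le_normalizer_zc _ hg.2)]
      NQ := h.nS_QQ h.sZ rfl hEN
      QY := inf_le_right.trans ((inf_le_left.trans inf_le_left).trans inf_le_right)
      QJ := inf_le_right.trans inf_le_right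
      JT := inf_le_left
      AT := hFS
      par := by
        intro P hP0 hPK
        have hP := h.lK2.isPar S hP0 hPK
        rcases h.le_of_par hP (Or.inr hPK) with h1 | ⟨h1, hPY⟩
        · exact Or.inl (h1.trans (centralizer_le inf_le_right))
        · rcases h.altX h.nB h1 hPY with h2 | h2
          · exact Or.inr (Or.inr ⟨h.le_o2_two hFO hFR hP (Or.inr hPK), h2, h.par_QQ h.nB h1 hPY h2⟩)
          · exact Or.inl (h.le_of_alt h2)
      sep := by
        intro g _ hgQ _ z hz y hy hc
        have hc' : g * (y * z) = y * z * g := by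
          have h3 : y * z = z * y := by
            have h4 := h.vc (h.RV hy)
            exact ((mem_centralizer_iff.1 h4) z (h.BV hz.1)).symm
          rw [h3]
          exact hc
        exact (h.sep hgQ.1.1.2 hgQ.1.2 hy hz.1 hc').2
      hb := by
        rcases b2 with h1 | h1
        · right
          intro v hv
          have h2 : v ∈ Z₀ := h1 ⟨hv.1, h.fixV (h.RV hv.1) fun s hs => mem_centralizer_iff.1 hv.2 s hs⟩
          rw [mem_centralizer_iff]
          intro k hk
          exact ((mem_centralizer_iff.1 hk) v h2).symm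
        · left
          intro d hdC hdQ hdo hcom
          exact h1 d ⟨hdC, hdQ⟩ hdo hcom
      sqA := (eab_iff.1 (eab_mono hA.1 hFA)).2
      AZ := by
        refine (le_inf (hFA.trans hAK) (le_inf (hFS.trans hSK) (hFS.trans hZB))).trans ?_
        rw [inf_comm]
        refine le_o2 inf_le_left ((o2_isPGroup _).to_le inf_le_right) ?_
        refine le_trans (le_inf Subgroup.le_normalizer ?_) inf_normalizer_le_normalizer_inf
        refine (inf_le_right.trans (centralizer_le ?_)).trans (le_normalizer_o2 _)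
        exact Set.singleton_subset_iff.2 ⟨h.eB, h.eZ⟩
      AY := hFR.trans (h.o2_sup h.nR h.RK)
      nk := by
        rw [v_eq]
        exact (inf_le_inf_right _ hFA).trans hker
      mv := hm
      no := hgml
      le := he.ge
      K := h.kg h.lK2 }
  obtain ⟨X, N, _, _, _, _, _, T', A', J', Q', Z₁, Y', h1⟩ := hG.inpR
  exact h1.false_of hM hR hE

/-- **side 1** -/
theorem beta
    (b1 : BadG (centralizer ({e} : Set G) ⊓ QY (S : Subgroup G) Y R B ((S : Subgroup G) ⊓ centralizer (R : Set G)))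
      ((S : Subgroup G) ⊓ centralizer (R : Set G)) B)
    {X₁ F : Subgroup G} (hX : IsElementaryAbelian 2 X₁) (hXn : centralizer ({e} : Set G) ≤ normalizer (X₁ : Set G))
    (hVX : zl (S : Subgroup G) Y ≤ X₁) (hUX : zl (S : Subgroup G) (centralizer ({e} : Set G)) ≤ X₁)
    (hF : F ∈ AA (o2 (CZ (S : Subgroup G)))) (hF2 : F ≤ o2 (centralizer (Z₀ : Set G)))
    (hFB : F ≤ o2 (centralizer (B : Set G)))
    (hm : ¬ F ≤ centralizer (zl (S : Subgroup G) (centralizer ({e} : Set G)) : Set G))
    (hk : F ⊓ centralizer (zl (S : Subgroup G) (centralizer ({e} : Set G)) : Set G) ≤ centralizer (X₁ : Set G))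
    (he : (centralizer (X₁ : Set G)).relIndex F = (centralizer (F : Set G)).relIndex X₁) : False := by
  have hFO : F ≤ o2 (CZ (S : Subgroup G)) := hF.2.1
  have hFR : F ≤ centralizer (R : Set G) := h.hA F hF hF2
  have hFS : F ≤ (S : Subgroup G) := hFO.trans o2C_le
  have hSK : (S : Subgroup G) ≤ centralizer ({e} : Set G) := (le_CZ S).trans h.C1
  have hZR : (S : Subgroup G) ≤ centralizer ((R ⊓ zc (S : Subgroup G) : Subgroup G) : Set G) :=
    (le_CZ S).trans (centralizer_le inf_le_right)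
  have hgml : ∀ C : Subgroup G, C ≤ F → (centralizer (X₁ : Set G)).relIndex C ≤ (centralizer (C : Set G)).relIndex X₁ := by
    intro C hC
    have e1 : (centralizer (X₁ : Set G)).relIndex C =
        (centralizer (zl (S : Subgroup G) (centralizer ({e} : Set G)) : Set G)).relIndex C :=
      relIndex_congr (le_antisymm (inf_le_inf_left _ (centralizer_le hUX))
        (le_inf inf_le_left ((inf_le_inf_right _ hC).trans hk)))
    rw [e1]
    exact (gml hM h.ctx h.lK1 (h.kg h.lK1) (hC.trans hFO) (eab_iff.1 (eab_mono hF.1 hC)).2).trans (ri_mono _ hUX)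
  have hG : GInR (centralizer ({e} : Set G)) (S : Subgroup G) F ((S : Subgroup G) ⊓ centralizer (R : Set G))
      (QY (S : Subgroup G) Y R B ((S : Subgroup G) ⊓ centralizer (R : Set G))) X₁ (R ⊓ zc (S : Subgroup G))
      (zc (S : Subgroup G)) B :=
    { CM := hXn
      sqM := (eab_iff.1 hX).2
      TC := hSK
      two := S.isPGroup'
      syl := not_dvd_relIndex S hSK
      ZM := inf_le_left.trans (h.RV.trans hVX)
      ZM' := (zc_le_zl _ _).trans hVX
      YM := h.BV.trans hVX
      TZ := hZR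
      TZ' := le_centralizer_zc _
      NZ := by
        intro g hg
        have h1 := (h.sE hg).1
        rw [mem_normalizer_iff_cj, cj_inf, cj_eq_of_mem_normalizer h1.1,
          cj_eq_of_mem_normalizer (normalizer_le_normalizer_zc _ hg.2)]
      NQ := h.nS_QQ h.sE rfl inf_le_left
      QY := inf_le_right.trans (inf_le_left.trans inf_le_right)
      QJ := inf_le_right.trans inf_le_right
      JT := inf_le_left
      AT := hFS
      par := by
        intro P hP0 hPK
        have hP := h.lK1.isPar S hP0 hPK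
        rcases h.le_of_par hP (Or.inl hPK) with h1 | ⟨h1, hPY⟩
        · exact Or.inl (h1.trans (centralizer_le inf_le_right))
        · rcases h.altX h.nR h1 hPY with h2 | h2
          · exact Or.inr (Or.inr ⟨h.le_o2_one hFO hFR hF2 hP (Or.inl hPK), h2, h.par_QQ h.nR h1 hPY h2⟩)
          · exact Or.inl (h.le_of_alt h2)
      sep := by
        intro g _ hgQ _ z hz y hy hc
        exact (h.sep hgQ.1.1.2 hgQ.1.2 hz.1 hy hc).1
      hb := Or.inl fun d hdC hdQ hdo hcom => b1 d ⟨hdC, hdQ⟩ hdo hcom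
      sqA := (eab_iff.1 hF.1).2
      AZ := by
        refine (le_inf hF2 (le_inf (hFS.trans hSK) (hFS.trans hZR))).trans ?_
        rw [inf_comm]
        refine le_o2 inf_le_left ((o2_isPGroup _).to_le inf_le_right) ?_
        refine le_trans (le_inf Subgroup.le_normalizer ?_) inf_normalizer_le_normalizer_inf
        exact (inf_le_right.trans (centralizer_le h.Z0R)).trans (le_normalizer_o2 _)
      AY := hFB.trans (h.o2_sup h.nB h.BK)
      nk := by
        rw [v_eq]
        exact hk
      mv := fun hc => hm (hc.trans (centralizer_le hUX))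
      no := hgml
      le := he.ge
      K := h.kg h.lK1 }
  obtain ⟨X, N, _, _, _, _, _, T', A', J', Q', Z₁, Y', h1⟩ := hG.inpR
  exact h1.false_of hM hR hE

/-- **The frame is impossible.** -/
theorem false_of
    (b1 : BadG (centralizer ({e} : Set G) ⊓ QY (S : Subgroup G) Y R B ((S : Subgroup G) ⊓ centralizer (R : Set G)))
      ((S : Subgroup G) ⊓ centralizer (R : Set G)) B)
    (b2 : R ⊓ zc (S : Subgroup G) ≤ Z₀ ∨
      BadG (centralizer (Z₀ : Set G) ⊓ QY (S : Subgroup G) Y R B ((S : Subgroup G) ⊓ centralizer (B : Set G)))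
        ((S : Subgroup G) ⊓ centralizer (B : Set G)) R) : False := by
  rcases h.main hM with ⟨A, hA, -, hAK, F, hFA, hFR, hm, he⟩ | ⟨X₁, hX, hXn, hVX, hUX, -, F, hF, -, hF2, hFB, hm, -, hk, he⟩
  · exact h.alpha hM hR hE b2 hA hAK hFA hFR hm he
  · exact h.beta hM hR hE b1 hX hXn hVX hUX hF hF2 hFB hm hk he

end FrY

end Cfsg.Agent.Omega.NOThreeL.RZ.TwoC
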