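import Cfsg.Agent.Omega.NOThreeL.RZ.TwoC.EndP
import Cfsg.Agent.Omega.KL.StarR.GrpM

/-!
# [R-z], the nonsplit case, only the lines are permuted, and only by `N_G(S)` and the inactive `P` (bb #26560)

`FrM S R B X e` : 652's frame `FrP S R B e` (without `B ∩ R = 1`, e.g. `B = V*`), and a subgroup `X ≤ B` with `e ∈ X`,
`X ∩ R = 1`, which is normalised by `N_{K₁}(S)`, `N_{K₂}(S)` and by every `P ∈ P*(S)` whose elements of odd order do not
centralise `R`;  `C_S(X) ≤ C(R)` (`alt`).  It asks strictly less than helper878's `FrM` (`NonS.lean`, which is the model of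
this file).

* `FrM.ginR2` : side 2 (alpha), KL* over `K₂` with the object `R` and `Z := X ∩ Z`;
* `FrM.ginM1` : side 1 (beta), over `K₁` with the object `X`;
* **`FrM.false_of`** : the frame is contradictory, if for an odd `d ∈ Q ∩ C(e)` with `[[B, d], [J, d]] = 1`, `J = C_S(R)`,
  `d` centralises `X` and `R`.
-/

set_option autoImplicit false
set_option linter.unusedSectionVars false

namespace Cfsg.Agent.Omega.NOThreeL.RZ.TwoC

open Subgroup Cfsg
open Cfsg.Agent.ZN (o2 zc zl jj)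
open Cfsg.Agent.ZN.ChoiceBase hiding mem_zc
open Cfsg.Agent.Omega.ML.Final (MLK)
open Cfsg.Agent.Omega.ML.GMod (hul hul_le hul_le_of le_hul cj_le_hul le_normalizer_hul nc ri_mono
  normalizer_le_normalizer_o2)
open Cfsg.Agent.Omega.MinPar Cfsg.Agent.Omega.Frame Cfsg.Agent.Omega.FrameNOFF
open Cfsg.Agent.Omega.NOThreeL.Star (YS le_YS S_le_YS)
open Cfsg.Agent.Omega.NO3S.EThree.ExactA (eab_iff eab_mono)
open Cfsg.Agent.Omega.NoFF.Basic (comm_symm)
open Cfsg.Agent.Omega.GI (relIndex_congr)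
open Cfsg.Agent.Omega.KL.StarR (GInR)
open Cfsg.Agent.Omega.KL.StarR.AltM (GInM)
open Cfsg.Agent.MinSimple.VModule (zc_le_zl le_normalizer_zl zl_le zc_le zc_sq zc_comm mem_zc le_centralizer_zc
  le_normalizer_o2 o2_isPGroup o2_le le_o2 normalizer_le_normalizer_zc oddGen oddGen_def)
open Cfsg.Agent.Omega.NOThreeL.RZ.TwoC.Loc (gml o2C_le inf_cent_le norm_inf)

universe u

variable {G : Type u} [Group G]

/-- **The frame of the nonsplit case.** -/
structure FrM [Finite G] (S : Sylow 2 G) (R B X : Subgroup G) (e : G) : Prop extends FrP S R B e where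
  XB : X ≤ B
  eX : e ∈ X
  sXE : centralizer ({e} : Set G) ⊓ normalizer ((S : Subgroup G) : Set G) ≤ normalizer (X : Set G)
  sXZ : centralizer ((R ⊓ zc (S : Subgroup G) : Subgroup G) : Set G) ⊓ normalizer ((S : Subgroup G) : Set G) ≤
    normalizer (X : Set G)
  alt : (S : Subgroup G) ⊓ centralizer (X : Set G) ≤ centralizer (R : Set G)
  spX : X ⊓ R = ⊥
  pX : ∀ P : Subgroup G, IsParS (S : Subgroup G) P → (∀ g ∈ P, Odd (orderOf g) → g ∈ centralizer (R : Set G)) ∨
    P ≤ normalizer (X : Set G)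

section frn

variable [Finite G] {S : Sylow 2 G} {R B X : Subgroup G} {e : G} (h : FrM S R B X e) (hM : MLK.{u, u})
include h

/-- `P ∈ P*(S)` which moves `R ∩ Z` normalises `X` -/
theorem FrM.pX' {P : Subgroup G} (hP : IsParS (S : Subgroup G) P)
    (h2 : ¬ P ≤ centralizer ((R ⊓ zc (S : Subgroup G) : Subgroup G) : Set G)) : P ≤ normalizer (X : Set G) := by
  rcases h.pX P hP with h1 | h1
  · refine (h2 ?_).elim
    have h3 : oddGen P ⊔ (S : Subgroup G) = P :=
      KL.Star.Core.oddGen_sup hP.le (MinSimple.Basic.not_dvd_relIndex S hP.le)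
    rw [← h3]
    refine sup_le ?_ ((le_CZ S).trans h.toFrP.C2)
    rw [oddGen_def, closure_le]
    rintro g ⟨hgP, hgo⟩
    exact h.toFrP.RK (h1 g hgP hgo)
  · exact h1

include hM

/-- **side 2** -/
theorem FrM.ginR2 {A F : Subgroup G} (hA : A ∈ AA (o2 (CZ (S : Subgroup G)))) (hA1 : A ≤ o2 (centralizer ({e} : Set G)))
    (hFA : F ≤ A) (hFQ : F ≤ o2 (centralizer (R : Set G)))
    (hm : ¬ F ≤ centralizer (hul (zl (S : Subgroup G) (YS S))
      (centralizer ((R ⊓ zc (S : Subgroup G) : Subgroup G) : Set G)) : Set G))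
    (he : (centralizer (hul (zl (S : Subgroup G) (YS S))
        (centralizer ((R ⊓ zc (S : Subgroup G) : Subgroup G) : Set G)) : Set G)).relIndex F =
        (centralizer (F : Set G)).relIndex
          (hul (zl (S : Subgroup G) (YS S)) (centralizer ((R ⊓ zc (S : Subgroup G) : Subgroup G) : Set G)))) :
    GInR (centralizer ((R ⊓ zc (S : Subgroup G) : Subgroup G) : Set G)) (S : Subgroup G) F ⊥
      (normalizer (X : Set G) ⊓ normalizer (R : Set G))
      (hul (zl (S : Subgroup G) (YS S)) (centralizer ((R ⊓ zc (S : Subgroup G) : Subgroup G) : Set G)))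
      (zc (S : Subgroup G) ⊓ X) (zc (S : Subgroup G)) R := by
  have hP := h.toFrP
  have hVW : zl (S : Subgroup G) (YS S) ≤
      hul (zl (S : Subgroup G) (YS S)) (centralizer ((R ⊓ zc (S : Subgroup G) : Subgroup G) : Set G)) := le_hul _ _
  have hZW : zc (S : Subgroup G) ≤
      hul (zl (S : Subgroup G) (YS S)) (centralizer ((R ⊓ zc (S : Subgroup G) : Subgroup G) : Set G)) :=
    (zc_le_zl _ _).trans hVW
  have hFO : F ≤ o2 (CZ (S : Subgroup G)) := hFA.trans hA.2.1
  have hFS : F ≤ (S : Subgroup G) := hFO.trans o2C_le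
  have hSK : (S : Subgroup G) ≤ centralizer ((R ⊓ zc (S : Subgroup G) : Subgroup G) : Set G) := hP.lK2.le
  have hNZ : centralizer ((R ⊓ zc (S : Subgroup G) : Subgroup G) : Set G) ⊓ normalizer ((S : Subgroup G) : Set G) ≤
      normalizer ((zc (S : Subgroup G) ⊓ X : Subgroup G) : Set G) := fun n hn =>
    inf_normalizer_le_normalizer_inf ⟨normalizer_le_normalizer_zc _ hn.2, h.sXZ hn⟩
  exact
  { CM := le_normalizer_hul _ _
    sqM := (eab_iff.1 (hP.W2 hM).2.1).2
    TC := hSK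
    two := S.isPGroup'
    syl := MinSimple.Basic.not_dvd_relIndex S hSK
    ZM := inf_le_left.trans hZW
    ZM' := hZW
    YM := hP.RV.trans hVW
    TZ := (le_CZ S).trans (centralizer_le inf_le_left)
    TZ' := le_CZ S
    NZ := hNZ
    NQ := fun n hn => ⟨h.sXZ hn, (hP.sZ hn).1⟩
    QY := inf_le_right.trans inf_le_right
    QJ := fun n _ => by
      rw [mem_normalizer_iff_cj]
      exact Subgroup.map_bot _
    JT := bot_le
    AT := hFS
    par := by
      intro P hP1 hPK
      have hPP := hP.lK2.isPar S hP1 hPK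
      rcases hP.le_of_par hPP with h1 | ⟨h0, h1⟩
      · exact Or.inl (h1.trans (centralizer_le inf_le_left))
      · rcases h.pX P h0 with h2 | h2
        · exact Or.inr (Or.inl h2)
        · exact Or.inr (Or.inr ⟨hP.le_o2_two hFO hFQ hPP, bot_le, le_inf h2 (h1.trans hP.nR)⟩)
    sep := by
      intro g _ hgQ _ z hz y hy hc
      have h1 : g * z * g⁻¹ ∈ X := (mem_normalizer_iff.1 hgQ.1 z).1 hz.2
      have h2 : g * y * g⁻¹ ∈ R := (mem_normalizer_iff.1 hgQ.2 y).1 hy
      have h3 : z⁻¹ * (g * z * g⁻¹) = y * (g * y * g⁻¹)⁻¹ := by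
        have e2 : g * z * g⁻¹ * (g * y * g⁻¹) = z * y := by
          calc g * z * g⁻¹ * (g * y * g⁻¹) = g * (z * y) * g⁻¹ := by group
            _ = z * y * g * g⁻¹ := by rw [hc]
            _ = z * y := by group
        calc z⁻¹ * (g * z * g⁻¹) = z⁻¹ * (g * z * g⁻¹ * (g * y * g⁻¹)) * (g * y * g⁻¹)⁻¹ := by group
          _ = z⁻¹ * (z * y) * (g * y * g⁻¹)⁻¹ := by rw [e2]
          _ = y * (g * y * g⁻¹)⁻¹ := by group
      have h4 : z⁻¹ * (g * z * g⁻¹) ∈ X ⊓ R :=
        ⟨X.mul_mem (X.inv_mem hz.2) h1, by rw [h3]; exact R.mul_mem hy (R.inv_mem h2)⟩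
      rw [h.spX, mem_bot] at h4
      have h5 : g * z * g⁻¹ = z := (inv_mul_eq_one.1 h4).symm
      exact mul_inv_eq_iff_eq_mul.1 h5
    hb := by
      right
      rintro v ⟨hv, hvS⟩
      have h1 := hP.fixR hv fun s hs => mem_centralizer_iff.1 hvS s hs
      rw [mem_centralizer_iff]
      intro c hc
      exact (mem_centralizer_iff.1 hc v h1).symm
    sqA := fun a ha => (eab_iff.1 hA.1).2 a (hFA ha)
    AZ := by
      refine (hFA.trans hA1).trans (o2_le_o2 S (le_inf hSK ((le_CZ S).trans (centralizer_le inf_le_left))) ?_)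
      exact inf_le_right.trans (centralizer_le (Set.singleton_subset_iff.2 ⟨hP.eZ, h.eX⟩))
    AY := by
      refine hFQ.trans (le_o2 (hP.QR_le.trans le_sup_right) (o2_isPGroup _) ?_)
      exact sup_le (inf_le_right.trans (le_normalizer_o2 _)) hP.nQR
    nk := by
      rw [V_eq_zl]
      exact (inf_le_inf_right _ hFA).trans (hP.nk2 hM hA)
    mv := hm
    no := fun X hX => hP.no2 hM hA (hX.trans hFA)
    le := he.ge
    K := hP.kg hP.lK2 }

/-- **side 1** -/
theorem FrM.ginM1 {Q X₁ F : Subgroup G} (hel : IsElementaryAbelian 2 X₁)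
    (hn : centralizer ({e} : Set G) ≤ normalizer (X₁ : Set G)) (hVX : zl (S : Subgroup G) (YS S) ≤ X₁)
    (hUX : zl (S : Subgroup G) (centralizer ({e} : Set G)) ≤ X₁) (hXO : X₁ ≤ o2 (CZ (S : Subgroup G)))
    (hF : F ∈ AA (o2 (CZ (S : Subgroup G))))
    (hF2 : F ≤ o2 (centralizer ((R ⊓ zc (S : Subgroup G) : Subgroup G) : Set G)))
    (hFB : F ≤ o2 (centralizer (B : Set G)))
    (hm : ¬ F ≤ centralizer (zl (S : Subgroup G) (centralizer ({e} : Set G)) : Set G))
    (hc : F ⊓ centralizer (zl (S : Subgroup G) (centralizer ({e} : Set G)) : Set G) ≤ centralizer (X₁ : Set G))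
    (he : (centralizer (X₁ : Set G)).relIndex F = (centralizer (F : Set G)).relIndex X₁)
    (Q1 : centralizer ({e} : Set G) ⊓ normalizer ((S : Subgroup G) : Set G) ≤ Q)
    (Q2 : ∀ P : Subgroup G, IsParS (S : Subgroup G) P → P ≤ centralizer ({e} : Set G) →
      ¬ P ≤ centralizer ((R ⊓ zc (S : Subgroup G) : Subgroup G) : Set G) → P ≤ Q)
    (QX : centralizer ({e} : Set G) ⊓ Q ≤ normalizer (X : Set G))
    (QR : centralizer ({e} : Set G) ⊓ Q ≤ normalizer (R : Set G))
    (QJ : centralizer ({e} : Set G) ⊓ Q ≤ normalizer (((S : Subgroup G) ⊓ centralizer (R : Set G) : Subgroup G) : Set G))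
    (bad : ∀ d ∈ centralizer ({e} : Set G), d ∈ Q → Odd (orderOf d) →
      (∀ j ∈ (S : Subgroup G) ⊓ centralizer (R : Set G), ∀ w ∈ B,
        (j * d * j⁻¹ * d⁻¹) * (d * w * d⁻¹ * w⁻¹) = (d * w * d⁻¹ * w⁻¹) * (j * d * j⁻¹ * d⁻¹)) →
      d ∈ centralizer (X : Set G) ∧ d ∈ centralizer (R : Set G)) :
    GInM (centralizer ({e} : Set G)) (S : Subgroup G) F ((S : Subgroup G) ⊓ centralizer (R : Set G)) Q X₁
      (R ⊓ zc (S : Subgroup G)) (zc (S : Subgroup G)) X R B := by
  have hP := h.toFrP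
  have hFO : F ≤ o2 (CZ (S : Subgroup G)) := hF.2.1
  have hFS : F ≤ (S : Subgroup G) := hFO.trans o2C_le
  have hSK : (S : Subgroup G) ≤ centralizer ({e} : Set G) := hP.lK1.le
  have hFR : F ≤ centralizer (R : Set G) := hP.hA F hF
  have hZU : zc (S : Subgroup G) ≤ X₁ := (zc_le_zl _ _).trans hUX
  exact
  { CM := hn
    sqM := (eab_iff.1 hel).2
    TC := hSK
    two := S.isPGroup'
    syl := MinSimple.Basic.not_dvd_relIndex S hSK
    ZR := inf_le_left
    ZM' := hZU
    YM := hP.BV.trans hVX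
    XM := h.XB.trans (hP.BV.trans hVX)
    RM := hP.RV.trans hVX
    XR := h.spX
    TZ := (le_CZ S).trans (centralizer_le inf_le_right)
    TZ' := le_CZ S
    NZ := fun n hn => inf_normalizer_le_normalizer_inf ⟨(hP.sE hn).1, normalizer_le_normalizer_zc _ hn.2⟩
    NQ := Q1
    QX := QX
    QR := QR
    QJ := QJ
    JT := inf_le_left
    AT := hFS
    alt := h.alt
    par := by
      intro P hP1 hPK
      have hPP := hP.lK1.isPar S hP1 hPK
      rcases hP.le_of_par hPP with h1 | ⟨h0, h1⟩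
      · left
        intro m hm htm p hp
        have h2 : m ∈ zc (S : Subgroup G) :=
          mem_zc.2 ⟨o2C_le (hXO hm), htm, (eab_iff.1 hel).2 m hm⟩
        exact (mem_centralizer_iff.1 (h1 hp) m h2).symm
      · by_cases h2 : P ≤ centralizer ((R ⊓ zc (S : Subgroup G) : Subgroup G) : Set G)
        · right
          left
          intro m hm htm p hp
          exact (mem_centralizer_iff.1 (h2 hp) m (hP.fixR hm htm)).symm
        · right
          right
          rcases hP.alt h0 with h3 | h3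
          · exact ⟨hP.le_o2_one hFO hFR hF2 hPP, h3, Q2 P h0 hPK h2⟩
          · exact (h2 (hP.le_K2 h3)).elim
    bad := bad
    sqA := (eab_iff.1 hF.1).2
    AZ := hF2.trans (o2_le_o2 S (le_inf hSK hP.lK2.le) inf_le_right)
    AX := hFB.trans ((o2_le _).trans (centralizer_le h.XB))
    nk := by
      rw [V_eq_zl]
      exact hc
    mv := fun hcon => hm (hcon.trans (centralizer_le hUX))
    no := by
      intro X hX
      have e1 : (centralizer (X₁ : Set G)).relIndex X =
          (centralizer (zl (S : Subgroup G) (centralizer ({e} : Set G)) : Set G)).relIndex X := by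
        refine relIndex_congr (le_antisymm (inf_le_inf_left _ (centralizer_le hUX)) (le_inf inf_le_left ?_))
        exact (inf_le_inf_right _ hX).trans hc
      rw [e1]
      exact (gml hM h.ctx hP.lK1 (hP.kg hP.lK1) (hX.trans hFO) (fun a ha => (eab_iff.1 hF.1).2 a (hX ha))).trans
        (ri_mono _ hUX)
    le := he.ge
    K := hP.kg hP.lK1 }

/-- **The frame of the nonsplit case is contradictory.** -/
theorem FrM.false_of (hR : NO3b.EndX.RedP.{u, u}) (hE : ML.Ex.Two.Ext.{u, u}) {Q : Subgroup G}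
    (Q1 : centralizer ({e} : Set G) ⊓ normalizer ((S : Subgroup G) : Set G) ≤ Q)
    (Q2 : ∀ P : Subgroup G, IsParS (S : Subgroup G) P → P ≤ centralizer ({e} : Set G) →
      ¬ P ≤ centralizer ((R ⊓ zc (S : Subgroup G) : Subgroup G) : Set G) → P ≤ Q)
    (QX : centralizer ({e} : Set G) ⊓ Q ≤ normalizer (X : Set G))
    (QR : centralizer ({e} : Set G) ⊓ Q ≤ normalizer (R : Set G))
    (QJ : centralizer ({e} : Set G) ⊓ Q ≤ normalizer (((S : Subgroup G) ⊓ centralizer (R : Set G) : Subgroup G) : Set G))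
    (bad : ∀ d ∈ centralizer ({e} : Set G), d ∈ Q → Odd (orderOf d) →
      (∀ j ∈ (S : Subgroup G) ⊓ centralizer (R : Set G), ∀ w ∈ B,
        (j * d * j⁻¹ * d⁻¹) * (d * w * d⁻¹ * w⁻¹) = (d * w * d⁻¹ * w⁻¹) * (j * d * j⁻¹ * d⁻¹)) →
      d ∈ centralizer (X : Set G) ∧ d ∈ centralizer (R : Set G)) : False := by
  rcases h.toFrP.main hM with ⟨A, hA, _, hA1, F, hFA, hFQ, hm, he⟩ |
    ⟨X₁, hel, hn, hVX, hUX, hXO, F, hF, _, hF2, hFB, hm, _, hc, he⟩
  · obtain ⟨X, i1, i2, N, i3, i4, i5, T', A', J', Q', Z₁, Y', hI⟩ := (h.ginR2 hM hA hA1 hFA hFQ hm he).inpR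
    exact hI.false_of hM hR hE
  · exact (h.ginM1 hM hel hn hVX hUX hXO hF hF2 hFB hm hc he Q1 Q2 QX QR QJ bad).false_of hM hR hE

/-- **The same**, `N_G(S)` normalises `X` and `R`; `Q` = `⟨N_G(S), the P ∈ P*(S) which move R ∩ Z⟩`. -/
theorem FrM.false_of_nS (hR : NO3b.EndX.RedP.{u, u}) (hE : ML.Ex.Two.Ext.{u, u})
    (sX : normalizer ((S : Subgroup G) : Set G) ≤ normalizer (X : Set G))
    (sR : normalizer ((S : Subgroup G) : Set G) ≤ normalizer (R : Set G))
    (bad : ∀ d ∈ centralizer ({e} : Set G), d ∈ normalizer ((S : Subgroup G) : Set G) ⊔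
        sSup {P : Subgroup G | IsParS (S : Subgroup G) P ∧ (S : Subgroup G) ⊓ centralizer (R : Set G) ≤ o2 P ∧
          ¬ P ≤ centralizer ((R ⊓ zc (S : Subgroup G) : Subgroup G) : Set G)} →
      d ∈ normalizer (((S : Subgroup G) ⊓ centralizer (R : Set G) : Subgroup G) : Set G) → Odd (orderOf d) →
      (∀ j ∈ (S : Subgroup G) ⊓ centralizer (R : Set G), ∀ w ∈ B,
        (j * d * j⁻¹ * d⁻¹) * (d * w * d⁻¹ * w⁻¹) = (d * w * d⁻¹ * w⁻¹) * (j * d * j⁻¹ * d⁻¹)) →
      d ∈ centralizer (X : Set G) ∧ d ∈ centralizer (R : Set G)) : False := by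
  have hP := h.toFrP
  have hQ : normalizer ((S : Subgroup G) : Set G) ⊔
      sSup {P : Subgroup G | IsParS (S : Subgroup G) P ∧ (S : Subgroup G) ⊓ centralizer (R : Set G) ≤ o2 P ∧
        ¬ P ≤ centralizer ((R ⊓ zc (S : Subgroup G) : Subgroup G) : Set G)} ≤
      (normalizer (X : Set G) ⊓ normalizer (R : Set G)) ⊓
        normalizer (((S : Subgroup G) ⊓ centralizer (R : Set G) : Subgroup G) : Set G) := by
    refine sup_le (fun n hn => ⟨⟨sX hn, sR hn⟩, inf_normalizer_le_normalizer_inf ⟨hn, nc _ (sR hn)⟩⟩)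
      (sSup_le fun P hPP => ?_)
    exact le_inf (le_inf (h.pX' hPP.1 hPP.2.2) ((le_YS hPP.1).trans hP.nR)) (hP.nJ hPP.1 hPP.2.1)
  refine h.false_of hM hR hE
    (Q := normalizer ((S : Subgroup G) : Set G) ⊔
      sSup {P : Subgroup G | IsParS (S : Subgroup G) P ∧ (S : Subgroup G) ⊓ centralizer (R : Set G) ≤ o2 P ∧
        ¬ P ≤ centralizer ((R ⊓ zc (S : Subgroup G) : Subgroup G) : Set G)})
    (inf_le_right.trans le_sup_left) (fun P h1 _ h2 => ?_)
    (inf_le_right.trans (hQ.trans (inf_le_left.trans inf_le_left)))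
    (inf_le_right.trans (hQ.trans (inf_le_left.trans inf_le_right)))
    (inf_le_right.trans (hQ.trans inf_le_right)) (fun d hd hdQ hdo hcom => bad d hd hdQ (hQ hdQ).2 hdo hcom)
  refine le_trans (le_sSup ?_) le_sup_right
  refine ⟨h1, ?_, h2⟩
  rcases hP.alt h1 with h3 | h3
  · exact h3
  · exact (h2 (hP.le_K2 h3)).elim

end frn

end Cfsg.Agent.Omega.NOThreeL.RZ.TwoC
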