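import Cfsg.Agent.Omega.NOThreeL.RZ.TwoC.FrEOf
import Cfsg.Agent.Omega.NOThreeL.RZ.TwoC.LowP
import Cfsg.Agent.Omega.NOThreeL.RRed.EOneTr

/-!
# [R-z], nonsplit (helper855 #26560, helper878, helper133 #25243): the frame `FrP` for `B = [V*, D]`, block-free

`V* = ⟨Z^Y⟩`, `Y = ⟨P*(S)⟩`, `D ≤ Y` normalised by `Y` and `N_G(S)`.

* `exa_of_AA` : `V* ≤ O`, no over-offenders: every `A ∈ AA(O)` is exact on `V*`;
* `low_of` : `C_Z(D) ≠ 1`, `1 ≠ e ∈ Z`, `Y = D C_Y(e)`, `[V*, D] ≤ ⟨Z^D⟩` imply `V* ≤ O₂(C_G(Z))`;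
* `frP_of` : all fields of `FrP S R [V*, D] e` for every `R ≤ V*` which is centralised by `D` and by the exact
  offenders of `S`.
-/

set_option autoImplicit false
set_option linter.unusedSectionVars false

namespace Cfsg.Agent.Omega.NOThreeL.RZ.TwoC.FrPOf

open Subgroup Cfsg
open Cfsg.Agent.ZN (o2 zc zl jj)
open Cfsg.Agent.ZN.ChoiceBase hiding mem_zc
open Cfsg.Agent.Omega.ML.GMod (hul hul_le hul_le_of le_hul cj_le_hul le_normalizer_hul nc)
open Cfsg.Agent.Omega.MinPar Cfsg.Agent.Omega.Frame Cfsg.Agent.Omega.FrameNOFF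
open Cfsg.Agent.Omega.FFThm (ElemM OffM NoOverM)
open Cfsg.Agent.Omega.NO1.BestOff (Best exists_best)
open Cfsg.Agent.Omega.NO3b.Bang (le_normalizer_sup cent_symm)
open Cfsg.Agent.Omega.NOThreeL.Star (YS le_YS S_le_YS zl_mono)
open Cfsg.Agent.Omega.NO3S.EThree.ExactA (eab_iff eab_mono)
open Cfsg.Agent.MinSimple.VModule (zc_le_zl le_normalizer_zl zl_le zc_le zc_sq mem_zc le_centralizer_zc
  le_normalizer_o2 o2_isPGroup o2_le le_o2 normalizer_le_normalizer_zc)
open Cfsg.Agent.Omega.NOThreeL.RTree (RB)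
open Cfsg.Agent.Omega.NOThreeL.RZ (norm_cent norm_V_of norm_commutator_of V_le_of le_norm_V V_mono)
open Cfsg.Agent.Omega.NOThreeL.RRed (Exa)
open Cfsg.Agent.Omega.NOThreeL.RRed.EOne (Vstar_eqD VC Vsq S_YS VS comm_leD VcZ_cent VcZ_le norm_commD)

universe u

variable {G : Type u} [Group G] [Finite G] {S : Sylow 2 G} {D R : Subgroup G} {e : G}

/-- **Every `A ∈ AA(O)` is exact on `V`**, if `V ≤ O` and there are no over-offenders. -/
theorem exa_of_AA {O V L A : Subgroup G} (hV : IsElementaryAbelian 2 V) (hVO : V ≤ O) (hA : A ∈ AA O) (hAL : A ≤ L)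
    (no : NoOverM V L) : ElemM V A ∧ Exa V A := by
  have hb := FrEOf.best_of_mem hV hVO hA
  refine ⟨hb.toElemM, ?_⟩
  have h1 := hb.max (A ⊓ centralizer (V : Set G)) inf_le_left le_rfl
  have h2 : V ⊓ centralizer ((A ⊓ centralizer (V : Set G) : Subgroup G) : Set G) = V :=
    inf_eq_left.2 (cent_symm inf_le_right)
  rw [h2] at h1
  have h3 := no A hAL hb.toElemM
  unfold Exa
  refine le_antisymm ?_ h3
  rwa [mul_comm] at h1

/-- **`V* ≤ O₂(C_G(Z))`** -/
theorem low_of (h : RB S) (hY : YS (S : Subgroup G) ≤ normalizer (D : Set G)) (hD : D ≤ YS (S : Subgroup G))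
    (hZ : zc (S : Subgroup G) ⊓ centralizer (D : Set G) ≠ ⊥) (eZ : e ∈ zc (S : Subgroup G)) (e1 : e ≠ 1)
    (tr : YS (S : Subgroup G) ≤ D ⊔ (YS (S : Subgroup G) ⊓ centralizer ({e} : Set G)))
    (gen : (⁅zl (S : Subgroup G) (YS S), D⁆ : Subgroup G) ≤ hul (zc (S : Subgroup G)) D) :
    zl (S : Subgroup G) (YS S) ≤ o2 (CZ (S : Subgroup G)) := by
  set R₀ : Subgroup G := NoFF.Basic.V (zc (S : Subgroup G) ⊓ centralizer (D : Set G)) (YS (S : Subgroup G)) with hR₀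
  have hRD : R₀ ≤ centralizer (D : Set G) := VcZ_cent hY
  have hDR : D ≤ centralizer (R₀ : Set G) := cent_symm hRD
  have hZR : zc (S : Subgroup G) ⊓ centralizer (D : Set G) ≤ R₀ ⊓ zc (S : Subgroup G) :=
    le_inf (RZ.Z_le _ _) inf_le_left
  have hRV : R₀ ≤ zl (S : Subgroup G) (YS S) := VcZ_le
  have ne : R₀ ⊓ zc (S : Subgroup G) ≠ ⊥ := fun h0 => hZ (le_bot_iff.1 (h0 ▸ hZR))
  refine LowP.low_star (R := R₀) (B := (⁅zl (S : Subgroup G) (YS S), D⁆ : Subgroup G)) h.ctx.char2 (le_norm_V _ _)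
    (S.isPGroup'.to_le (hRV.trans (VS h))) (V_mono hZR le_rfl) ne eZ e1 ?_ (gen.trans ?_) (Vstar_eqD h hY hD).le
  · exact tr.trans (sup_le ((le_inf hD hDR).trans le_sup_left) le_sup_right)
  · exact hul_le_of (le_hul _ _) (hDR.trans (le_normalizer_hul _ _))

/-- **The frame `FrP S R [V*, D] e`.** -/
theorem frP_of (h : RB S) (hY : YS (S : Subgroup G) ≤ normalizer (D : Set G)) (hD : D ≤ YS (S : Subgroup G))
    (nD : normalizer ((S : Subgroup G) : Set G) ≤ normalizer (D : Set G))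
    (hZ : zc (S : Subgroup G) ⊓ centralizer (D : Set G) ≠ ⊥) (eZ : e ∈ zc (S : Subgroup G))
    (eB : e ∈ (⁅zl (S : Subgroup G) (YS S), D⁆ : Subgroup G)) (e1 : e ≠ 1)
    (tr : YS (S : Subgroup G) ≤ D ⊔ (YS (S : Subgroup G) ⊓ centralizer ({e} : Set G)))
    (gen : (⁅zl (S : Subgroup G) (YS S), D⁆ : Subgroup G) ≤ hul (zc (S : Subgroup G)) D)
    (no : NoOverM (zl (S : Subgroup G) (YS S)) (YS (S : Subgroup G)))
    (RV : R ≤ zl (S : Subgroup G) (YS S)) (nR : YS (S : Subgroup G) ≤ normalizer (R : Set G))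
    (nSR : normalizer ((S : Subgroup G) : Set G) ≤ normalizer (R : Set G)) (RD : R ≤ centralizer (D : Set G))
    (ne : R ⊓ zc (S : Subgroup G) ≠ ⊥)
    (hex : ∀ A ≤ (S : Subgroup G), ElemM (zl (S : Subgroup G) (YS S)) A → Exa (zl (S : Subgroup G) (YS S)) A →
      A ≤ centralizer (R : Set G)) :
    FrP S R (⁅zl (S : Subgroup G) (YS S), D⁆ : Subgroup G) e := by
  have low := low_of h hY hD hZ eZ e1 tr gen
  have hsq : ∀ v ∈ zl (S : Subgroup G) (YS S), v ^ 2 = 1 := Vsq h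
  have nB : normalizer ((S : Subgroup G) : Set G) ≤
      normalizer ((⁅zl (S : Subgroup G) (YS S), D⁆ : Subgroup G) : Set G) := norm_commutator_of RZ.Frm.nS_Vs nD
  exact
    { ctx := h.ctx
      full := h.full
      nR := nR
      nB := norm_commD hY
      sE := inf_le_right.trans (le_inf nSR nB)
      sZ := inf_le_right.trans (le_inf nSR nB)
      RV := RV
      BV := comm_leD hD
      ne := ne
      hA := fun A hA => by
        have hAS : A ≤ (S : Subgroup G) := hA.2.1.trans Loc.o2C_le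
        obtain ⟨h1, h2⟩ := exa_of_AA (eab_iff.2 ⟨VC h, hsq⟩) low hA (hAS.trans (S_YS h)) no
        exact hex A hAS h1 h2
      low := low
      vc := VC h
      vs := hsq
      eZ := eZ
      eB := eB
      e1 := e1
      tr := tr.trans (sup_le ((le_inf hD (cent_symm RD)).trans le_sup_left) le_sup_right) }

end Cfsg.Agent.Omega.NOThreeL.RZ.TwoC.FrPOf
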