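import Cfsg.Agent.Omega.NOThreeL.RZ.TwoC.AbP

/-!
# [R-z] (helper133 #25243, helper855 #24885): the minimal parabolics over the frame `FrP`

* `FrP.alt` : `P ∈ P*(S)`: `C_S(R) ≤ O₂(P)` or `P = C_P(R) S`;
* `FrP.le_o2_one` : `F ≤ O`, `F ≤ C(R)`, `F ≤ O₂(K₂)` imply `F ≤ O₂(P)` for all `P ∈ P(S)` (side 1);
* `FrP.le_o2_two` : `F ≤ O`, `F ≤ O₂(C_G(R))` imply `F ≤ O₂(P)` for all `P ∈ P(S)` (side 2);
* `FrP.fixR`, `fixV` : `C_R(S) = R ∩ Z`, `C_{V*}(S) ≤ Z`;  `FrP.nJ` : `P ≤ N(C_S(R))` if `C_S(R) ≤ O₂(P)`;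
* `FrE.sep` : `g ∈ N(R) ∩ N(B)` which centralises `z y`, `z ∈ R`, `y ∈ B`, centralises `z` and `y`.
-/

set_option autoImplicit false
set_option linter.unusedSectionVars false

namespace Cfsg.Agent.Omega.NOThreeL.RZ.TwoC

open Subgroup Cfsg
open Cfsg.Agent.ZN (o2 zc zl jj)
open Cfsg.Agent.ZN.ChoiceBase hiding mem_zc
open Cfsg.Agent.Omega.ML.GMod (nc normalizer_le_normalizer_o2)
open Cfsg.Agent.Omega.MinPar Cfsg.Agent.Omega.Frame Cfsg.Agent.Omega.FrameNOFF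
open Cfsg.Agent.Omega.NOThreeL.Star (YS le_YS S_le_YS)
open Cfsg.Agent.Omega.NoFF.Basic (comm_symm)
open Cfsg.Agent.MinSimple.VModule (zc_le_zl le_normalizer_zl zl_le zc_le zc_sq zc_comm mem_zc le_centralizer_zc
  le_normalizer_o2 o2_isPGroup o2_le le_o2 normalizer_le_normalizer_zc)

universe u

variable {G : Type u} [Group G]

namespace FrP

variable [Finite G] {S : Sylow 2 G} {R B : Subgroup G} {e : G} (h : FrP S R B e)
include h

/-- `P ∈ P*(S)`: `C_S(R) ≤ O₂(P)` or `P = C_P(R) S` -/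
theorem alt {P : Subgroup G} (hP : IsParS (S : Subgroup G) P) :
    (S : Subgroup G) ⊓ centralizer (R : Set G) ≤ o2 P ∨ (P ⊓ centralizer (R : Set G)) ⊔ (S : Subgroup G) = P := by
  have hPR : P ≤ normalizer (R : Set G) := (le_YS hP).trans h.nR
  have hn : P ≤ normalizer ((P ⊓ centralizer (R : Set G) : Subgroup G) : Set G) := by
    intro p hp
    rw [mem_normalizer_iff_cj, cj_inf, cj_centralizer, cj_eq_of_mem_normalizer (le_normalizer hp),
      cj_eq_of_mem_normalizer (hPR hp)]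
  rcases hP.toIsPar.sup_eq_or_inf_le S inf_le_left hn with h1 | h1
  · exact Or.inr h1
  · exact Or.inl ((le_inf inf_le_left (le_inf (inf_le_left.trans hP.le) inf_le_right)).trans h1)

/-- then `P ≤ K₂` -/
theorem le_K2 {P : Subgroup G} (h1 : (P ⊓ centralizer (R : Set G)) ⊔ (S : Subgroup G) = P) :
    P ≤ centralizer ((R ⊓ zc (S : Subgroup G) : Subgroup G) : Set G) := by
  rw [← h1]
  exact sup_le (inf_le_right.trans h.RK) ((le_CZ S).trans h.C2)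

theorem o2C_le_o2 {P : Subgroup G} (hS : (S : Subgroup G) ≤ P) (hP : P ≤ CZ (S : Subgroup G)) :
    o2 (CZ (S : Subgroup G)) ≤ o2 P := o2_le_o2 S hS hP

/-- **side 1**: `F ≤ O₂(P)` for all `P ∈ P(S)` -/
theorem le_o2_one {F : Subgroup G} (hFO : F ≤ o2 (CZ (S : Subgroup G))) (hFR : F ≤ centralizer (R : Set G))
    (hF2 : F ≤ o2 (centralizer ((R ⊓ zc (S : Subgroup G) : Subgroup G) : Set G))) {P : Subgroup G}
    (hP : IsPar (S : Subgroup G) P) : F ≤ o2 P := by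
  rcases h.le_of_par hP with h1 | ⟨h1, _⟩
  · exact hFO.trans (h.o2C_le_o2 hP.le h1)
  · rcases h.alt h1 with h2 | h2
    · exact (le_inf (hFO.trans Loc.o2C_le) hFR).trans h2
    · exact hF2.trans (o2_le_o2 S hP.le (h.le_K2 h2))

theorem nQR : (S : Subgroup G) ≤ normalizer (o2 (centralizer (R : Set G)) : Set G) :=
  ((h.S_le_ys.trans h.nR).trans (nc _)).trans (normalizer_le_normalizer_o2 _)

theorem QR_le : o2 (centralizer (R : Set G)) ≤ (S : Subgroup G) :=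
  le_of_le_normalizer S (o2_isPGroup _) h.nQR

/-- **side 2**: `F ≤ O₂(P)` for all `P ∈ P(S)` -/
theorem le_o2_two {F : Subgroup G} (hFO : F ≤ o2 (CZ (S : Subgroup G)))
    (hFQ : F ≤ o2 (centralizer (R : Set G))) {P : Subgroup G}
    (hP : IsPar (S : Subgroup G) P) : F ≤ o2 P := by
  rcases h.le_of_par hP with h1 | ⟨h1, _⟩
  · exact hFO.trans (h.o2C_le_o2 hP.le h1)
  · rcases h.alt h1 with h2 | h2
    · exact (le_inf (hFO.trans Loc.o2C_le) (hFQ.trans (o2_le _))).trans h2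
    · refine hFQ.trans (le_o2 (h.QR_le.trans hP.le) (o2_isPGroup _) ?_)
      rw [← h2]
      exact sup_le (inf_le_right.trans (le_normalizer_o2 _)) h.nQR

/-- `P ∈ P*(S)` with `C_S(R) ≤ O₂(P)` normalises `C_S(R)` -/
theorem nJ {P : Subgroup G} (hP : IsParS (S : Subgroup G) P)
    (h1 : (S : Subgroup G) ⊓ centralizer (R : Set G) ≤ o2 P) :
    P ≤ normalizer (((S : Subgroup G) ⊓ centralizer (R : Set G) : Subgroup G) : Set G) := by
  have e : (S : Subgroup G) ⊓ centralizer (R : Set G) = o2 P ⊓ centralizer (R : Set G) :=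
    le_antisymm (le_inf h1 inf_le_right) (inf_le_inf_right _ (hP.isLoc.o2_le S))
  rw [e]
  intro p hp
  rw [mem_normalizer_iff_cj, cj_inf, cj_centralizer, cj_eq_of_mem_normalizer (le_normalizer_o2 P hp),
    cj_eq_of_mem_normalizer (h.nR (le_YS hP hp))]

/-- `C_{V*}(S) ≤ Z` -/
theorem fixV {v : G} (hv : v ∈ zl (S : Subgroup G) (YS S)) (hs : ∀ s ∈ (S : Subgroup G), s * v = v * s) :
    v ∈ zc (S : Subgroup G) := mem_zc.2 ⟨h.vS hv, hs, h.vs v hv⟩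

/-- `C_R(S) = R ∩ Z` -/
theorem fixR {v : G} (hv : v ∈ R) (hs : ∀ s ∈ (S : Subgroup G), s * v = v * s) :
    v ∈ R ⊓ zc (S : Subgroup G) := ⟨hv, h.fixV (h.RV hv) hs⟩

end FrP

/-- **`g ∈ N(R) ∩ N(B)` which centralises `z y` centralises `z` and `y`** -/
theorem FrE.sep [Finite G] {S : Sylow 2 G} {R B : Subgroup G} {e : G} (h : FrE S R B e) {g z y : G}
    (hgR : g ∈ normalizer (R : Set G)) (hgB : g ∈ normalizer (B : Set G)) (hz : z ∈ R) (hy : y ∈ B)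
    (hc : g * (z * y) = z * y * g) : g * z = z * g ∧ g * y = y * g := by
  have h1 : g * z * g⁻¹ ∈ R := (mem_normalizer_iff.1 hgR z).1 hz
  have h2 : g * y * g⁻¹ ∈ B := (mem_normalizer_iff.1 hgB y).1 hy
  have e1 : z⁻¹ * (g * z * g⁻¹) = y * (g * y * g⁻¹)⁻¹ := by
    have e2 : g * z * g⁻¹ * (g * y * g⁻¹) = z * y := by
      calc g * z * g⁻¹ * (g * y * g⁻¹) = g * (z * y) * g⁻¹ := by group
        _ = z * y * g * g⁻¹ := by rw [hc]
        _ = z * y := by group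
    calc z⁻¹ * (g * z * g⁻¹) = z⁻¹ * (g * z * g⁻¹ * (g * y * g⁻¹)) * (g * y * g⁻¹)⁻¹ := by group
      _ = z⁻¹ * (z * y) * (g * y * g⁻¹)⁻¹ := by rw [e2]
      _ = y * (g * y * g⁻¹)⁻¹ := by group
  have h3 : z⁻¹ * (g * z * g⁻¹) ∈ B ⊓ R :=
    ⟨by rw [e1]; exact B.mul_mem hy (B.inv_mem h2), R.mul_mem (R.inv_mem hz) h1⟩
  rw [h.spl, mem_bot] at h3
  have h4 : g * z * g⁻¹ = z := (inv_mul_eq_one.1 h3).symm
  have h5 : g * y * g⁻¹ = y := by
    rw [h3] at e1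
    exact (mul_inv_eq_one.1 e1.symm).symm
  exact ⟨mul_inv_eq_iff_eq_mul.1 h4, mul_inv_eq_iff_eq_mul.1 h5⟩

end Cfsg.Agent.Omega.NOThreeL.RZ.TwoC
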