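import Cfsg.Agent.Lib.CoprimeAbelian
import Cfsg.Agent.ZN.ChoiceSit

/-!
# LEMMA X (helper407): the object `X = [C_V(S_E), N_E(S_E)]` of the nonsplit case of [R-z]

`V` an abelian 2-subgroup normalised by `Y`, `E` normal in `Y`, `SE` a Sylow 2-subgroup of `E`, `R ≤ V` centralised by `E`.
`XX SE E V = ⁅V ⊓ C(SE), E ⊓ N(SE)⁆`.

* `inf_eq_bot` : `X ⊓ R = ⊥`;
* `norm_le` : `N(SE) ⊓ N(E) ⊓ N(V) ≤ N(X)`;
* **`sepX`** : for `x, x' ∈ X`, `y ∈ Y`: `x^y ∈ x' R` implies `x^y = x'`;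
* `exists_comp` : `v ∈ V ⊓ C(SE)` is `x c` with `x ∈ X`, `c ∈ C_V(N_E(SE))`;
* **`fact_comp`** : `Y = E C_Y(v)` implies `Y = E C_Y(x)`.
-/

set_option autoImplicit false
set_option linter.unusedSectionVars false

namespace Cfsg.Agent.Omega.NOThreeL.RZ.TwoC.XSep

open Subgroup Cfsg
open Cfsg.Agent.ZN.ChoiceBase (cj mem_cj cj_mono cj_cj cj_inf cj_normalizer cj_centralizer mem_normalizer_iff_cj
  cj_eq_of_mem_normalizer isPGroup_cj mem_normalizer_of_cj_le card_cj)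
open Cfsg.Agent.ZN.ChoiceSit (Syl syl_conj syl_not_dvd)
open Cfsg.Agent.Lib.CoprimeAbelian (eq_one_of_fixed_of_mem_closure exists_fixed_mul)
open scoped commutatorElement

universe u

variable {G : Type u} [Group G]

/-- `X = [C_V(S_E), N_E(S_E)]` -/
def XX (SE E V : Subgroup G) : Subgroup G := ⁅V ⊓ centralizer (SE : Set G), E ⊓ normalizer (SE : Set G)⁆

/-- coprime action of `N` on the abelian 2-group `U`, the Sylow 2-subgroup `T` of `N` acting trivially -/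
theorem cop_inf [Finite G] {U N T : Subgroup G} (hU : IsPGroup 2 U) (hUc : ∀ x ∈ U, ∀ y ∈ U, x * y = y * x)
    (hN : N ≤ normalizer (U : Set G)) (hTU : T ≤ centralizer (U : Set G)) (hT : ¬ 2 ∣ T.relIndex N) :
    ⁅U, N⁆ ⊓ centralizer (N : Set G) = ⊥ ∧
      ∀ u ∈ U, ∃ x ∈ ⁅U, N⁆, ∃ c ∈ U ⊓ centralizer (N : Set G), x * c = u := by
  classical
  let _ : CommGroup U := { (inferInstance : Group U) with
    mul_comm := fun x y => Subtype.ext (hUc x x.2 y y.2) }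
  let φ : N →* MulAut U := (Subgroup.normalizerMonoidHom U).comp (Subgroup.inclusion hN)
  have hφ : ∀ (a : N) (v : U), ((φ a v : U) : G) = a * v * (a : G)⁻¹ := fun a v => rfl
  have hker : T.subgroupOf N ≤ φ.ker := by
    intro t ht
    rw [MonoidHom.mem_ker]
    ext v
    rw [hφ]
    have h1 := mem_centralizer_iff.1 (hTU (mem_subgroupOf.1 ht)) v v.2
    rw [← h1, mul_inv_cancel_right]
    rfl
  have hcop : (Nat.card φ.range).Coprime (Nat.card U) := by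
    have h1 : Nat.card φ.range ∣ T.relIndex N := by
      rw [← Subgroup.index_ker]
      exact Subgroup.index_dvd_of_le hker
    obtain ⟨n, hn⟩ := IsPGroup.iff_card.1 hU
    rw [hn]
    refine Nat.Coprime.pow_right n ?_
    rw [Nat.coprime_comm, Nat.Prime.coprime_iff_not_dvd Nat.prime_two]
    exact fun h2 => hT (h2.trans h1)
  let ψ : φ.range →* MulAut U := φ.range.subtype
  have hle : ⁅U, N⁆ ≤ (closure {w : U | ∃ (a : φ.range) (u : U), w = ψ a u * u⁻¹}).map U.subtype := by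
    rw [commutator_le]
    intro v hv a ha
    rw [mem_map]
    refine ⟨(ψ ⟨φ ⟨a, ha⟩, ⟨⟨a, ha⟩, rfl⟩⟩ ⟨v, hv⟩ * (⟨v, hv⟩ : U)⁻¹)⁻¹,
      inv_mem (subset_closure ⟨⟨φ ⟨a, ha⟩, ⟨⟨a, ha⟩, rfl⟩⟩, ⟨v, hv⟩, rfl⟩), ?_⟩
    change ((φ ⟨a, ha⟩ ⟨v, hv⟩ * (⟨v, hv⟩ : U)⁻¹ : U) : G)⁻¹ = _
    rw [Subgroup.coe_mul, hφ, commutatorElement_def]
    simp [mul_assoc]
  have hge : ∀ w ∈ closure {w : U | ∃ (a : φ.range) (u : U), w = ψ a u * u⁻¹}, (w : G) ∈ ⁅U, N⁆ := by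
    intro w hw
    have h1 : closure {w : U | ∃ (a : φ.range) (u : U), w = ψ a u * u⁻¹} ≤ ⁅U, N⁆.comap U.subtype := by
      rw [closure_le]
      rintro w ⟨⟨_, ⟨a, rfl⟩⟩, u, rfl⟩
      change ((φ a u * u⁻¹ : U) : G) ∈ ⁅U, N⁆
      rw [Subgroup.coe_mul, hφ, ← inv_mem_iff]
      have h2 : ((a : G) * u * (a : G)⁻¹ * ((u⁻¹ : U) : G))⁻¹ = ⁅(u : G), (a : G)⁆ := by
        rw [commutatorElement_def, Subgroup.coe_inv]; group
      rw [h2]
      exact commutator_mem_commutator u.2 a.2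
    exact h1 hw
  refine ⟨?_, fun u hu => ?_⟩
  · rw [eq_bot_iff]
    rintro v ⟨hv, hvc⟩
    rw [mem_bot]
    obtain ⟨w, hw, rfl⟩ := hle hv
    have hfix : ∀ a, ψ a w = w := by
      rintro ⟨_, ⟨a, rfl⟩⟩
      apply Subtype.ext
      change ((φ a w : U) : G) = w
      rw [hφ]
      have h2 := mem_centralizer_iff.1 hvc a a.2
      change (a : G) * (w : G) = (w : G) * (a : G) at h2
      rw [h2, mul_inv_cancel_right]
    rw [eq_one_of_fixed_of_mem_closure ψ hcop w hfix hw, map_one]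
  · obtain ⟨c, w, hc, hw, hcw⟩ := exists_fixed_mul ψ hcop ⟨u, hu⟩
    refine ⟨w, hge w hw, c, ⟨c.2, ?_⟩, ?_⟩
    · refine mem_centralizer_iff.2 fun a ha => ?_
      have h1 := congrArg Subtype.val (hc ⟨φ ⟨a, ha⟩, ⟨⟨a, ha⟩, rfl⟩⟩)
      change ((φ ⟨a, ha⟩ c : U) : G) = c at h1
      rw [hφ] at h1
      exact mul_inv_eq_iff_eq_mul.mp h1
    · have h1 := congrArg Subtype.val hcw
      rw [mul_comm] at h1
      exact h1

section main

variable [Finite G] {Y E V R SE : Subgroup G}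

theorem XX_le_V (hEV : E ≤ normalizer (V : Set G)) : XX SE E V ≤ V := by
  refine commutator_le.2 fun v hv n hn => ?_
  rw [commutatorElement_def, mul_assoc, mul_assoc]
  refine V.mul_mem hv.1 ?_
  have h1 := (mem_normalizer_iff.1 (hEV hn.1) v⁻¹).1 (V.inv_mem hv.1)
  rwa [mul_assoc] at h1

/-- `X` lies in `[V,E]` -/
theorem XX_le_comm : XX SE E V ≤ ⁅V, E⁆ := commutator_mono inf_le_left inf_le_left

theorem norm_U (hEV : E ≤ normalizer (V : Set G)) :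
    E ⊓ normalizer (SE : Set G) ≤ normalizer ((V ⊓ centralizer (SE : Set G) : Subgroup G) : Set G) := by
  rintro n ⟨hn, hs⟩
  rw [mem_normalizer_iff_cj, cj_inf, cj_eq_of_mem_normalizer (hEV hn), cj_centralizer, cj_eq_of_mem_normalizer hs]

theorem XX_le_U (hEV : E ≤ normalizer (V : Set G)) : XX SE E V ≤ V ⊓ centralizer (SE : Set G) := by
  refine commutator_le.2 fun v hv n hn => ?_
  rw [commutatorElement_def, mul_assoc, mul_assoc]
  refine mul_mem hv ?_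
  have h1 := (mem_normalizer_iff.1 (norm_U hEV hn) v⁻¹).1 (inv_mem hv)
  rwa [mul_assoc] at h1

/-- `N(SE) ∩ N(E) ∩ N(V)` normalises `X` -/
theorem norm_le : normalizer (SE : Set G) ⊓ normalizer (E : Set G) ⊓ normalizer (V : Set G) ≤
    normalizer (XX SE E V : Set G) := by
  rintro n ⟨⟨h1, h2⟩, h3⟩
  rw [mem_normalizer_iff_cj, XX, cj, map_commutator]
  change ⁅cj n _, cj n _⁆ = _
  rw [cj_inf, cj_inf, cj_centralizer, cj_normalizer, cj_eq_of_mem_normalizer h1, cj_eq_of_mem_normalizer h2,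
    cj_eq_of_mem_normalizer h3]

/-- a conjugate of a Sylow 2-subgroup of `E` inside `E` -/
theorem syl_cj {T X : Subgroup G} (hT : Syl T X) {g : G} {X' : Subgroup G} (hX' : X' ≤ X) (h : cj g T ≤ X') :
    Syl (cj g T) X' := by
  refine ⟨h, isPGroup_cj g hT.2.1, fun Q hQ h2 h3 => ?_⟩
  refine (Subgroup.eq_of_le_of_card_ge h3 ?_).symm
  rw [card_cj]
  obtain ⟨Q', hQ', h4⟩ := Cfsg.Agent.ZN.ChoiceSit.exists_syl h2 (hQ.trans hX')
  obtain ⟨z, -, h5⟩ := syl_conj hQ' hT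
  rw [← h5, card_cj]
  exact Subgroup.card_le_of_le h4

/-- Frattini: `Y = E N_Y(SE)` -/
theorem frattini (hSE : Syl SE E) (hYE : Y ≤ normalizer (E : Set G)) {y : G} (hy : y ∈ Y) :
    ∃ g ∈ E, ∃ n ∈ normalizer (SE : Set G), y = g * n := by
  have h1 : Syl (cj y SE) E := by
    refine syl_cj hSE le_rfl ?_
    rw [← cj_eq_of_mem_normalizer (hYE hy)]
    exact cj_mono y hSE.1
  obtain ⟨g, hg, h2⟩ := syl_conj h1 hSE
  rw [cj_cj] at h2
  exact ⟨g⁻¹, E.inv_mem hg, g * y, mem_normalizer_iff_cj.2 h2, by group⟩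

/-- Burnside: `x` and `x^g`, `g ∈ E`, centralised by `SE`, are conjugate under `N_E(SE)` -/
theorem burnside (hSE : Syl SE E) {x g : G} (hg : g ∈ E) (hx : x ∈ centralizer (SE : Set G))
    (hgx : g * x * g⁻¹ ∈ centralizer (SE : Set G)) :
    ∃ c ∈ E, c * g ∈ normalizer (SE : Set G) ∧ (c * g) * x * (c * g)⁻¹ = g * x * g⁻¹ := by
  have hw1 : SE ≤ centralizer ({g * x * g⁻¹} : Set G) := by
    intro s hs
    rw [mem_centralizer_singleton_iff]
    exact mem_centralizer_iff.1 hgx s hs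
  have hw2 : cj g SE ≤ centralizer ({g * x * g⁻¹} : Set G) := by
    intro s hs
    rw [mem_centralizer_singleton_iff]
    have h1 := mem_centralizer_iff.1 hx _ (mem_cj.1 hs)
    calc s * (g * x * g⁻¹) = g * ((g⁻¹ * s * g) * x) * g⁻¹ := by group
      _ = g * (x * (g⁻¹ * s * g)) * g⁻¹ := by rw [h1]
      _ = g * x * g⁻¹ * s := by group
  have hgE : cj g SE ≤ E := by
    rw [← cj_eq_of_mem_normalizer (le_normalizer hg)]
    exact cj_mono g hSE.1
  have hs1 : Syl SE (E ⊓ centralizer ({g * x * g⁻¹} : Set G)) :=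
    ⟨le_inf hSE.1 hw1, hSE.2.1, fun Q hQ h2 h3 => hSE.2.2 Q (hQ.trans inf_le_left) h2 h3⟩
  have hs2 : Syl (cj g SE) (E ⊓ centralizer ({g * x * g⁻¹} : Set G)) :=
    syl_cj hSE inf_le_left (le_inf hgE hw2)
  obtain ⟨c, ⟨hcE, hcw⟩, hc⟩ := syl_conj hs2 hs1
  rw [cj_cj] at hc
  refine ⟨c, hcE, mem_normalizer_iff_cj.2 hc, ?_⟩
  have h1 := mem_centralizer_singleton_iff.1 hcw
  calc (c * g) * x * (c * g)⁻¹ = c * (g * x * g⁻¹) * c⁻¹ := by group
    _ = (g * x * g⁻¹) * c * c⁻¹ := by rw [h1]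
    _ = g * x * g⁻¹ := by group

variable (hSE : Syl SE E) (hEV : E ≤ normalizer (V : Set G)) (hV : IsPGroup 2 V)
  (hVc : V ≤ centralizer (V : Set G)) (hRV : R ≤ V) (hRE : E ≤ centralizer (R : Set G))

include hSE hEV hV hVc

theorem cop : ⁅V ⊓ centralizer (SE : Set G), E ⊓ normalizer (SE : Set G)⁆ ⊓
        centralizer ((E ⊓ normalizer (SE : Set G) : Subgroup G) : Set G) = ⊥ ∧
      ∀ u ∈ V ⊓ centralizer (SE : Set G), ∃ x ∈ ⁅V ⊓ centralizer (SE : Set G), E ⊓ normalizer (SE : Set G)⁆,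
        ∃ c ∈ (V ⊓ centralizer (SE : Set G)) ⊓ centralizer ((E ⊓ normalizer (SE : Set G) : Subgroup G) : Set G),
          x * c = u := by
  refine cop_inf (hV.to_le inf_le_left) (fun x hx y hy => ?_) (norm_U hEV) (T := SE) ?_ ?_
  · exact (mem_centralizer_iff.1 (hVc hx.1) y hy.1).symm
  · intro s hs
    rw [mem_centralizer_iff]
    intro v hv
    exact (mem_centralizer_iff.1 hv.2 s hs).symm
  · have h1 : SE ≤ E ⊓ normalizer (SE : Set G) := le_inf hSE.1 le_normalizer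
    have h2 : Syl SE (E ⊓ normalizer (SE : Set G)) :=
      ⟨h1, hSE.2.1, fun Q hQ h2 h3 => hSE.2.2 Q (hQ.trans inf_le_left) h2 h3⟩
    exact syl_not_dvd h2

/-- `C_V(SE) = X × C` -/
theorem exists_comp {u : G} (hu : u ∈ V ⊓ centralizer (SE : Set G)) : ∃ x ∈ XX SE E V,
    ∃ c ∈ (V ⊓ centralizer (SE : Set G)) ⊓ centralizer ((E ⊓ normalizer (SE : Set G) : Subgroup G) : Set G),
      x * c = u := (cop hSE hEV hV hVc).2 u hu

/-- the `X`-component of a fixed vector is fixed -/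
theorem comp_fix {m x c : G} (hx : x ∈ XX SE E V)
    (hc : c ∈ (V ⊓ centralizer (SE : Set G)) ⊓ centralizer ((E ⊓ normalizer (SE : Set G) : Subgroup G) : Set G))
    (h1 : m ∈ normalizer (SE : Set G)) (h2 : m ∈ normalizer (E : Set G)) (h3 : m ∈ normalizer (V : Set G))
    (hm : m * (x * c) * m⁻¹ = x * c) : m * x * m⁻¹ = x := by
  have hx' : m * x * m⁻¹ ∈ XX SE E V := (mem_normalizer_iff.1 (norm_le ⟨⟨h1, h2⟩, h3⟩) x).1 hx
  have hc' : m * c * m⁻¹ ∈ centralizer ((E ⊓ normalizer (SE : Set G) : Subgroup G) : Set G) := by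
    have h4 : m ∈ normalizer (centralizer ((E ⊓ normalizer (SE : Set G) : Subgroup G) : Set G) : Set G) := by
      rw [mem_normalizer_iff_cj, cj_centralizer, cj_inf, cj_normalizer, cj_eq_of_mem_normalizer h1,
        cj_eq_of_mem_normalizer h2]
    exact (mem_normalizer_iff.1 h4 c).1 hc.2
  have h5 : x⁻¹ * (m * x * m⁻¹) = c * (m * c * m⁻¹)⁻¹ := by
    have e1 : (m * x * m⁻¹) * (m * c * m⁻¹) = x * c := by rw [← hm]; group
    calc x⁻¹ * (m * x * m⁻¹) = x⁻¹ * ((m * x * m⁻¹) * (m * c * m⁻¹)) * (m * c * m⁻¹)⁻¹ := by group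
      _ = x⁻¹ * (x * c) * (m * c * m⁻¹)⁻¹ := by rw [e1]
      _ = c * (m * c * m⁻¹)⁻¹ := by group
  have h6 : x⁻¹ * (m * x * m⁻¹) ∈ XX SE E V ⊓ centralizer ((E ⊓ normalizer (SE : Set G) : Subgroup G) : Set G) := by
    refine ⟨Subgroup.mul_mem _ (Subgroup.inv_mem _ hx) hx', ?_⟩
    rw [h5]
    exact Subgroup.mul_mem _ hc.2 (Subgroup.inv_mem _ hc')
  have h7 : x⁻¹ * (m * x * m⁻¹) = 1 := by
    have := (cop hSE hEV hV hVc).1.le h6
    exact mem_bot.1 this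
  exact (inv_mul_eq_one.1 h7).symm

/-- **the factorization for the `X`-component** -/
theorem fact_comp (hEY : E ≤ Y) (hYE : Y ≤ normalizer (E : Set G)) (hYV : Y ≤ normalizer (V : Set G)) {x c : G}
    (hx : x ∈ XX SE E V)
    (hc : c ∈ (V ⊓ centralizer (SE : Set G)) ⊓ centralizer ((E ⊓ normalizer (SE : Set G) : Subgroup G) : Set G))
    (hf : Y ≤ E ⊔ (Y ⊓ centralizer ({x * c} : Set G))) : Y ≤ E ⊔ (Y ⊓ centralizer ({x} : Set G)) := by
  intro y hy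
  obtain ⟨g, hg, n, hn, rfl⟩ := frattini hSE hYE hy
  have hnY : n ∈ Y := by
    have := mul_mem (Y.inv_mem (hEY hg)) hy
    rwa [inv_mul_cancel_left] at this
  have hle : Y ⊓ centralizer ({x * c} : Set G) ≤ normalizer (E : Set G) := inf_le_left.trans hYE
  have h1 : n ∈ ((E ⊔ (Y ⊓ centralizer ({x * c} : Set G)) : Subgroup G) : Set G) := hf hnY
  rw [coe_mul_of_right_le_normalizer_left _ _ hle] at h1
  obtain ⟨g1, hg1, k, hk, hgk⟩ := h1
  have hgk' : g1 * k = n := hgk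
  have hk1 : k * (x * c) * k⁻¹ = x * c := by
    rw [mem_centralizer_singleton_iff.1 hk.2, mul_inv_cancel_right]
  have hU : x * c ∈ V ⊓ centralizer (SE : Set G) := mul_mem (XX_le_U hEV hx) hc.1
  have e1 : g1 * (x * c) * g1⁻¹ = n * (x * c) * n⁻¹ := by
    rw [← hgk']
    calc g1 * (x * c) * g1⁻¹ = g1 * (k * (x * c) * k⁻¹) * g1⁻¹ := by rw [hk1]
      _ = g1 * k * (x * c) * (g1 * k)⁻¹ := by group
  have h2 : g1 * (x * c) * g1⁻¹ ∈ centralizer (SE : Set G) := by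
    rw [e1]
    have h4 : n ∈ normalizer (centralizer (SE : Set G) : Set G) := by
      rw [mem_normalizer_iff_cj, cj_centralizer, cj_eq_of_mem_normalizer hn]
    exact (mem_normalizer_iff.1 h4 _).1 hU.2
  obtain ⟨d, hd, hdn, hdx⟩ := burnside hSE hg1 hU.2 h2
  -- `m = (d g₁)⁻¹ n` fixes `x c`
  have hdg : d * g1 ∈ E := mul_mem hd hg1
  have hm0 : (d * g1)⁻¹ * n * (x * c) * ((d * g1)⁻¹ * n)⁻¹ = x * c := by
    calc (d * g1)⁻¹ * n * (x * c) * ((d * g1)⁻¹ * n)⁻¹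
        = (d * g1)⁻¹ * (n * (x * c) * n⁻¹) * (d * g1) := by group
      _ = (d * g1)⁻¹ * (g1 * (x * c) * g1⁻¹) * (d * g1) := by rw [e1]
      _ = (d * g1)⁻¹ * ((d * g1) * (x * c) * (d * g1)⁻¹) * (d * g1) := by rw [hdx]
      _ = x * c := by group
  have hmY : (d * g1)⁻¹ * n ∈ Y := mul_mem (Y.inv_mem (hEY hdg)) hnY
  have hm1 := comp_fix hSE hEV hV hVc hx hc (m := (d * g1)⁻¹ * n)
    (mul_mem (Subgroup.inv_mem _ hdn) hn) (hYE hmY) (hYV hmY) hm0
  have hm2 : (d * g1)⁻¹ * n ∈ Y ⊓ centralizer ({x} : Set G) :=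
    ⟨hmY, mem_centralizer_singleton_iff.2 (mul_inv_eq_iff_eq_mul.1 hm1)⟩
  have e2 : g * n = (g * (d * g1)) * ((d * g1)⁻¹ * n) := by group
  rw [e2]
  exact mul_mem (mem_sup_left (mul_mem hg hdg)) (mem_sup_right hm2)

include hRV hRE

theorem inf_eq_bot : XX SE E V ⊓ R = ⊥ := by
  rw [eq_bot_iff, ← (cop hSE hEV hV hVc).1]
  refine inf_le_inf_left _ ?_
  intro r hr
  rw [mem_centralizer_iff]
  intro n hn
  exact (mem_centralizer_iff.1 (hRE hn.1) r hr).symm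

/-- **`X` is separated modulo `R`** -/
theorem sepX_E {x x' g : G} (hx : x ∈ XX SE E V) (hx' : x' ∈ XX SE E V) (hg : g ∈ E)
    (h : x'⁻¹ * (g * x * g⁻¹) ∈ R) : g * x * g⁻¹ = x' := by
  have hxU := XX_le_U hEV hx
  have hxU' := XX_le_U hEV hx'
  have hw1 : g * x * g⁻¹ ∈ centralizer (SE : Set G) := by
    have h1 : x'⁻¹ * (g * x * g⁻¹) ∈ centralizer (SE : Set G) :=
      mem_centralizer_iff.2 fun s hs => (mem_centralizer_iff.1 (hRE (hSE.1 hs)) _ h).symm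
    have e : g * x * g⁻¹ = x' * (x'⁻¹ * (g * x * g⁻¹)) := by group
    rw [e]
    exact Subgroup.mul_mem _ hxU'.2 h1
  obtain ⟨c, hcE, hcn, hcx⟩ := burnside hSE hg hxU.2 hw1
  have hX : g * x * g⁻¹ ∈ XX SE E V := by
    rw [← hcx]
    have h1 : c * g ∈ normalizer (XX SE E V : Set G) :=
      norm_le ⟨⟨hcn, le_normalizer (mul_mem hcE hg)⟩, hEV (mul_mem hcE hg)⟩
    exact (mem_normalizer_iff.1 h1 x).1 hx
  have h5 : x'⁻¹ * (g * x * g⁻¹) ∈ XX SE E V ⊓ R := ⟨Subgroup.mul_mem _ (Subgroup.inv_mem _ hx') hX, h⟩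
  rw [inf_eq_bot hSE hEV hV hVc hRV hRE, mem_bot] at h5
  exact (inv_mul_eq_one.1 h5).symm

/-- **sepX** -/
theorem sepX (hEY : E ≤ Y) (hYE : Y ≤ normalizer (E : Set G)) (hYV : Y ≤ normalizer (V : Set G)) {x x' y : G}
    (hx : x ∈ XX SE E V) (hx' : x' ∈ XX SE E V) (hy : y ∈ Y) (h : x'⁻¹ * (y * x * y⁻¹) ∈ R) :
    y * x * y⁻¹ = x' := by
  obtain ⟨g, hg, n, hn, rfl⟩ := frattini hSE hYE hy
  have hnY : n ∈ Y := by
    have := mul_mem (Y.inv_mem (hEY hg)) hy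
    rwa [inv_mul_cancel_left] at this
  have hnX : n * x * n⁻¹ ∈ XX SE E V := (mem_normalizer_iff.1 (norm_le ⟨⟨hn, hYE hnY⟩, hYV hnY⟩) x).1 hx
  have e1 : g * n * x * (g * n)⁻¹ = g * (n * x * n⁻¹) * g⁻¹ := by group
  rw [e1] at h ⊢
  exact sepX_E hSE hEV hV hVc hRV hRE hnX hx' hg h

end main

end Cfsg.Agent.Omega.NOThreeL.RZ.TwoC.XSep
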